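/-
The multiplicative orders of `q ^ 2` and `-q` modulo a prime, and the primes dividing unitary group orders.
-/
import Cfsg.Agent.Lib.Classical.HermOrder

set_option autoImplicit false

namespace CfsgLib.Classical.UnitElusive

open CfsgLib.Classical

universe u

variable {r q : ℕ} [hr : Fact r.Prime]

/-- The order of `q ^ 2` modulo `r`. -/
noncomputable def bOrd (r q : ℕ) : ℕ := orderOf ((q : ZMod r) ^ 2)

/-- The order of `-q` modulo `r`. -/
noncomputable def cOrd (r q : ℕ) : ℕ := orderOf (-(q : ZMod r))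

theorem bOrd_eq_card {F : Type u} [Field F] [Fintype F] (hF : Fintype.card F = q ^ 2) :
    bOrd r q = orderOf (Fintype.card F : ZMod r) := by
  rw [bOrd, hF, Nat.cast_pow]

theorem q_ne_zero {F : Type u} [Field F] [Fintype F] (hF : Fintype.card F = q ^ 2) (hrF : (r : F) ≠ 0) :
    (q : ZMod r) ≠ 0 := fun h => hrF (by
  obtain ⟨k, hk⟩ := (ZMod.natCast_eq_zero_iff q r).1 h
  have h2 : (q : F) = 0 := by
    have h3 := Nat.cast_card_eq_zero F
    rw [hF, Nat.cast_pow] at h3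
    exact eq_zero_of_pow_eq_zero h3
  rw [hk, Nat.cast_mul] at h2
  rcases mul_eq_zero.1 h2 with h3 | h3
  · exact h3
  -- `r` and the characteristic are coprime otherwise
  · exfalso
    obtain ⟨p, hp⟩ := CharP.exists F
    haveI := Fact.mk (CharP.char_is_prime F p)
    obtain ⟨e, hpp, he⟩ := FiniteField.card F p
    have hpq : p ^ (e : ℕ) = q ^ 2 := he ▸ hF
    have h4 : r ∣ p := hr.out.dvd_of_dvd_pow (show r ∣ p ^ (e : ℕ) from hpq ▸ dvd_pow ⟨k, hk⟩ two_ne_zero)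
    exact hrF ((CharP.cast_eq_zero_iff F p r).2 (((Nat.prime_dvd_prime_iff_eq hr.out hpp).1 h4) ▸ dvd_refl r)))

section

variable (hq : (q : ZMod r) ≠ 0)
include hq

theorem bOrd_pos : 0 < bOrd r q := orderOf_pos_iff.2 (isOfFinOrder_iff_pow_eq_one.2
  ⟨r - 1, by have := hr.out.two_le; omega, ZMod.pow_card_sub_one_eq_one (pow_ne_zero _ hq)⟩)

theorem cOrd_pos : 0 < cOrd r q := orderOf_pos_iff.2 (isOfFinOrder_iff_pow_eq_one.2
  ⟨r - 1, by have := hr.out.two_le; omega, ZMod.pow_card_sub_one_eq_one (neg_ne_zero.2 hq)⟩)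

omit hq in
theorem bOrd_dvd_cOrd : bOrd r q ∣ cOrd r q := orderOf_dvd_of_pow_eq_one (by
  rw [cOrd, ← neg_sq, ← pow_mul, mul_comm, pow_mul, pow_orderOf_eq_one, one_pow])

omit hq in
theorem cOrd_dvd_two : cOrd r q ∣ 2 * bOrd r q := orderOf_dvd_of_pow_eq_one (by
  rw [pow_mul, neg_sq, bOrd, pow_orderOf_eq_one])

theorem cOrd_cases : cOrd r q = bOrd r q ∨ cOrd r q = 2 * bOrd r q := by
  obtain ⟨k, hk⟩ := bOrd_dvd_cOrd (r := r) (q := q)
  have h2 := cOrd_dvd_two (r := r) (q := q)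
  rw [hk, mul_comm 2] at h2
  have h3 := Nat.le_of_dvd two_pos (Nat.dvd_of_mul_dvd_mul_left (bOrd_pos hq) h2)
  have hc := cOrd_pos hq
  rw [hk] at hc
  have h4 : 0 < k := Nat.pos_of_mul_pos_left hc
  rcases (show k = 1 ∨ k = 2 by omega) with rfl | rfl
  · left; rw [hk, mul_one]
  · right; rw [hk, mul_comm]

theorem bOrd_le : bOrd r q ≤ r - 1 :=
  Nat.le_of_dvd (by have := hr.out.two_le; omega)
    (orderOf_dvd_of_pow_eq_one (ZMod.pow_card_sub_one_eq_one (pow_ne_zero _ hq)))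

theorem bOrd_dvd_sub : bOrd r q ∣ r - 1 :=
  orderOf_dvd_of_pow_eq_one (ZMod.pow_card_sub_one_eq_one (pow_ne_zero _ hq))

theorem bOrd_formula : bOrd r q = if Even (orderOf (q : ZMod r)) then orderOf (q : ZMod r) / 2
    else orderOf (q : ZMod r) := by
  rw [bOrd, orderOf_pow' _ two_ne_zero]
  split_ifs with h
  · rw [Nat.gcd_eq_right h.two_dvd]
  · rw [(Nat.coprime_two_right.2 (Nat.not_even_iff_odd.1 h)).gcd_eq_one, Nat.div_one]

theorem cOrd_formula (hr2 : r ≠ 2) : cOrd r q = if orderOf (q : ZMod r) % 4 = 0 then orderOf (q : ZMod r)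
    else if orderOf (q : ZMod r) % 4 = 2 then orderOf (q : ZMod r) / 2 else 2 * orderOf (q : ZMod r) := by
  obtain ⟨i, hi⟩ : ∃ i, i = orderOf (q : ZMod r) := ⟨_, rfl⟩
  have hb := bOrd_formula hq
  have hb0 := bOrd_pos hq
  rw [← hi] at hb ⊢
  have h1 : (-1 : ZMod r) ≠ 1 := fun h => hr2 ((Nat.prime_dvd_prime_iff_eq hr.out Nat.prime_two).1
    ((ZMod.natCast_eq_zero_iff 2 r).1 (by push_cast; linear_combination -h)))
  have key : (-(q : ZMod r)) ^ bOrd r q = 1 ↔ i % 4 = 2 := by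
    rw [neg_pow]
    by_cases he : Even i
    · rw [if_pos he] at hb
      obtain ⟨k, hk⟩ := he
      have hqb : (q : ZMod r) ^ bOrd r q = -1 := by
        have h2 : ((q : ZMod r) ^ bOrd r q) ^ 2 = 1 := by
          rw [← pow_mul, show bOrd r q * 2 = i by omega, hi, pow_orderOf_eq_one]
        rcases sq_eq_one_iff.1 h2 with h | h
        · have := Nat.le_of_dvd hb0 (hi ▸ orderOf_dvd_of_pow_eq_one h)
          omega
        · exact h
      rw [hqb]
      rcases Nat.even_or_odd (bOrd r q) with h | h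
      · rw [h.neg_one_pow, one_mul]
        obtain ⟨j, hj⟩ := h
        exact ⟨fun e => absurd e h1, fun e => by omega⟩
      · rw [h.neg_one_pow]
        obtain ⟨j, hj⟩ := h
        exact ⟨fun _ => by omega, fun _ => by ring⟩
    · rw [if_neg he] at hb
      rw [hb, hi, pow_orderOf_eq_one, ← hi, (Nat.not_even_iff_odd.1 he).neg_one_pow, mul_one]
      exact ⟨fun e => absurd e h1, fun e => absurd (Nat.even_iff.2 (show i % 2 = 0 by omega)) he⟩
  by_cases h4 : i % 4 = 2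
  · rw [if_neg (by omega), if_pos h4]
    have h5 := Nat.le_of_dvd hb0 (orderOf_dvd_of_pow_eq_one (key.2 h4))
    rw [if_pos (Nat.even_iff.2 (by omega))] at hb
    rcases cOrd_cases hq with h | h
    · rw [h, hb]
    · rw [cOrd] at h; omega
  · have h5 : cOrd r q = 2 * bOrd r q := (cOrd_cases hq).resolve_left fun h =>
      h4 (key.1 (h ▸ pow_orderOf_eq_one _))
    rw [if_neg h4, h5, hb]
    by_cases h0 : i % 4 = 0
    · rw [if_pos h0, if_pos (Nat.even_iff.2 (by omega))]; omega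
    · rw [if_neg h0, if_neg (fun he => by have := Nat.even_iff.1 he; omega)]

omit hq in
theorem cOrd_eq_one_iff : cOrd r q = 1 ↔ r ∣ q + 1 := by
  rw [cOrd, orderOf_eq_one_iff, ← ZMod.natCast_eq_zero_iff, Nat.cast_add, Nat.cast_one, neg_eq_iff_eq_neg,
    add_eq_zero_iff_eq_neg]

omit hq in
theorem cOrd_dvd_iff (hq1 : 1 ≤ q) (j : ℕ) :
    r ∣ (if Odd j then q ^ j + 1 else q ^ j - 1) ↔ cOrd r q ∣ j := by
  rw [← ZMod.natCast_eq_zero_iff, cOrd, orderOf_dvd_iff_pow_eq_one, neg_pow]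
  split_ifs with h
  · rw [h.neg_one_pow, neg_one_mul, neg_eq_iff_eq_neg, Nat.cast_add, Nat.cast_one, Nat.cast_pow,
      add_eq_zero_iff_eq_neg]
  · rw [(Nat.not_odd_iff_even.1 h).neg_one_pow, one_mul, Nat.cast_sub (Nat.one_le_pow _ _ hq1), Nat.cast_one,
      Nat.cast_pow, sub_eq_zero]

theorem exists_mul_of_dvd_range (hq1 : 1 ≤ q) {a n : ℕ}
    (h : r ∣ ∏ i ∈ Finset.Ico a n, (if Even i then q ^ (i + 1) + 1 else q ^ (i + 1) - 1)) :
    ∃ j, a < j ∧ j ≤ n ∧ cOrd r q ∣ j := by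
  obtain ⟨i, hi, hd⟩ := (Prime.dvd_finset_prod_iff hr.out.prime _).1 h
  rw [Finset.mem_Ico] at hi
  refine ⟨i + 1, by omega, by omega, (cOrd_dvd_iff hq1 _).1 ?_⟩
  by_cases he : Even i
  · rw [if_pos he] at hd
    rwa [if_pos he.add_one]
  · rw [if_neg he] at hd
    rwa [if_neg fun ho => he (by rw [Nat.odd_add_one, Nat.not_odd_iff_even] at ho; exact ho)]

theorem le_of_dvd_unitaryOrder (hq1 : 1 ≤ q) {n : ℕ} (h : r ∣ unitaryOrder q n) : cOrd r q ≤ n := by
  rw [unitaryOrder] at h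
  rcases hr.out.dvd_mul.1 h with h | h
  · exact absurd ((ZMod.natCast_eq_zero_iff q r).2 (hr.out.dvd_of_dvd_pow h)) hq
  · rw [Finset.range_eq_Ico] at h
    obtain ⟨j, hj, hjn, hd⟩ := exists_mul_of_dvd_range hq hq1 h
    exact le_trans (Nat.le_of_dvd hj hd) hjn

omit hq in
theorem dvd_unitaryOrder (hq1 : 1 ≤ q) (hq : (q : ZMod r) ≠ 0) {n : ℕ} (h : cOrd r q ≤ n) :
    r ∣ unitaryOrder q n := by
  have hc := cOrd_pos hq
  rw [unitaryOrder]
  refine Dvd.dvd.mul_left (dvd_trans ?_ (Finset.dvd_prod_of_mem _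
    (Finset.mem_range.2 (show cOrd r q - 1 < n by omega)))) _
  have hd := (cOrd_dvd_iff (r := r) hq1 (cOrd r q)).2 dvd_rfl
  by_cases he : Even (cOrd r q - 1)
  · have ho : Odd (cOrd r q) := by have := he.add_one; rwa [Nat.sub_add_cancel (show 1 ≤ cOrd r q from hc)] at this
    rw [if_pos ho] at hd
    rw [if_pos he, Nat.sub_add_cancel (show 1 ≤ cOrd r q from hc)]
    exact hd
  · have ho : ¬ Odd (cOrd r q) := fun ho => he (Nat.Odd.sub_odd ho odd_one)
    rw [if_neg ho] at hd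
    rw [if_neg he, Nat.sub_add_cancel (show 1 ≤ cOrd r q from hc)]
    exact hd

end

end CfsgLib.Classical.UnitElusive
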