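/-
Non-degenerate and totally isotropic subspaces of the standard Hermitian space, and isometric embeddings.
-/
import Cfsg.Agent.Lib.Classical.HermFrames
import Cfsg.Agent.Lib.Classical.UnitaryConjugacy
import Cfsg.Agent.Lib.Classical.PrimaryDecomp
import Cfsg.Agent.Lib.Classical22.PrimeOrderMaps

set_option autoImplicit false

namespace CfsgLib.Classical.UnitElusive

open Module Polynomial CfsgLib.Classical Cfsg CfsgLib.Classical22.PrimeMaps

universe u

variable {F : Type u} [Field F] {q n d : ℕ}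

/-- The restriction of the form is non-degenerate. -/
def HNd (q : ℕ) (W : Submodule F (Fin n → F)) : Prop := ∀ u ∈ W, (∀ v ∈ W, hermForm n F q u v = 0) → u = 0

/-- The restriction of the form vanishes. -/
def HIso (q : ℕ) (W : Submodule F (Fin n → F)) : Prop := ∀ u ∈ W, ∀ v ∈ W, hermForm n F q u v = 0

theorem hnd_iff {W : Submodule F (Fin n → F)} :
    HNd q W ↔ ∀ u ∈ W, u ≠ 0 → ∃ v ∈ W, hermForm n F q u v ≠ 0 := by
  constructor
  · intro h u hu h0
    by_contra hc
    push Not at hc
    exact h0 (h u hu hc)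
  · intro h u hu hz
    by_contra h0
    obtain ⟨v, hv, hne⟩ := h u hu h0
    exact hne (hz v hv)

/-- The orthogonal complement. -/
def horth (q : ℕ) (W : Submodule F (Fin n → F)) : Submodule F (Fin n → F) where
  carrier := {x | ∀ w ∈ W, hermForm n F q x w = 0}
  add_mem' {a b} ha hb w hw := by rw [hermForm_add_left, ha w hw, hb w hw, add_zero]
  zero_mem' w _ := by simp [hermForm]
  smul_mem' c x hx w hw := by rw [hermForm_smul_left, hx w hw, mul_zero]

theorem h_zero_left (v : Fin n → F) : hermForm n F q (0 : Fin n → F) v = 0 := by simp [hermForm]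

theorem h_sub_left (u v w : Fin n → F) : hermForm n F q (u - v) w = hermForm n F q u w - hermForm n F q v w := by
  simp [hermForm, sub_mul, Finset.sum_sub_distrib]

/-- An isometric linear map between standard spaces. -/
def IsEmb (q : ℕ) (ι : (Fin d → F) →ₗ[F] (Fin n → F)) : Prop :=
  ∀ a b, hermForm n F q (ι a) (ι b) = hermForm d F q a b

variable [Fintype F] (hF : Fintype.card F = q ^ 2)
include hF

theorem h_add_right (u v w : Fin n → F) : hermForm n F q u (v + w) = hermForm n F q u v + hermForm n F q u w := by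
  obtain ⟨σ, hσ, -, -⟩ := exists_qPow hF
  simp [hermForm_apply n hσ, mul_add, Finset.sum_add_distrib]

theorem h_smul_right (a : F) (u v : Fin n → F) : hermForm n F q u (a • v) = a ^ q * hermForm n F q u v := by
  obtain ⟨σ, hσ, -, -⟩ := exists_qPow hF
  simp only [hermForm_apply n hσ, Pi.smul_apply, smul_eq_mul, map_mul, ← hσ, Finset.mul_sum]
  exact Finset.sum_congr rfl fun i _ => by ring

theorem h_zero_right (u : Fin n → F) : hermForm n F q u 0 = 0 :=
  herm_flip hF (h_zero_left u)

theorem emb_injective {ι : (Fin d → F) →ₗ[F] (Fin n → F)} (hι : IsEmb q ι) : Function.Injective ι := by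
  obtain ⟨σ, hσ, -, -⟩ := exists_qPow hF
  refine (injective_iff_map_eq_zero ι).2 fun a ha => funext fun i => ?_
  have h := hι a (Pi.single i 1)
  rw [ha, h_zero_left, hermForm_apply d hσ, Finset.sum_eq_single i (fun j _ hj => by simp [hj]) (by simp)] at h
  simpa using h.symm

theorem nd_univ : HNd q (⊤ : Submodule F (Fin n → F)) := fun u _ hu => by
  obtain ⟨σ, hσ, -, -⟩ := exists_qPow hF
  funext i
  have h := hu (Pi.single i 1) Submodule.mem_top
  rw [hermForm_apply n hσ, Finset.sum_eq_single i (fun j _ hj => by simp [hj]) (by simp)] at h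
  simpa using h

theorem emb_nd {ι : (Fin d → F) →ₗ[F] (Fin n → F)} (hι : IsEmb q ι) :
    HNd q (LinearMap.range ι) ∧ finrank F (LinearMap.range ι) = d := by
  refine ⟨?_, (LinearMap.finrank_range_of_inj (emb_injective hF hι)).trans (Module.finrank_fin_fun F)⟩
  rintro _ ⟨a, rfl⟩ h
  rw [nd_univ hF (n := d) a Submodule.mem_top fun b _ => by rw [← hι]; exact h _ ⟨b, rfl⟩, map_zero]

theorem exists_emb {W : Submodule F (Fin n → F)} (hW : HNd q W) :
    ∃ ι : (Fin (finrank F W) → F) →ₗ[F] (Fin n → F), IsEmb q ι ∧ LinearMap.range ι = W := by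
  classical
  obtain ⟨b, hb, hs⟩ := exists_orthonormal_span hF W hW
  obtain ⟨σ, hσ, -, -⟩ := exists_qPow hF
  refine ⟨Fintype.linearCombination F b, fun x y => ?_, by rw [Fintype.range_linearCombination, hs]⟩
  rw [Fintype.linearCombination_apply, Fintype.linearCombination_apply, hermForm_sum_left, hermForm]
  refine Finset.sum_congr rfl fun i _ => ?_
  congr 1
  rw [← hermForm_conj hF, hermForm_sum_left]
  simp [hb]

theorem orth_symm {W W' : Submodule F (Fin n → F)} (h : W' ≤ horth q W) : W ≤ horth q W' :=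
  fun x hx w hw => herm_flip hF (h hw x hx)

theorem compl_in {W X : Submodule F (Fin n → F)} (hW : HNd q W) (hWX : W ≤ X) :
    W ⊓ (X ⊓ horth q W) = ⊥ ∧ W ⊔ (X ⊓ horth q W) = X ∧ (HNd q X → HNd q (X ⊓ horth q W)) ∧
      finrank F W + finrank F (X ⊓ horth q W : Submodule F (Fin n → F)) = finrank F X := by
  obtain ⟨ι, hι, hr⟩ := exists_emb hF hW
  have h1 : W ⊓ (X ⊓ horth q W) = ⊥ :=
    eq_bot_iff.2 fun x hx => (Submodule.mem_bot F).2 (hW x hx.1 fun v hv => hx.2.2 v hv)
  have h2 : W ⊔ (X ⊓ horth q W) = X := by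
    refine le_antisymm (sup_le hWX inf_le_left) fun x hx => ?_
    obtain ⟨a, ha⟩ : ∃ a : Fin (finrank F W) → F, ∀ i, a i = hermForm n F q x (ι (Pi.single i 1)) :=
      ⟨_, fun i => rfl⟩
    have hp : ι a ∈ W := hr.le ⟨a, rfl⟩
    refine Submodule.mem_sup.2 ⟨ι a, hp, x - ι a, ⟨X.sub_mem hx (hWX hp), fun w hw => ?_⟩, by abel⟩
    rw [← hr] at hw
    obtain ⟨b, rfl⟩ := hw
    obtain ⟨σ, hσ, -, -⟩ := exists_qPow hF
    rw [h_sub_left, sub_eq_zero, hι, pi_eq_sum_univ' b, map_sum]
    simp only [map_smul]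
    rw [← hermForm_conj hF, hermForm_sum_left, ← hσ, map_sum, hermForm_apply _ hσ]
    refine Finset.sum_congr rfl fun i _ => ?_
    rw [map_mul, hσ (hermForm n F q _ x), hermForm_conj hF, ← ha]
    simp [mul_comm, Pi.single_apply, Finset.sum_ite_eq]
  refine ⟨h1, h2, fun hX u hu hu' => hX u hu.1 fun v hv => ?_, ?_⟩
  · rw [← h2] at hv
    obtain ⟨w, hw, c, hc, rfl⟩ := Submodule.mem_sup.1 hv
    rw [h_add_right hF, hu.2 w hw, hu' c hc, add_zero]
  · have h := Submodule.finrank_sup_add_finrank_inf_eq W (X ⊓ horth q W)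
    rw [h1, h2, finrank_bot, add_zero] at h
    exact h.symm

theorem nd_sup {W W' : Submodule F (Fin n → F)} (hW : HNd q W) (hW' : HNd q W') (ho : W' ≤ horth q W) :
    HNd q (W ⊔ W') := by
  intro u hu hu'
  obtain ⟨a, ha, b, hb, rfl⟩ := Submodule.mem_sup.1 hu
  have h1 : a = 0 := hW a ha fun v hv => by
    have h := hu' v (Submodule.mem_sup_left hv)
    rwa [hermForm_add_left, ho hb v hv, add_zero] at h
  subst h1
  rw [zero_add] at hu' ⊢
  exact hW' b hb fun v hv => hu' v (Submodule.mem_sup_right hv)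

theorem iso_sup {U W : Submodule F (Fin n → F)} (hU : HIso q U) (hW : HIso q W) (ho : W ≤ horth q U) :
    HIso q (U ⊔ W) := by
  intro a ha b hb
  obtain ⟨a1, ha1, a2, ha2, rfl⟩ := Submodule.mem_sup.1 ha
  obtain ⟨b1, hb1, b2, hb2, rfl⟩ := Submodule.mem_sup.1 hb
  rw [hermForm_add_left, h_add_right hF, h_add_right hF, hU a1 ha1 b1 hb1, hW a2 ha2 b2 hb2,
    ho ha2 b1 hb1, orth_symm hF ho ha1 b2 hb2]
  simp

theorem exists_neg_one_norm : ∃ lam : F, lam * lam ^ q = -1 := by
  obtain ⟨σ, hσ, -, -⟩ := exists_qPow hF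
  obtain ⟨x, hx⟩ := exists_norm_eq hF (μ := -1) (by rw [← hσ, map_neg, map_one])
  exact ⟨x, by rw [← pow_succ', hx]⟩

theorem twist {ι₁ ι₂ : (Fin d → F) →ₗ[F] (Fin n → F)} (h1 : IsEmb q ι₁) (h2 : IsEmb q ι₂)
    (ho : ∀ a b, hermForm n F q (ι₁ a) (ι₂ b) = 0) {lam : F} (hlam : lam * lam ^ q = -1) :
    HIso q (LinearMap.range (ι₁ + lam • ι₂)) ∧ finrank F (LinearMap.range (ι₁ + lam • ι₂)) = d ∧
      LinearMap.range (ι₁ + lam • ι₂) ≤ LinearMap.range ι₁ ⊔ LinearMap.range ι₂ := by
  refine ⟨?_, ?_, ?_⟩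
  · rintro _ ⟨a, rfl⟩ _ ⟨b, rfl⟩
    simp only [LinearMap.add_apply, LinearMap.smul_apply, hermForm_add_left, h_add_right hF, hermForm_smul_left,
      h_smul_right hF, h1 a b, h2 a b, ho a b, herm_flip hF (ho b a)]
    linear_combination hermForm d F q a b * hlam
  · refine (LinearMap.finrank_range_of_inj ((injective_iff_map_eq_zero _).2 fun a ha => ?_)).trans (Module.finrank_fin_fun F)
    refine nd_univ hF (n := d) a Submodule.mem_top fun b _ => ?_
    have h := congrArg (fun v => hermForm n F q v (ι₁ b)) ha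
    simp only [LinearMap.add_apply, LinearMap.smul_apply, hermForm_add_left, hermForm_smul_left, h1 a b,
      herm_flip hF (ho b a), mul_zero, add_zero, h_zero_left] at h
    exact h
  · rintro _ ⟨a, rfl⟩
    exact Submodule.add_mem_sup ⟨a, rfl⟩ (Submodule.smul_mem _ _ ⟨a, rfl⟩)

/-- Extension by zero along an injective index map. -/
theorem exists_pad {j : ℕ} (e : Fin j → Fin d) (he : Function.Injective e) :
    ∃ π : (Fin j → F) →ₗ[F] (Fin d → F), IsEmb q π ∧ ∀ a, π a = Function.extend e a 0 := by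
  classical
  have hq : q ≠ 0 := by have := two_le_q hF; omega
  refine ⟨{ toFun := fun a => Function.extend e a 0
            map_add' := fun a b => by
              funext k
              by_cases h : ∃ i, e i = k
              · obtain ⟨i, rfl⟩ := h; simp [he.extend_apply]
              · simp [Function.extend_apply' _ _ _ h]
            map_smul' := fun c a => by
              funext k
              by_cases h : ∃ i, e i = k
              · obtain ⟨i, rfl⟩ := h; simp [he.extend_apply]
              · simp [Function.extend_apply' _ _ _ h] }, fun a b => ?_, fun a => rfl⟩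
  simp only [hermForm, LinearMap.coe_mk, AddHom.coe_mk]
  rw [← Finset.sum_subset (Finset.subset_univ (Finset.univ.image e)) fun k _ hk => by
    rw [Function.extend_apply' _ _ _ (fun ⟨i, hi⟩ => hk (Finset.mem_image.2 ⟨i, Finset.mem_univ _, hi⟩))]
    simp, Finset.sum_image fun x _ y _ h => he h]
  simp [he.extend_apply]

theorem exists_nd_sub {X : Submodule F (Fin n → F)} (hX : HNd q X) {j : ℕ} (hj : j ≤ finrank F X) :
    ∃ U, U ≤ X ∧ HNd q U ∧ finrank F U = j := by
  obtain ⟨ι, hι, hr⟩ := exists_emb hF hX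
  obtain ⟨π, hπ, -⟩ := exists_pad (F := F) hF (Fin.castLE hj) (Fin.castLE_injective hj)
  have hc : IsEmb q (ι ∘ₗ π) := fun a b => by rw [LinearMap.comp_apply, LinearMap.comp_apply, hι, hπ]
  exact ⟨_, (LinearMap.range_comp_le_range π ι).trans hr.le, emb_nd hF hc⟩

theorem exists_iso_sub {X : Submodule F (Fin n → F)} (hX : HNd q X) {j : ℕ} (hj : 2 * j ≤ finrank F X) :
    ∃ U, U ≤ X ∧ HIso q U ∧ finrank F U = j := by
  classical
  obtain ⟨ι, hι, hr⟩ := exists_emb hF hX
  obtain ⟨lam, hlam⟩ := exists_neg_one_norm (F := F) hF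
  obtain ⟨π₁, h1, e1⟩ := exists_pad (F := F) hF (fun i : Fin j => (⟨i, by omega⟩ : Fin (finrank F X)))
    (fun a b h => Fin.ext (by simpa using h))
  obtain ⟨π₂, h2, e2⟩ := exists_pad (F := F) hF (fun i : Fin j => (⟨i + j, by omega⟩ : Fin (finrank F X)))
    (fun a b h => Fin.ext (by simpa using h))
  have ho : ∀ a b, hermForm n F q (ι (π₁ a)) (ι (π₂ b)) = 0 := fun a b => by
    rw [hι, hermForm]
    refine Finset.sum_eq_zero fun k _ => ?_
    rw [e1, e2]
    by_cases hk : (k : ℕ) < j
    · have hk' : ¬ ∃ i : Fin j, (⟨i + j, by omega⟩ : Fin (finrank F X)) = k := by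
        rintro ⟨i, hi⟩; rw [← hi] at hk; simp only at hk; omega
      rw [Function.extend_apply' (f := fun i : Fin j => (⟨i + j, by omega⟩ : Fin (finrank F X))) b 0 k hk']
      have : q ≠ 0 := by have := two_le_q hF; omega
      simp [zero_pow this]
    · have hk' : ¬ ∃ i : Fin j, (⟨i, by omega⟩ : Fin (finrank F X)) = k := by
        rintro ⟨i, hi⟩; rw [← hi] at hk; exact hk i.2
      rw [Function.extend_apply' (f := fun i : Fin j => (⟨i, by omega⟩ : Fin (finrank F X))) a 0 k hk']
      simp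
  obtain ⟨hi, hd', hle⟩ := twist hF (ι₁ := ι ∘ₗ π₁) (ι₂ := ι ∘ₗ π₂)
    (fun a b => by rw [LinearMap.comp_apply, LinearMap.comp_apply, hι, h1])
    (fun a b => by rw [LinearMap.comp_apply, LinearMap.comp_apply, hι, h2]) ho hlam
  exact ⟨_, hle.trans (sup_le ((LinearMap.range_comp_le_range _ _).trans hr.le) ((LinearMap.range_comp_le_range _ _).trans hr.le)), hi, hd'⟩

/-- A subspace pairing trivially only with zero is no larger than the subspace it pairs with. -/
theorem pair_dim {S K : Submodule F (Fin n → F)}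
    (h : ∀ k ∈ K, (∀ s ∈ S, hermForm n F q k s = 0) → k = 0) : finrank F K ≤ finrank F S := by
  obtain ⟨b, hb⟩ : ∃ b, b = Module.finBasis F S := ⟨_, rfl⟩
  obtain ⟨ψ, hψ⟩ : ∃ ψ : K →ₗ[F] (Fin (finrank F S) → F), ∀ k i, ψ k i = hermForm n F q (k : Fin n → F) (b i) :=
    ⟨{ toFun := fun k i => hermForm n F q (k : Fin n → F) (b i)
       map_add' := fun x y => funext fun i => hermForm_add_left _ _ _
       map_smul' := fun c x => funext fun i => hermForm_smul_left _ _ _ }, fun k i => rfl⟩
  have h1 := LinearMap.finrank_le_finrank_of_injective (f := ψ) ((injective_iff_map_eq_zero _).2 fun k hk =>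
    Subtype.ext (h k k.2 fun s hs => by
      refine herm_flip hF ?_
      have e : (↑(∑ i, b.repr ⟨s, hs⟩ i • b i) : Fin n → F) = s := congrArg Subtype.val (b.sum_repr ⟨s, hs⟩)
      rw [Submodule.coe_sum] at e
      rw [← e]
      simp only [Submodule.coe_smul, hermForm_sum_left]
      exact Finset.sum_eq_zero fun i _ => by rw [herm_flip hF ((hψ k i).symm.trans (congrFun hk i)), mul_zero]))
  rwa [Module.finrank_fin_fun] at h1

theorem iso_le_half {X U : Submodule F (Fin n → F)} (hX : HNd q X) (hUX : U ≤ X) (hU : HIso q U) :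
    2 * finrank F U ≤ finrank F X := by
  obtain ⟨K, hK⟩ := (⊥ : Submodule F (Fin n → F)).exists_isCompl
  obtain ⟨C, hC⟩ := ((X ⊓ horth q U).comap X.subtype).exists_isCompl
  obtain ⟨C', hC'⟩ : ∃ C', C' = C.map X.subtype := ⟨_, rfl⟩
  have h1 : finrank F U ≤ finrank F C' := pair_dim hF fun u hu h => hX u (hUX hu) fun v hv => by
    obtain ⟨x, hx, y, hy, e⟩ := Submodule.mem_sup.1 (hC.sup_eq_top.ge (Submodule.mem_top (x := (⟨v, hv⟩ : X))))
    rw [show v = (x : Fin n → F) + y from (congrArg Subtype.val e).symm, h_add_right hF, h y (hC' ▸ ⟨y, hy, rfl⟩),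
      herm_flip hF (show hermForm n F q (x : Fin n → F) u = 0 from (Submodule.mem_comap.1 hx).2 u hu), add_zero]
  have h2 : finrank F U ≤ finrank F ((X ⊓ horth q U).comap X.subtype) := by
    rw [LinearEquiv.finrank_eq (Submodule.comapSubtypeEquivOfLe inf_le_left)]
    exact Submodule.finrank_mono (le_inf hUX fun u hu w hw => hU u hu w hw)
  have h3 := Submodule.finrank_add_eq_of_isCompl hC
  rw [hC', ← (Submodule.equivMapOfInjective X.subtype X.injective_subtype C).finrank_eq] at h1
  omega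

omit hF [Fintype F] in
theorem aeval_comm {A : Module.End F (Fin d → F)} {f : Module.End F (Fin n → F)} {ι : (Fin d → F) →ₗ[F] (Fin n → F)}
    (hA : ∀ a, f (ι a) = ι (A a)) (Q : F[X]) : ∀ a, aeval f Q (ι a) = ι (aeval A Q a) := by
  induction Q using Polynomial.induction_on with
  | C c => intro a; simp [Module.algebraMap_end_apply]
  | add P Q hP hQ => intro a; simp [hP, hQ]
  | monomial k c ih =>
    intro a
    rw [show C c * X ^ (k + 1) = C c * X ^ k * X by ring, map_mul (aeval f) _ X, map_mul (aeval A) _ X, aeval_X, aeval_X,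
      Module.End.mul_apply, Module.End.mul_apply, hA, ih]

theorem exists_restrict {f : Module.End F (Fin n → F)} (hfB : ∀ a b, hermForm n F q (f a) (f b) = hermForm n F q a b)
    {ι : (Fin d → F) →ₗ[F] (Fin n → F)} (hι : IsEmb q ι) (hinv : Inv f (LinearMap.range ι)) :
    ∃ A : Module.End F (Fin d → F), (∀ a, f (ι a) = ι (A a)) ∧ ∀ a b, hermForm d F q (A a) (A b) = hermForm d F q a b := by
  have hinj := emb_injective hF hι
  refine ⟨(LinearEquiv.ofInjective ι hinj).symm.toLinearMap ∘ₗ (f.restrict hinv) ∘ₗ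
    (LinearEquiv.ofInjective ι hinj).toLinearMap, fun a => ?_, fun a b => ?_⟩
  · exact ((congrArg Subtype.val ((LinearEquiv.ofInjective ι hinj).apply_symm_apply
      (f.restrict hinv (LinearEquiv.ofInjective ι hinj a)))).symm)
  · rw [← hι, ← hι a b, ← hfB (ι a) (ι b)]
    congr 1 <;> exact congrArg Subtype.val ((LinearEquiv.ofInjective ι hinj).apply_symm_apply _)

/-- A unitary matrix from an isometric endomorphism. -/
theorem exists_gu {A : Module.End F (Fin d → F)} (hA : ∀ a b, hermForm d F q (A a) (A b) = hermForm d F q a b) :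
    ∃ g : GU d F q, ∀ x, guApply g x = A x := by
  obtain ⟨g, hg⟩ := guMk_exists (q := q) (LinearEquiv.ofInjectiveEndo A (emb_injective hF hA)) hA
  exact ⟨g, fun x => hg x⟩

/-- Similar isometries are conjugate by an isometry. -/
theorem exists_iso_conj {A B : Module.End F (Fin d → F)} (hA : ∀ a b, hermForm d F q (A a) (A b) = hermForm d F q a b)
    (hB : ∀ a b, hermForm d F q (B a) (B b) = hermForm d F q a b) (e : (Fin d → F) ≃ₗ[F] (Fin d → F))
    (he : ∀ x, e (A x) = B (e x)) :
    ∃ φ : (Fin d → F) ≃ₗ[F] (Fin d → F), (∀ a b, hermForm d F q (φ a) (φ b) = hermForm d F q a b) ∧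
      ∀ x, φ (A x) = B (φ x) := by
  classical
  obtain ⟨gA, hgA⟩ := exists_gu hF hA
  obtain ⟨gB, hgB⟩ := exists_gu hF hB
  have hconj : IsConj (gA : GL (Fin d) F) (gB : GL (Fin d) F) := by
    let E : GL (Fin d) F := ⟨LinearMap.toMatrix' e.toLinearMap, LinearMap.toMatrix' e.symm.toLinearMap,
      by rw [← LinearMap.toMatrix'_comp]; simp, by rw [← LinearMap.toMatrix'_comp]; simp⟩
    refine isConj_iff.2 ⟨E, mul_inv_eq_iff_eq_mul.2 (Units.ext (Matrix.ext_of_mulVec_single fun k => ?_))⟩
    rw [Units.val_mul, Units.val_mul, ← Matrix.mulVec_mulVec, ← Matrix.mulVec_mulVec,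
      LinearMap.toMatrix'_mulVec, LinearMap.toMatrix'_mulVec]
    show e (guApply gA _) = guApply gB _
    rw [hgA, hgB, he]
    rfl
  obtain ⟨g, hg⟩ := isConj_iff.1 ((GUConj.isConj_iff_gl hF gA gB).2 hconj)
  refine ⟨guLin g, fun a b => guApply_form g a b, fun x => ?_⟩
  show guApply g (A x) = B (guApply g x)
  rw [← hgA, ← hgB, ← guApply_mul, ← guApply_mul, ← hg, inv_mul_cancel_right]

end CfsgLib.Classical.UnitElusive
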