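/-
Isometries of prime order of the Hermitian space: invariant non-degenerate blocks.
-/
import Cfsg.Agent.Lib.Classical.UnitElusive.Space
import Cfsg.Agent.Lib.Classical.UnitElusive.Ord

set_option autoImplicit false

namespace CfsgLib.Classical.UnitElusive

open Module Polynomial CfsgLib.Classical Cfsg CfsgLib.Classical22.PrimeMaps

universe u

variable {F : Type u} [Field F] {q n d r : ℕ}

theorem inv_sup {f : Module.End F (Fin n → F)} {U W : Submodule F (Fin n → F)} (hU : Inv f U) (hW : Inv f W) :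
    Inv f (U ⊔ W) := by
  intro w hw
  obtain ⟨a, ha, b, hb, rfl⟩ := Submodule.mem_sup.1 hw
  rw [map_add]
  exact Submodule.add_mem_sup (hU a ha) (hW b hb)

theorem inv_bot (f : Module.End F (Fin n → F)) : Inv f (⊥ : Submodule F (Fin n → F)) := fun w hw => by
  rw [(Submodule.mem_bot F).1 hw, map_zero]; exact Submodule.zero_mem _

theorem inv_pow {f : Module.End F (Fin n → F)} {W : Submodule F (Fin n → F)} (hW : Inv f W) (k : ℕ) :
    ∀ w ∈ W, (f ^ k) w ∈ W := by
  induction k with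
  | zero => exact fun w hw => hw
  | succ k ih => intro w hw; rw [pow_succ' f, Module.End.mul_apply]; exact hW _ (ih w hw)

theorem form_pow {f : Module.End F (Fin n → F)} (hfB : ∀ a b, hermForm n F q (f a) (f b) = hermForm n F q a b)
    (k : ℕ) (u v : Fin n → F) : hermForm n F q ((f ^ k) u) ((f ^ k) v) = hermForm n F q u v := by
  induction k with
  | zero => rfl
  | succ k ih => rw [pow_succ' f, Module.End.mul_apply, Module.End.mul_apply, hfB, ih]

variable [Fintype F] (hF : Fintype.card F = q ^ 2)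
include hF

theorem sum_right (u : Fin n → F) {ι : Type*} (s : Finset ι) (g : ι → Fin n → F) :
    hermForm n F q u (∑ i ∈ s, g i) = ∑ i ∈ s, hermForm n F q u (g i) := by
  classical
  induction s using Finset.induction_on with
  | empty => rw [Finset.sum_empty, Finset.sum_empty, h_zero_right hF]
  | insert a s ha ih => rw [Finset.sum_insert ha, Finset.sum_insert ha, h_add_right hF, ih]

theorem nd_bot : HNd q (⊥ : Submodule F (Fin n → F)) := fun u hu _ => (Submodule.mem_bot F).1 hu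

theorem iso_bot : HIso q (⊥ : Submodule F (Fin n → F)) := fun u hu v _ => by
  rw [(Submodule.mem_bot F).1 hu, h_zero_left]

theorem finrank_sup_orth {W W' : Submodule F (Fin n → F)} (hW : HNd q W) (ho : W' ≤ horth q W) :
    finrank F (W ⊔ W' : Submodule F (Fin n → F)) = finrank F W + finrank F W' := by
  have h := Submodule.finrank_sup_add_finrank_inf_eq W W'
  rwa [show W ⊓ W' = ⊥ from eq_bot_iff.2 fun x hx => (Submodule.mem_bot F).2 (hW x hx.1 fun v hv => ho hx.2 v hv),
    finrank_bot, add_zero] at h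

theorem finrank_sup_orth' {X J U : Submodule F (Fin n → F)} (hX : HNd q X) (hJ : J ≤ X) (hU : U ≤ horth q X) :
    finrank F (J ⊔ U : Submodule F (Fin n → F)) = finrank F J + finrank F U := by
  have h := Submodule.finrank_sup_add_finrank_inf_eq J U
  rwa [show J ⊓ U = ⊥ from eq_bot_iff.2 fun x hx => (Submodule.mem_bot F).2
      (hX x (hJ hx.1) fun v hv => hU hx.2 v hv), finrank_bot, add_zero] at h

section

variable [hr : Fact r.Prime] {f : Module.End F (Fin n → F)}
  (hfB : ∀ a b, hermForm n F q (f a) (f b) = hermForm n F q a b)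
include hfB

theorem inv_orth {z : F} (hz : z ≠ 0) (hf : ∀ v, (f ^ r) v = z • v) {W : Submodule F (Fin n → F)} (hW : Inv f W) :
    Inv f (horth q W) := fun x hx w hw => by
  have e : w = f (z⁻¹ • (f ^ (r - 1)) w) := by
    rw [map_smul, ← Module.End.mul_apply, ← pow_succ', Nat.sub_add_cancel hr.out.one_le, hf, inv_smul_smul₀ hz]
  rw [e, hfB]
  exact hx _ (W.smul_mem _ (inv_pow hW _ w hw))

/-- An invariant partner of a subspace paired with `Y`. -/
theorem exists_partner (hrF : (r : F) ≠ 0) {z : F} (hz : z ≠ 0) (hf : ∀ v, (f ^ r) v = z • v)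
    {S Y : Submodule F (Fin n → F)} (hS : Inv f S) (hY : Inv f Y)
    (hpair : ∀ s ∈ S, (∀ y ∈ Y, hermForm n F q s y = 0) → s = 0) :
    ∃ K, Inv f K ∧ K ≤ Y ∧ finrank F K = finrank F S ∧ (∀ k ∈ K, (∀ s ∈ S, hermForm n F q k s = 0) → k = 0) ∧
      ∀ s ∈ S, (∀ k ∈ K, hermForm n F q s k = 0) → s = 0 := by
  obtain ⟨K, hK, hKY, hi, hs⟩ := exists_compl_in hrF hz hf hY
    (W := Y ⊓ horth q S) (fun w hw => ⟨hY w hw.1, inv_orth hF hfB hz hf hS w hw.2⟩) inf_le_left
  have h1 : ∀ k ∈ K, (∀ s ∈ S, hermForm n F q k s = 0) → k = 0 := fun k hk h =>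
    (Submodule.mem_bot F).1 (hi ▸ ⟨⟨hKY hk, h⟩, hk⟩)
  have h2 : ∀ s ∈ S, (∀ k ∈ K, hermForm n F q s k = 0) → s = 0 := fun s hs' h => hpair s hs' fun v hv => by
    rw [← hs] at hv
    obtain ⟨x, hx, y, hy, rfl⟩ := Submodule.mem_sup.1 hv
    rw [h_add_right hF, h y hy, add_zero, herm_flip hF (hx.2 s hs')]
  exact ⟨K, hK, hKY, le_antisymm (pair_dim hF h1) (pair_dim hF h2), h1, h2⟩

omit hfB in
/-- Two totally isotropic subspaces in duality span a non-degenerate space. -/
theorem nd_of_pair {S K : Submodule F (Fin n → F)} (hS : HIso q S) (hK : HIso q K)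
    (h1 : ∀ k ∈ K, (∀ s ∈ S, hermForm n F q k s = 0) → k = 0)
    (h2 : ∀ s ∈ S, (∀ k ∈ K, hermForm n F q s k = 0) → s = 0) :
    HNd q (S ⊔ K) ∧ finrank F (S ⊔ K : Submodule F (Fin n → F)) = finrank F S + finrank F K := by
  refine ⟨fun u hu hu' => ?_, ?_⟩
  · obtain ⟨a, ha, b, hb, rfl⟩ := Submodule.mem_sup.1 hu
    have hb0 : b = 0 := h1 b hb fun s hs => by
      have h := hu' s (Submodule.mem_sup_left hs)
      rwa [hermForm_add_left, hS a ha s hs, zero_add] at h
    have ha0 : a = 0 := h2 a ha fun k hk => by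
      have h := hu' k (Submodule.mem_sup_right hk)
      rwa [hermForm_add_left, hK b hb k hk, add_zero] at h
    rw [ha0, hb0, add_zero]
  · have h := Submodule.finrank_sup_add_finrank_inf_eq S K
    rwa [show S ⊓ K = ⊥ from eq_bot_iff.2 fun x hx => (Submodule.mem_bot F).2
      (h2 x hx.1 fun k hk => hK x hx.2 k hk), finrank_bot, add_zero] at h

variable (hrF : (r : F) ≠ 0) (hf : ∀ v, (f ^ r) v = v)
include hrF hf

theorem fixed_nd {X : Submodule F (Fin n → F)} (hX : Inv f X) (hXn : HNd q X) : HNd q (X ⊓ fixed f) := by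
  intro u hu hu'
  refine hXn u hu.1 fun v hv => ?_
  obtain ⟨w, hw⟩ : ∃ w, w = ∑ k ∈ Finset.range r, (f ^ k) v := ⟨_, rfl⟩
  have hwf : f w = w := by
    rw [hw, map_sum]
    have e1 := Finset.sum_range_succ' (fun k => (f ^ k) v) r
    rw [Finset.sum_range_succ (fun k => (f ^ k) v) r, hf, pow_zero, Module.End.one_apply, add_left_inj] at e1
    rw [e1]
    exact Finset.sum_congr rfl fun k _ => by rw [pow_succ' f, Module.End.mul_apply]
  have h := hu' w ⟨hw ▸ Submodule.sum_mem _ fun k _ => inv_pow hX k v hv, mem_fixed.2 hwf⟩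
  have hterm : ∀ k, hermForm n F q u ((f ^ k) v) = hermForm n F q u v := fun k => by
    have hfix : ∀ k, (f ^ k) u = u := fun k => by
      induction k with
      | zero => rfl
      | succ k ih => rw [pow_succ' f, Module.End.mul_apply, ih, mem_fixed.1 hu.2]
    conv_lhs => rw [← hfix k, form_pow hfB]
  rw [hw, sum_right hF, Finset.sum_congr rfl fun k _ => hterm k, Finset.sum_const, Finset.card_range,
    nsmul_eq_mul] at h
  exact (mul_eq_zero.1 h).resolve_left hrF

/-- The fixed space and its complement. -/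
theorem fixed_split :
    ∃ Y, Inv f Y ∧ HNd q Y ∧ (∀ w ∈ Y, f w = w → w = 0) ∧ Y ≤ horth q (fixed f) ∧ HNd q (fixed f) ∧
      finrank F (fixed f) + finrank F Y = n := by
  have hfx : HNd q (fixed f) := by
    have h := fixed_nd hF hfB hrF hf (X := ⊤) (fun _ _ => Submodule.mem_top) (nd_univ hF)
    rwa [top_inf_eq] at h
  have hinv : Inv f (fixed f) := fun w hw => by rw [mem_fixed.1 hw]; exact hw
  obtain ⟨h1, -, h3, h4⟩ := compl_in hF hfx (le_top : fixed f ≤ ⊤)
  refine ⟨⊤ ⊓ horth q (fixed f), fun w hw => ⟨Submodule.mem_top, inv_orth hF hfB one_ne_zero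
    (fun v => by rw [hf, one_smul]) hinv w hw.2⟩, h3 (nd_univ hF), fun w hw hfw => ?_, inf_le_right, hfx, ?_⟩
  · exact (Submodule.mem_bot F).1 (h1 ▸ ⟨mem_fixed.2 hfw, hw⟩)
  · rw [h4, finrank_top, Module.finrank_fin_fun]

omit hfB in
theorem simple_dim {S : Submodule F (Fin n → F)} (hS : Inv f S) (hS0 : S ≠ ⊥)
    (hmin : ∀ W', Inv f W' → W' ≤ S → W' ≠ ⊥ → W' = S) (hfix : ∀ w ∈ S, f w = w → w = 0) :
    finrank F S = bOrd r q :=
  (simple_dim_order f hf hS hS0 hmin hrF hfix).trans (bOrd_eq_card hF).symm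

omit hfB in
theorem b_dvd {W : Submodule F (Fin n → F)} (hW : Inv f W) (hfix : ∀ w ∈ W, f w = w → w = 0) :
    bOrd r q ∣ finrank F W := by
  have h := (order_spec hrF hf hW).1
  rwa [show W ⊓ fixed f = ⊥ from eq_bot_iff.2 fun w hw => (Submodule.mem_bot F).2
    (hfix w hw.1 (mem_fixed.1 hw.2)), finrank_bot, Nat.sub_zero, ← bOrd_eq_card hF] at h

/-- A non-zero fixed-point-free non-degenerate invariant space has dimension at least `cOrd r q`. -/
theorem c_le {W : Submodule F (Fin n → F)} (hW : Inv f W) (hWn : HNd q W) (hfix : ∀ w ∈ W, f w = w → w = 0)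
    (hW0 : W ≠ ⊥) : cOrd r q ≤ finrank F W := by
  classical
  obtain ⟨ι, hι, hrange⟩ := exists_emb hF hWn
  obtain ⟨A, hA, hAB⟩ := exists_restrict hF hfB hι (hrange.symm ▸ hW)
  obtain ⟨g, hg⟩ := exists_gu hF hAB
  have hpow : ∀ (k : ℕ) a, (f ^ k) (ι a) = ι ((A ^ k) a) := by
    intro k
    induction k with
    | zero => intro a; rfl
    | succ k ih => intro a; rw [pow_succ', pow_succ', Module.End.mul_apply, Module.End.mul_apply, ih, hA]
  have hgp : ∀ (k : ℕ) a, guApply (g ^ k) a = (A ^ k) a := by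
    intro k
    induction k with
    | zero => intro a; simp [guApply]
    | succ k ih => intro a; rw [pow_succ', pow_succ', Module.End.mul_apply, guApply_mul, ih, hg]
  have hext : ∀ x y : GU (finrank F W) F q, (∀ a, guApply x a = guApply y a) → x = y := fun x y h =>
    Subtype.ext (Units.ext (Matrix.ext_of_mulVec_single fun i => h _))
  have hgr : g ^ r = 1 := hext _ _ fun a => by
    rw [hgp]
    exact emb_injective hF hι (by rw [← hpow, hf]; simp [guApply])
  have hg1 : g ≠ 1 := fun h1 => by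
    obtain ⟨w, hw, hw0⟩ := W.exists_mem_ne_zero_of_ne_bot hW0
    obtain ⟨a, rfl⟩ := hrange.ge hw
    refine hw0 (hfix _ hw ?_)
    rw [hA, ← hg, h1]
    simp [guApply]
  haveI : Fintype (GU (finrank F W) F q) := Fintype.ofFinite _
  have hd := orderOf_dvd_natCard g
  rw [orderOf_eq_prime hgr hg1, card_gu hF] at hd
  exact le_of_dvd_unitaryOrder (q_ne_zero hF hrF) (by have := two_le_q hF; omega) hd

omit hfB in
theorem b_pos : 0 < bOrd r q := bOrd_pos (q_ne_zero hF hrF)

/-- A minimal invariant subspace is totally isotropic or non-degenerate. -/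
theorem dich {S : Submodule F (Fin n → F)} (hS : Inv f S) (hmin : ∀ W', Inv f W' → W' ≤ S → W' ≠ ⊥ → W' = S) :
    HNd q S ∨ HIso q S := by
  by_cases h0 : S ⊓ horth q S = ⊥
  · left
    exact fun u hu hu' => (Submodule.mem_bot F).1 (h0 ▸ ⟨hu, hu'⟩)
  · right
    have h := hmin (S ⊓ horth q S) (fun w hw => ⟨hS w hw.1, inv_orth hF hfB one_ne_zero (fun v => by rw [hf, one_smul]) hS w hw.2⟩)
      inf_le_left h0
    exact fun a ha b hb => (h.ge ha).2 b hb

end

section Root

variable [hr : Fact r.Prime] (hrF : (r : F) ≠ 0) (hcb : cOrd r q = bOrd r q)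
include hrF hcb

/-- For `c = b` every irreducible factor of the cyclotomic polynomial is realised by an isometry of the `b`-space. -/
theorem exists_power {P : F[X]} (hP : Irreducible P) (hPd : P ∣ X ^ r - 1) (hP1 : P.eval 1 ≠ 0)
    (hdeg : P.natDegree = bOrd r q) :
    ∃ A : Module.End F (Fin (bOrd r q) → F),
      (∀ a b, hermForm (bOrd r q) F q (A a) (A b) = hermForm (bOrd r q) F q a b) ∧ aeval A P = 0 := by
  classical
  haveI : Fintype (GU (bOrd r q) F q) := Fintype.ofFinite _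
  obtain ⟨g, hg⟩ := exists_prime_orderOf_dvd_card' (G := GU (bOrd r q) F q) r (by
    rw [card_gu hF]
    exact dvd_unitaryOrder (by have := two_le_q hF; omega) (q_ne_zero hF hrF) hcb.le)
  obtain ⟨A₀, hA₀⟩ : ∃ A₀ : Module.End F (Fin (bOrd r q) → F), ∀ x, A₀ x = guApply g x :=
    ⟨(guLin g).toLinearMap, fun x => rfl⟩
  have hA₀B : ∀ a b, hermForm (bOrd r q) F q (A₀ a) (A₀ b) = hermForm (bOrd r q) F q a b := fun a b => by
    rw [hA₀, hA₀]; exact guApply_form g a b
  have hgp : ∀ (k : ℕ) a, (A₀ ^ k) a = guApply (g ^ k) a := by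
    intro k
    induction k with
    | zero => intro a; simp [guApply]
    | succ k ih => intro a; rw [pow_succ', pow_succ', Module.End.mul_apply, guApply_mul, ih, hA₀]
  have hA₀r : ∀ v, (A₀ ^ r) v = v := fun v => by
    rw [hgp, show g ^ r = 1 by have := pow_orderOf_eq_one g; rwa [hg] at this]; simp [guApply]
  obtain ⟨Y, hY, hYn, hYfix, -, -, hYd⟩ := fixed_split hF hA₀B hrF hA₀r
  have hY0 : Y ≠ ⊥ := fun h => by
    rw [h, finrank_bot, add_zero] at hYd
    have htop : fixed A₀ = ⊤ := Submodule.eq_top_of_finrank_eq (by rw [hYd, Module.finrank_fin_fun])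
    have h1 : g = 1 := Subtype.ext (Units.ext (Matrix.ext_of_mulVec_single fun i => by
      have h := mem_fixed.1 (htop.ge (Submodule.mem_top (x := Pi.single i 1)))
      rw [hA₀] at h
      exact h.trans (Matrix.one_mulVec _).symm))
    rw [h1, orderOf_one] at hg
    exact hr.out.ne_one hg.symm
  have hle := c_le hF hA₀B hrF hA₀r hY hYn hYfix hY0
  have hfix : fixed A₀ = ⊥ := Submodule.finrank_eq_zero.1 (by omega)
  have hfp : ∀ w : Fin (bOrd r q) → F, A₀ w = w → w = 0 := fun w hw =>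
    (Submodule.mem_bot F).1 (hfix ▸ mem_fixed.2 hw)
  have hne : (⊤ : Submodule F (Fin (bOrd r q) → F)) ≠ ⊥ := fun h => hY0 (le_bot_iff.1 (h ▸ le_top))
  obtain ⟨S, hS, -, hS0, hSm⟩ := exists_simple A₀ (fun _ _ => Submodule.mem_top) hne
  have hStop : S = ⊤ := Submodule.eq_top_of_finrank_eq (by
    rw [simple_dim hF hrF hA₀r hS hS0 hSm fun w _ => hfp w, Module.finrank_fin_fun])
  subst hStop
  obtain ⟨G, hG, hGd, -, hGA⟩ := simple_minpoly A₀ hS hS0 hSm (X_pow_sub_C_ne_zero hr.out.pos (1 : F))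
    (fun w _ => by simp [hA₀r])
  have hGA' : aeval A₀ G = 0 := LinearMap.ext fun w => hGA w Submodule.mem_top
  -- a common splitting field
  haveI : Fact (Irreducible P) := ⟨hP⟩
  obtain ⟨ζ, hζ⟩ : ∃ ζ, ζ = AdjoinRoot.root P := ⟨_, rfl⟩
  have hζr : ζ ^ r = 1 := by
    obtain ⟨Q, hQ⟩ := hPd
    have h := congrArg (AdjoinRoot.mk P) hQ
    rw [map_mul, AdjoinRoot.mk_self, zero_mul, map_sub, map_pow, AdjoinRoot.mk_X, map_one, sub_eq_zero] at h
    exact hζ ▸ h
  have hζ1 : ζ ≠ 1 := fun h => by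
    have hd : P ∣ X - C 1 := by
      rw [← AdjoinRoot.mk_eq_zero, map_sub, AdjoinRoot.mk_X, AdjoinRoot.mk_C, map_one, ← hζ, h, sub_self]
    have h1 : (X - C (1 : F)).eval 1 = 0 := by simp
    obtain ⟨Q, hQ⟩ := ((irreducible_X_sub_C (1 : F)).associated_of_dvd hP (by
      exact ((hP.associated_of_dvd (irreducible_X_sub_C 1) hd).symm.dvd))).dvd
    rw [hQ, eval_mul, h1, zero_mul] at hP1
    exact hP1 rfl
  obtain ⟨η, hη⟩ : ∃ η : AdjoinRoot P, aeval η G = 0 := by
    have hprim : IsPrimitiveRoot ζ r := IsPrimitiveRoot.iff_orderOf.2 (orderOf_eq_prime hζr hζ1)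
    have hprod : ∏ x ∈ Polynomial.nthRootsFinset r (1 : AdjoinRoot P), (X - C x) = X ^ r - 1 :=
      (X_pow_sub_one_eq_prod hr.out.pos hprim).symm
    have hd : G.map (algebraMap F (AdjoinRoot P)) ∣ X ^ r - 1 := by
      have := Polynomial.map_dvd (algebraMap F (AdjoinRoot P)) hGd
      rwa [Polynomial.map_sub, Polynomial.map_pow, map_X, map_C, map_one, map_one] at this
    have hGm : G.map (algebraMap F (AdjoinRoot P)) ≠ 0 := Polynomial.map_ne_zero hG.ne_zero
    have hu : ¬ IsUnit (G.map (algebraMap F (AdjoinRoot P))) := fun hu => by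
      have := natDegree_eq_zero_of_isUnit hu
      rw [natDegree_map] at this
      have := hG.natDegree_pos
      omega
    obtain ⟨R, hR, hRG⟩ := WfDvdMonoid.exists_irreducible_factor hu hGm
    obtain ⟨x, -, hx⟩ := (Prime.dvd_finset_prod_iff hR.prime _).1 (hprod.symm ▸ hRG.trans hd)
    refine ⟨x, ?_⟩
    have hx' : X - C x ∣ G.map (algebraMap F (AdjoinRoot P)) :=
      ((hR.associated_of_dvd (irreducible_X_sub_C x) hx).symm.dvd).trans hRG
    rw [← eval_map_algebraMap]
    exact dvd_iff_isRoot.1 hx'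
  have hη1 : η ≠ 1 := fun h => by
    have h1 : X - C 1 ∣ G := by
      rw [dvd_iff_isRoot]
      rw [h, ← map_one (algebraMap F (AdjoinRoot P)), aeval_algebraMap_apply] at hη
      exact (map_eq_zero _).1 hη
    obtain ⟨Q, hQ⟩ := ((irreducible_X_sub_C (1 : F)).associated_of_dvd hG h1).symm.dvd
    have h2 : aeval A₀ (X - C (1 : F)) = 0 := by rw [hQ, map_mul, hGA', zero_mul]
    obtain ⟨w, -, hw0⟩ := (⊤ : Submodule F (Fin (bOrd r q) → F)).exists_mem_ne_zero_of_ne_bot hne
    refine hw0 (hfp w ?_)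
    have h3 := LinearMap.congr_fun h2 w
    rwa [map_sub, aeval_X, aeval_C, map_one, LinearMap.sub_apply, Module.End.one_apply, LinearMap.zero_apply,
      sub_eq_zero] at h3
  have hηr : η ^ r = 1 := by
    obtain ⟨Q, hQ⟩ := hGd
    have h := congrArg (aeval η) hQ
    simpa [hη, sub_eq_zero] using h
  have hprimη : IsPrimitiveRoot η r := IsPrimitiveRoot.iff_orderOf.2 (orderOf_eq_prime hηr hη1)
  obtain ⟨t, -, ht⟩ := hprimη.eq_pow_of_pow_eq_one hζr
  refine ⟨A₀ ^ t, form_pow hA₀B t, ?_⟩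
  have hdiv : G ∣ P.comp (X ^ t) := by
    have hz : aeval η (P.comp (X ^ t)) = 0 := by
      rw [aeval_comp, map_pow, aeval_X, ht, hζ, AdjoinRoot.aeval_eq, AdjoinRoot.mk_self]
    by_contra hnd
    obtain ⟨u, v, huv⟩ := hG.coprime_iff_not_dvd.2 hnd
    have h := congrArg (aeval η) huv
    simp [hη, hz] at h
  obtain ⟨Q, hQ⟩ := hdiv
  have h := congrArg (aeval A₀) hQ
  rwa [aeval_comp, map_pow, aeval_X, map_mul, hGA', zero_mul] at h

end Root

end CfsgLib.Classical.UnitElusive
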