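/-
Coordinate subspaces and block diagonal maps on the standard Hermitian space.
-/
import Cfsg.Agent.Lib.Classical.UnitElusive.Space

set_option autoImplicit false

namespace CfsgLib.Classical.UnitElusive

open Module Polynomial CfsgLib.Classical Cfsg CfsgLib.Classical22.PrimeMaps

universe u

variable {F : Type u} [Field F] {q n d : ℕ}

/-- The vectors supported in `S`. -/
def supp (F : Type u) [Field F] {n : ℕ} (S : Finset (Fin n)) : Submodule F (Fin n → F) where
  carrier := {x | ∀ k ∉ S, x k = 0}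
  add_mem' {a b} ha hb k hk := by simp [ha k hk, hb k hk]
  zero_mem' k _ := rfl
  smul_mem' c x hx k hk := by simp [hx k hk]

section Blocks

variable {J : Type*} [Fintype J] {m : J → ℕ} (e : (Σ j, Fin (m j)) ≃ Fin n)
  (A : ∀ j, Module.End F (Fin (m j) → F))

/-- The block diagonal map. -/
def blockMap : Module.End F (Fin n → F) := LinearMap.pi fun k =>
  (LinearMap.proj (e.symm k).2).comp
    ((A (e.symm k).1).comp (LinearMap.funLeft F F fun i => e ⟨(e.symm k).1, i⟩))

theorem blockMap_apply (x : Fin n → F) (j : J) (i : Fin (m j)) :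
    blockMap e A x (e ⟨j, i⟩) = A j (fun i' => x (e ⟨j, i'⟩)) i := by
  obtain ⟨g, hg⟩ : ∃ g : (Σ j, Fin (m j)) → F, ∀ s, g s = A s.1 (fun i' => x (e ⟨s.1, i'⟩)) s.2 :=
    ⟨_, fun s => rfl⟩
  show A (e.symm (e ⟨j, i⟩)).1 (fun i' => x (e ⟨(e.symm (e ⟨j, i⟩)).1, i'⟩)) (e.symm (e ⟨j, i⟩)).2 = _
  rw [← hg, e.symm_apply_apply, hg]

theorem blockMap_comp (x : Fin n → F) (j : J) :
    (fun i => blockMap e A x (e ⟨j, i⟩)) = A j (fun i' => x (e ⟨j, i'⟩)) := funext fun i => blockMap_apply e A x j i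

theorem aeval_blockMap (Q : F[X]) : ∀ (x : Fin n → F) (j : J),
    (fun i => aeval (blockMap e A) Q x (e ⟨j, i⟩)) = aeval (A j) Q (fun i' => x (e ⟨j, i'⟩)) := by
  induction Q using Polynomial.induction_on with
  | C c => intro x j; funext i; simp [Module.algebraMap_end_apply]
  | add P Q hP hQ =>
    intro x j
    rw [map_add, map_add, LinearMap.add_apply, LinearMap.add_apply, ← hP x j, ← hQ x j]
    rfl
  | monomial k c ih =>
    intro x j
    rw [show C c * X ^ (k + 1) = C c * X ^ k * X by ring, map_mul _ _ X, map_mul _ _ X, aeval_X, aeval_X,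
      Module.End.mul_apply, Module.End.mul_apply, ih, blockMap_comp]

theorem eq_of_comp {x y : Fin n → F} (h : ∀ j, (fun i => x (e ⟨j, i⟩)) = fun i => y (e ⟨j, i⟩)) : x = y :=
  funext fun k => by
    obtain ⟨⟨j, i⟩, rfl⟩ := e.surjective k
    exact congrFun (h j) i

theorem aeval_blockMap_eq_zero {Q : F[X]} (h : ∀ j, aeval (A j) Q = 0) : aeval (blockMap e A) Q = 0 :=
  LinearMap.ext fun x => eq_of_comp e fun j => by rw [aeval_blockMap, h j]; rfl

theorem blockMap_pow (k : ℕ) (x : Fin n → F) (j : J) :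
    (fun i => (blockMap e A ^ k) x (e ⟨j, i⟩)) = (A j ^ k) (fun i' => x (e ⟨j, i'⟩)) := by
  have h := aeval_blockMap e A (X ^ k) x j
  rwa [map_pow, map_pow, aeval_X, aeval_X] at h

theorem blockMap_pow_eq {z : F} {r : ℕ} (h : ∀ j v, (A j ^ r) v = z • v) (x : Fin n → F) :
    (blockMap e A ^ r) x = z • x := eq_of_comp e fun j => by rw [blockMap_pow, h]; rfl

theorem hermForm_blocks (x y : Fin n → F) :
    hermForm n F q x y = ∑ j, hermForm (m j) F q (fun i => x (e ⟨j, i⟩)) (fun i => y (e ⟨j, i⟩)) := by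
  simp only [hermForm]
  rw [← e.sum_comp, Fintype.sum_sigma]

theorem blockMap_isometry (hA : ∀ j a b, hermForm (m j) F q (A j a) (A j b) = hermForm (m j) F q a b) (x y : Fin n → F) :
    hermForm n F q (blockMap e A x) (blockMap e A y) = hermForm n F q x y := by
  rw [hermForm_blocks e, hermForm_blocks e x y]
  exact Finset.sum_congr rfl fun j _ => by rw [blockMap_comp, blockMap_comp, hA]

/-- The coordinates of a set of blocks. -/
def blockSet (p : J → Prop) [DecidablePred p] : Finset (Fin n) := Finset.univ.filter fun k => p (e.symm k).1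

theorem card_blockSet (p : J → Prop) [DecidablePred p] :
    (blockSet e p).card = ∑ j ∈ Finset.univ.filter p, m j := by
  classical
  rw [show blockSet e p = ((Finset.univ.filter p).sigma fun _ => Finset.univ).map e.toEmbedding by
    ext k
    simp only [blockSet, Finset.mem_filter, Finset.mem_univ, true_and, Finset.mem_map, Finset.mem_sigma,
      Equiv.coe_toEmbedding]
    exact ⟨fun h => ⟨e.symm k, ⟨h, trivial⟩, e.apply_symm_apply k⟩, by rintro ⟨s, ⟨hs, -⟩, rfl⟩; simpa using hs⟩,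
    Finset.card_map, Finset.card_sigma]
  simp

theorem blockSet_mem {p : J → Prop} [DecidablePred p] {x : Fin n → F} :
    x ∈ supp F (blockSet e p) ↔ ∀ j, ¬ p j → (fun i => x (e ⟨j, i⟩)) = 0 := by
  constructor
  · intro h j hj
    funext i
    exact h _ (by simp [blockSet, hj])
  · intro h k hk
    obtain ⟨⟨j, i⟩, rfl⟩ := e.surjective k
    exact congrFun (h j (by simpa [blockSet] using hk)) i

theorem blockSet_inv (p : J → Prop) [DecidablePred p] : Inv (blockMap e A) (supp F (blockSet e p)) := fun x hx =>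
  (blockSet_mem e).2 fun j hj => by rw [blockMap_comp, (blockSet_mem e).1 hx j hj, map_zero]

theorem blockSet_annih {p : J → Prop} [DecidablePred p] {Q : F[X]} (h : ∀ j, p j → aeval (A j) Q = 0)
    {x : Fin n → F} (hx : x ∈ supp F (blockSet e p)) : aeval (blockMap e A) Q x = 0 :=
  eq_of_comp e fun j => by
    rw [aeval_blockMap]
    by_cases hj : p j
    · rw [h j hj]; rfl
    · rw [(blockSet_mem e).1 hx j hj, map_zero]; rfl

end Blocks

variable [Fintype F] (hF : Fintype.card F = q ^ 2)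
include hF

theorem exists_supp (S : Finset (Fin n)) :
    HNd q (supp F S) ∧ finrank F (supp F S) = S.card := by
  classical
  obtain ⟨π, hπ, he⟩ := exists_pad (F := F) hF (fun i => ((S.equivFin.symm i : S) : Fin n))
    (Subtype.val_injective.comp S.equivFin.symm.injective)
  have hr : supp F S = LinearMap.range π := by
    ext x
    constructor
    · intro hx
      refine ⟨fun i => x (S.equivFin.symm i), funext fun k => ?_⟩
      rw [he]
      by_cases hk : k ∈ S
      · obtain ⟨i, hi⟩ := S.equivFin.symm.surjective ⟨k, hk⟩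
        have hk' : k = ((S.equivFin.symm i : S) : Fin n) := by rw [hi]
        rw [hk']
        exact (Subtype.val_injective.comp S.equivFin.symm.injective).extend_apply _ _ i
      · rw [Function.extend_apply' _ _ _ (by rintro ⟨i, rfl⟩; exact hk (S.equivFin.symm i).2), hx k hk]
        rfl
    · rintro ⟨a, rfl⟩ k hk
      rw [he, Function.extend_apply' _ _ _ (by rintro ⟨i, rfl⟩; exact hk (S.equivFin.symm i).2)]
      rfl
  rw [hr]
  exact emb_nd hF hπ

/-- The embedding of a block. -/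
theorem exists_block_emb {J : Type*} [Fintype J] {m : J → ℕ} (e : (Σ j, Fin (m j)) ≃ Fin n)
    (A : ∀ j, Module.End F (Fin (m j) → F)) (j : J) :
    ∃ ι : (Fin (m j) → F) →ₗ[F] (Fin n → F), IsEmb q ι ∧ (∀ a, blockMap e A (ι a) = ι (A j a)) ∧
      (∀ a i, ι a (e ⟨j, i⟩) = a i) ∧ ∀ a l, l ≠ j → ∀ k : Fin (m l), ι a (e ⟨l, k⟩) = 0 := by
  classical
  obtain ⟨π, hπ, he⟩ := exists_pad (F := F) hF (fun i => e ⟨j, i⟩)
    (e.injective.comp sigma_mk_injective)
  have h1 : ∀ a i, π a (e ⟨j, i⟩) = a i := fun a i => by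
    rw [he]; exact (e.injective.comp sigma_mk_injective).extend_apply a 0 i
  have h2 : ∀ a l, l ≠ j → ∀ k : Fin (m l), π a (e ⟨l, k⟩) = 0 := fun a l hl k => by
    rw [he, Function.extend_apply' _ _ _ (by
      rintro ⟨i, hi⟩; exact hl (congrArg Sigma.fst (e.injective hi)).symm)]
    rfl
  refine ⟨π, hπ, fun a => eq_of_comp e fun l => ?_, h1, h2⟩
  rw [blockMap_comp]
  by_cases hl : l = j
  · subst hl
    simp only [h1]
  · simp only [h2 _ l hl]
    exact map_zero _

/-- An isometric embedding intertwining a map with a similar isometry. -/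
theorem exists_emb_of_similar {f : Module.End F (Fin n → F)}
    (hfB : ∀ a b, hermForm n F q (f a) (f b) = hermForm n F q a b) {W : Submodule F (Fin n → F)} (hW : HNd q W)
    {B : Module.End F (Fin d → F)} (hB : ∀ a b, hermForm d F q (B a) (B b) = hermForm d F q a b)
    (Ψ : (Fin d → F) →ₗ[F] (Fin n → F)) (hΨ : Function.Injective Ψ) (hΨW : LinearMap.range Ψ = W)
    (hfΨ : ∀ x, f (Ψ x) = Ψ (B x)) :
    ∃ ι : (Fin d → F) →ₗ[F] (Fin n → F), IsEmb q ι ∧ LinearMap.range ι = W ∧ ∀ x, f (ι x) = ι (B x) := by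
  obtain ⟨ι₀, hι₀, hr₀⟩ := exists_emb hF hW
  have hd : finrank F W = d := by rw [← hΨW, LinearMap.finrank_range_of_inj hΨ, Module.finrank_fin_fun]
  revert ι₀
  rw [hd]
  intro ι₀ hι₀ hr₀
  have hinv : Inv f (LinearMap.range ι₀) := by
    rw [hr₀, ← hΨW]
    rintro _ ⟨x, rfl⟩
    exact ⟨B x, (hfΨ x).symm⟩
  obtain ⟨A, hA, hAB⟩ := exists_restrict hF hfB hι₀ hinv
  have hinj := emb_injective hF hι₀
  obtain ⟨e, he⟩ : ∃ e : (Fin d → F) ≃ₗ[F] (Fin d → F), ∀ x, ι₀ (e x) = Ψ x :=
    ⟨(LinearEquiv.ofInjective Ψ hΨ).trans ((LinearEquiv.ofEq _ _ (hΨW.trans hr₀.symm)).trans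
      (LinearEquiv.ofInjective ι₀ hinj).symm),
      fun x => congrArg Subtype.val ((LinearEquiv.ofInjective ι₀ hinj).apply_symm_apply _)⟩
  obtain ⟨φ, hφ, hφc⟩ := exists_iso_conj hF hB hAB e fun x => hinj (by rw [he, ← hfΨ, ← he, hA])
  refine ⟨ι₀ ∘ₗ φ.toLinearMap, fun a b => by rw [LinearMap.comp_apply, LinearMap.comp_apply, hι₀]; exact hφ a b,
    ?_, fun x => ?_⟩
  · rw [← hr₀]
    exact LinearMap.range_comp_of_range_eq_top _ (LinearEquiv.range φ)
  · show f (ι₀ (φ x)) = ι₀ (φ (B x))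
    rw [hA, hφc]

end CfsgLib.Classical.UnitElusive
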