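/-
Decomposition of fixed-point-free isometries of prime order into blocks.
-/
import Cfsg.Agent.Lib.Classical.UnitElusive.Blocks
import Cfsg.Agent.Lib.Classical.UnitElusive.Coord
import Cfsg.Agent.Lib.Classical.GLPrimeClassData
import Cfsg.Agent.Lib.Classical.InversionIndex

set_option autoImplicit false

namespace CfsgLib.Classical.UnitElusive

open Module Polynomial CfsgLib.Classical Cfsg CfsgLib.Classical22.PrimeMaps CfsgLib.Classical.InvIdx

universe u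

variable {F : Type u} [Field F] {q n d r : ℕ}

theorem restrict_annih {f : Module.End F (Fin n → F)} {S : Submodule F (Fin n → F)} (hS : Inv f S) {P : F[X]}
    (h : ∀ s ∈ S, aeval f P s = 0) : aeval (f.restrict hS : Module.End F S) P = 0 := by
  refine LinearMap.ext fun w => Subtype.ext ?_
  have h2 : ∀ (Q : F[X]) (v : S), ((aeval (f.restrict hS : Module.End F S) Q v : S) : Fin n → F) =
      aeval f Q (v : Fin n → F) := by
    intro Q
    induction Q using Polynomial.induction_on with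
    | C a => intro v; simp [Module.algebraMap_end_apply]
    | add a b ha hb => intro v; simp [ha, hb]
    | monomial k a ih =>
      intro v
      rw [show C a * X ^ (k + 1) = C a * X ^ k * X by ring, map_mul (aeval f) _ X,
        map_mul (aeval (f.restrict hS : Module.End F S)) _ X, aeval_X, aeval_X, Module.End.mul_apply,
        Module.End.mul_apply, ih]
      rfl
  rw [h2, h w w.2]
  rfl

variable [Fintype F]

/-- A subspace killed by an irreducible polynomial is the image of any model with the same annihilator. -/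
theorem exists_intertwine_map {f : Module.End F (Fin n → F)} {S : Submodule F (Fin n → F)} (hS : Inv f S)
    {P : F[X]} (hP : Irreducible P) (hPS : ∀ s ∈ S, aeval f P s = 0) {B : Module.End F (Fin d → F)}
    (hB : aeval B P = 0) (hd : finrank F S = d) :
    ∃ Ψ : (Fin d → F) →ₗ[F] (Fin n → F), Function.Injective Ψ ∧ LinearMap.range Ψ = S ∧
      ∀ x, f (Ψ x) = Ψ (B x) := by
  haveI : Fact (Irreducible P) := ⟨hP⟩
  obtain ⟨φ, hφ⟩ := CfsgLib.Classical.Primary.exists_intertwine P B hB (f.restrict hS : Module.End F S)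
    (restrict_annih hS hPS) ((Module.finrank_fin_fun F).trans hd.symm)
  refine ⟨S.subtype ∘ₗ φ.toLinearMap, S.injective_subtype.comp φ.injective, ?_, fun x => ?_⟩
  · rw [LinearMap.range_comp_of_range_eq_top _ (LinearEquiv.range φ), Submodule.range_subtype]
  · show f (φ x : Fin n → F) = (φ (B x) : Fin n → F)
    rw [hφ]
    rfl

variable (hF : Fintype.card F = q ^ 2)
include hF

theorem exists_block_annih {f : Module.End F (Fin n → F)} [hr : Fact r.Prime] (hrF : (r : F) ≠ 0)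
    (hf : ∀ v, (f ^ r) v = v) {S : Submodule F (Fin n → F)} (hS : Inv f S) (hS0 : S ≠ ⊥)
    (hmin : ∀ W', Inv f W' → W' ≤ S → W' ≠ ⊥ → W' = S) (hfix : ∀ w ∈ S, f w = w → w = 0) :
    ∃ P : F[X], Irreducible P ∧ P ∣ X ^ r - 1 ∧ P.eval 1 ≠ 0 ∧ P.natDegree = bOrd r q ∧
      ∀ s ∈ S, aeval f P s = 0 := by
  obtain ⟨P, hP, hPd, hdeg, hPS⟩ := simple_minpoly f hS hS0 hmin (X_pow_sub_C_ne_zero hr.out.pos (1 : F))
    (fun w _ => by simp [hf])
  rw [map_one] at hPd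
  refine ⟨P, hP, hPd, fun h1 => ?_, hdeg.trans (simple_dim hF hrF hf hS hS0 hmin hfix), hPS⟩
  obtain ⟨Q, hQ⟩ := ((irreducible_X_sub_C (1 : F)).associated_of_dvd hP (dvd_iff_isRoot.2 h1)).symm.dvd
  obtain ⟨w, hw, hw0⟩ := S.exists_mem_ne_zero_of_ne_bot hS0
  refine hw0 (hfix w hw ?_)
  have h2 : aeval f (X - C (1 : F)) w = 0 := by
    rw [hQ, mul_comm, map_mul, Module.End.mul_apply, hPS w hw, map_zero]
  rwa [map_sub, aeval_X, aeval_C, map_one, LinearMap.sub_apply, Module.End.one_apply, sub_eq_zero] at h2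

section

variable [hr : Fact r.Prime] {f : Module.End F (Fin n → F)}
  (hfB : ∀ a b, hermForm n F q (f a) (f b) = hermForm n F q a b) (hrF : (r : F) ≠ 0) (hf : ∀ v, (f ^ r) v = v)
include hfB hrF hf

/-- A fixed-point-free non-degenerate invariant space contains a block of dimension `cOrd r q`, and this block
contains a totally isotropic part of dimension `bOrd r q` when `c = 2b`. -/
theorem exists_block {Y : Submodule F (Fin n → F)} (hY : Inv f Y) (hYn : HNd q Y)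
    (hfix : ∀ w ∈ Y, f w = w → w = 0) (hY0 : Y ≠ ⊥) :
    ∃ W, Inv f W ∧ HNd q W ∧ W ≤ Y ∧ finrank F W = cOrd r q ∧
      (cOrd r q = bOrd r q ∨ ∃ U, Inv f U ∧ HIso q U ∧ U ≤ W ∧ finrank F U = bOrd r q) := by
  classical
  have hq := q_ne_zero hF hrF
  have hb := bOrd_pos hq
  have hcc := cOrd_cases hq
  have hf' : ∀ v, (f ^ r) v = (1 : F) • v := fun v => by rw [hf, one_smul]
  obtain ⟨S, hS, hSY, hS0, hSm⟩ := exists_simple f hY hY0
  have hfS : ∀ w ∈ S, f w = w → w = 0 := fun w hw => hfix w (hSY hw)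
  have hSd := simple_dim hF hrF hf hS hS0 hSm hfS
  rcases dich hF hfB hrF hf hS hSm with hSn | hSi
  · have h := c_le hF hfB hrF hf hS hSn hfS hS0
    have hcb : cOrd r q = bOrd r q := by omega
    exact ⟨S, hS, hSn, hSY, hSd.trans hcb.symm, Or.inl hcb⟩
  obtain ⟨K, hK, hKY, hKd, h1, h2⟩ := exists_partner hF hfB hrF one_ne_zero hf' hS hY
    fun s hs h => hYn s (hSY hs) h
  rw [hSd] at hKd
  have hK0 : K ≠ ⊥ := fun h => by rw [h, finrank_bot] at hKd; omega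
  have hfK : ∀ w ∈ K, f w = w → w = 0 := fun w hw => hfix w (hKY hw)
  have hKm : ∀ W', Inv f W' → W' ≤ K → W' ≠ ⊥ → W' = K := fun W' hW' hle h0 => by
    refine Submodule.eq_of_le_of_finrank_le hle ?_
    rw [hKd]
    refine Nat.le_of_dvd (Nat.pos_of_ne_zero fun h => h0 (Submodule.finrank_eq_zero.1 h)) ?_
    exact b_dvd hF hrF hf hW' fun w hw => hfK w (hle hw)
  rcases dich hF hfB hrF hf hK hKm with hKn | hKi
  · have h := c_le hF hfB hrF hf hK hKn hfK hK0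
    have hcb : cOrd r q = bOrd r q := by omega
    exact ⟨K, hK, hKn, hKY, hKd.trans hcb.symm, Or.inl hcb⟩
  obtain ⟨hWn, hWd⟩ := nd_of_pair hF hSi hKi h1 h2
  rw [hSd, hKd] at hWd
  rcases hcc with hcb | hcb
  swap
  · exact ⟨S ⊔ K, inv_sup hS hK, hWn, sup_le hSY hKY, by omega, Or.inr ⟨S, hS, hSi, le_sup_left, hSd⟩⟩
  -- split the span of the two isotropic parts by a model
  obtain ⟨PS, hPS, hPSd, hPS1, hPSdeg, hPSk⟩ := exists_block_annih hF hrF hf hS hS0 hSm hfS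
  obtain ⟨PK, hPK, hPKd, hPK1, hPKdeg, hPKk⟩ := exists_block_annih hF hrF hf hK hK0 hKm hfK
  obtain ⟨AS, hASB, hAS⟩ := exists_power hF hrF hcb hPS hPSd hPS1 hPSdeg
  obtain ⟨AK, hAKB, hAK⟩ := exists_power hF hrF hcb hPK hPKd hPK1 hPKdeg
  obtain ⟨ΨS, hΨSi, hΨSr, hΨSc⟩ := exists_intertwine_map hS hPS hPSk hAS hSd
  obtain ⟨ΨK, hΨKi, hΨKr, hΨKc⟩ := exists_intertwine_map hK hPK hPKk hAK hKd
  obtain ⟨m, hm⟩ : ∃ m : Fin 2 → ℕ, m = fun _ => bOrd r q := ⟨_, rfl⟩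
  subst hm
  obtain ⟨e, -⟩ : ∃ e : (Σ _ : Fin 2, Fin (bOrd r q)) ≃ Fin (bOrd r q + bOrd r q), e = e :=
    ⟨Fintype.equivFinOfCardEq (by simp [two_mul]), rfl⟩
  obtain ⟨A, hA0, hA1⟩ : ∃ A : ∀ _ : Fin 2, Module.End F (Fin (bOrd r q) → F), A 0 = AS ∧ A 1 = AK :=
    ⟨![AS, AK], rfl, rfl⟩
  have hAB : ∀ j a b, hermForm (bOrd r q) F q (A j a) (A j b) = hermForm (bOrd r q) F q a b :=
    Fin.forall_fin_two.2 ⟨hA0.symm ▸ hASB, hA1.symm ▸ hAKB⟩
  obtain ⟨Ψ, hΨ⟩ : ∃ Ψ : (Fin (bOrd r q + bOrd r q) → F) →ₗ[F] (Fin n → F), ∀ x,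
      Ψ x = ΨS (fun i => x (e ⟨0, i⟩)) + ΨK (fun i => x (e ⟨1, i⟩)) :=
    ⟨ΨS ∘ₗ LinearMap.funLeft F F (fun i => e ⟨0, i⟩) + ΨK ∘ₗ LinearMap.funLeft F F (fun i => e ⟨1, i⟩),
      fun x => rfl⟩
  have hSK : S ⊓ K = ⊥ := eq_bot_iff.2 fun x hx =>
    (Submodule.mem_bot F).2 (h2 x hx.1 fun k hk => hKi x hx.2 k hk)
  have hΨi : Function.Injective Ψ := (injective_iff_map_eq_zero _).2 fun x hx => by
    rw [hΨ] at hx
    have hm : ΨS (fun i => x (e ⟨0, i⟩)) ∈ S ⊓ K := by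
      refine ⟨hΨSr.le ⟨_, rfl⟩, ?_⟩
      rw [SetLike.mem_coe, eq_neg_of_add_eq_zero_left hx]
      exact K.neg_mem (hΨKr.le ⟨_, rfl⟩)
    rw [hSK, Submodule.mem_bot] at hm
    rw [hm, zero_add] at hx
    refine eq_of_comp e (Fin.forall_fin_two.2 ⟨?_, ?_⟩)
    · exact hΨSi (hm.trans (map_zero _).symm)
    · exact hΨKi (hx.trans (map_zero _).symm)
  have hΨr : LinearMap.range Ψ = S ⊔ K := by
    refine Submodule.eq_of_le_of_finrank_eq ?_ (by
      rw [LinearMap.finrank_range_of_inj hΨi, Module.finrank_fin_fun, hWd])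
    rintro _ ⟨x, rfl⟩
    rw [hΨ]
    exact Submodule.add_mem_sup (hΨSr.le ⟨_, rfl⟩) (hΨKr.le ⟨_, rfl⟩)
  obtain ⟨ι, hι, hιr, hιc⟩ := exists_emb_of_similar hF hfB hWn (blockMap_isometry e A hAB) Ψ hΨi hΨr fun x => by
    have e0 : (fun i => blockMap e A x (e ⟨0, i⟩)) = A 0 (fun i => x (e ⟨0, i⟩)) := blockMap_comp e A x 0
    have e1 : (fun i => blockMap e A x (e ⟨1, i⟩)) = A 1 (fun i => x (e ⟨1, i⟩)) := blockMap_comp e A x 1
    rw [hΨ, hΨ, map_add, hΨSc, hΨKc, e0, e1, hA0, hA1]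
  obtain ⟨π, hπ, hπc, -⟩ := exists_block_emb hF e A 0
  have hc : IsEmb q (ι ∘ₗ π) := fun a b => by rw [LinearMap.comp_apply, LinearMap.comp_apply, hι, hπ]
  refine ⟨LinearMap.range (ι ∘ₗ π), ?_, (emb_nd hF hc).1, ?_, (emb_nd hF hc).2.trans hcb.symm, Or.inl hcb⟩
  · rintro _ ⟨a, rfl⟩
    exact ⟨A 0 a, by rw [LinearMap.comp_apply, LinearMap.comp_apply, hιc, hπc]⟩
  · exact ((LinearMap.range_comp_le_range π ι).trans hιr.le).trans (sup_le hSY hKY)

theorem c_dvd : ∀ {Y : Submodule F (Fin n → F)}, Inv f Y → HNd q Y → (∀ w ∈ Y, f w = w → w = 0) →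
    cOrd r q ∣ finrank F Y := by
  intro Y
  obtain ⟨k, hk⟩ : ∃ k, finrank F Y = k := ⟨_, rfl⟩
  induction k using Nat.strong_induction_on generalizing Y with
  | _ k ih =>
    intro hY hYn hfix
    by_cases hY0 : Y = ⊥
    · rw [hY0, finrank_bot]; exact dvd_zero _
    obtain ⟨W, hW, hWn, hWY, hWd, -⟩ := exists_block hF hfB hrF hf hY hYn hfix hY0
    obtain ⟨-, -, h3, h4⟩ := compl_in hF hWn hWY
    have hc := cOrd_pos (q_ne_zero hF hrF)
    rw [← h4, hWd]
    exact Nat.dvd_add dvd_rfl (ih _ (by omega) (Y := Y ⊓ horth q W) rfl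
      (fun w hw => ⟨hY w hw.1, inv_orth hF hfB one_ne_zero (fun v => by rw [hf, one_smul]) hW w hw.2⟩)
      (h3 hYn) fun w hw => hfix w hw.1)

/-- Orthogonal sums of blocks. -/
theorem exists_nd_mult : ∀ (s : ℕ) (Y : Submodule F (Fin n → F)), Inv f Y → HNd q Y →
    (∀ w ∈ Y, f w = w → w = 0) → s * cOrd r q ≤ finrank F Y →
      ∃ W, Inv f W ∧ HNd q W ∧ W ≤ Y ∧ finrank F W = s * cOrd r q := by
  intro s
  induction s with
  | zero => intro Y _ _ _ _; exact ⟨⊥, inv_bot f, nd_bot hF, bot_le, by rw [finrank_bot, zero_mul]⟩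
  | succ s ih =>
    intro Y hY hYn hfix hs
    rw [add_one_mul] at hs
    have hc := cOrd_pos (q_ne_zero hF hrF)
    obtain ⟨W, hW, hWn, hWY, hWd, -⟩ := exists_block hF hfB hrF hf hY hYn hfix fun h => by
      rw [h, finrank_bot] at hs; omega
    obtain ⟨-, -, h3, h4⟩ := compl_in hF hWn hWY
    obtain ⟨W', hW', hWn', hWY', hWd'⟩ := ih (Y ⊓ horth q W)
      (fun w hw => ⟨hY w hw.1, inv_orth hF hfB one_ne_zero (fun v => by rw [hf, one_smul]) hW w hw.2⟩)
      (h3 hYn) (fun w hw => hfix w hw.1) (by omega)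
    refine ⟨W ⊔ W', inv_sup hW hW', nd_sup hF hWn hWn' (hWY'.trans inf_le_right),
      sup_le hWY (hWY'.trans inf_le_left), ?_⟩
    rw [finrank_sup_orth hF hWn (hWY'.trans inf_le_right), hWd, hWd', add_one_mul, add_comm]

/-- The isotropic parts of the blocks for `c = 2b`. -/
theorem exists_iso_two (hcb : cOrd r q ≠ bOrd r q) : ∀ (t : ℕ) (Y : Submodule F (Fin n → F)), Inv f Y → HNd q Y →
    (∀ w ∈ Y, f w = w → w = 0) → 2 * (t * bOrd r q) ≤ finrank F Y →
      ∃ U, Inv f U ∧ HIso q U ∧ U ≤ Y ∧ finrank F U = t * bOrd r q := by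
  intro t
  induction t with
  | zero => intro Y _ _ _ _; exact ⟨⊥, inv_bot f, iso_bot hF, bot_le, by rw [finrank_bot, zero_mul]⟩
  | succ t ih =>
    intro Y hY hYn hfix hs
    rw [add_one_mul] at hs
    have hb := bOrd_pos (q_ne_zero hF hrF)
    have hc2 := (cOrd_cases (q_ne_zero hF hrF)).resolve_left hcb
    obtain ⟨W, hW, hWn, hWY, hWd, hU⟩ := exists_block hF hfB hrF hf hY hYn hfix fun h => by
      rw [h, finrank_bot] at hs; omega
    obtain ⟨U, hUinv, hUi, hUW, hUd⟩ := hU.resolve_left hcb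
    obtain ⟨-, -, h3, h4⟩ := compl_in hF hWn hWY
    obtain ⟨U', hU', hUi', hUY', hUd'⟩ := ih (Y ⊓ horth q W)
      (fun w hw => ⟨hY w hw.1, inv_orth hF hfB one_ne_zero (fun v => by rw [hf, one_smul]) hW w hw.2⟩)
      (h3 hYn) (fun w hw => hfix w hw.1) (by omega)
    refine ⟨U ⊔ U', inv_sup hUinv hU', iso_sup hF hUi hUi' fun u hu w hw => (hUY' hu).2 w (hUW hw),
      sup_le (hUW.trans hWY) (hUY'.trans inf_le_left), ?_⟩
    rw [finrank_sup_orth' hF hWn hUW (hUY'.trans inf_le_right), hUd, hUd', add_one_mul, add_comm]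

/-- Two orthogonal blocks with the same annihilator contain a totally isotropic one. -/
theorem pair_iso {P : F[X]} (hP : Irreducible P) {S₁ S₂ : Submodule F (Fin n → F)} (h1 : Inv f S₁) (h2 : Inv f S₂)
    (n1 : HNd q S₁) (n2 : HNd q S₂) (hd : finrank F S₂ = finrank F S₁) (p1 : ∀ v ∈ S₁, aeval f P v = 0)
    (p2 : ∀ v ∈ S₂, aeval f P v = 0) (ho : S₂ ≤ horth q S₁) :
    ∃ U, Inv f U ∧ HIso q U ∧ U ≤ S₁ ⊔ S₂ ∧ finrank F U = finrank F S₁ := by
  obtain ⟨ι₁, hι₁, hr₁⟩ := exists_emb hF n1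
  obtain ⟨A, hA, hAB⟩ := exists_restrict hF hfB hι₁ (hr₁.symm ▸ h1)
  have hA0 : aeval A P = 0 := LinearMap.ext fun a => emb_injective hF hι₁ (by
    rw [← aeval_comm hA P a, p1 _ (hr₁.le ⟨a, rfl⟩), LinearMap.zero_apply, map_zero])
  obtain ⟨Ψ, hΨi, hΨr, hΨc⟩ := exists_intertwine_map h2 hP p2 hA0 hd
  obtain ⟨ι₂, hι₂, hr₂, hc₂⟩ := exists_emb_of_similar hF hfB n2 hAB Ψ hΨi hΨr hΨc
  obtain ⟨lam, hlam⟩ := exists_neg_one_norm (F := F) hF
  have hor : ∀ a b, hermForm n F q (ι₁ a) (ι₂ b) = 0 := fun a b =>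
    orth_symm hF ho (hr₁.le ⟨a, rfl⟩) _ (hr₂.le ⟨b, rfl⟩)
  obtain ⟨hi, hdim, hle⟩ := twist hF hι₁ hι₂ hor hlam
  refine ⟨_, ?_, hi, hle.trans (by rw [hr₁, hr₂]), hdim⟩
  rintro _ ⟨a, rfl⟩
  refine ⟨A a, ?_⟩
  simp only [LinearMap.add_apply, LinearMap.smul_apply, map_add, map_smul, hA, hc₂]

/-- The isotropic parts given by repeated types for `c = b`. -/
theorem exists_iso_one (hr2 : r ≠ 2) (hcb : cOrd r q = bOrd r q) : ∀ (t : ℕ) (Y : Submodule F (Fin n → F)),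
    Inv f Y → HNd q Y → (∀ w ∈ Y, f w = w → w = 0) →
    (t = 0 ∨ (2 * t + (r - 1) / bOrd r q) * bOrd r q ≤ finrank F Y + bOrd r q) →
      ∃ U, Inv f U ∧ HIso q U ∧ U ≤ Y ∧ finrank F U = t * bOrd r q := by
  classical
  obtain ⟨s, hs⟩ : ∃ s, s = (r - 1) / bOrd r q := ⟨_, rfl⟩
  rw [← hs]
  have hq := q_ne_zero hF hrF
  have hb := bOrd_pos hq
  have hsr : s * bOrd r q = r - 1 := by rw [hs]; exact Nat.div_mul_cancel (bOrd_dvd_sub hq)
  obtain ⟨p, hp⟩ := CharP.exists F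
  haveI := Fact.mk (CharP.char_is_prime F p)
  have hrp : r ≠ p := fun h => hrF (h ▸ CharP.cast_eq_zero F p)
  obtain ⟨-, P, hP0, hPirr, hPdeg, hPco, hPprod⟩ := CfsgLib.Classical.GLPrimeData.exists_factors (F := F) (p := p)
    rfl r (bOrd r q) s hr.out hrp (bOrd_eq_card hF) hsr
  have htype : ∀ Y', Inv f Y' → HNd q Y' → (∀ w ∈ Y', f w = w → w = 0) → Y' ≠ ⊥ →
      ∃ S, Inv f S ∧ HNd q S ∧ S ≤ Y' ∧ finrank F S = bOrd r q ∧
        ∃ j, ∀ v ∈ S, aeval f (P (some j)) v = 0 := by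
    intro Y' a b c d
    obtain ⟨W, hW, hWn, hWY, hWd, -⟩ := exists_block hF hfB hrF hf a b c d
    rw [hcb] at hWd
    have hW0 : W ≠ ⊥ := fun h => by rw [h, finrank_bot] at hWd; omega
    obtain ⟨R, hR, hRW, hR0, hRm⟩ := exists_simple f hW hW0
    have hcR : ∀ w ∈ R, f w = w → w = 0 := fun w hw => c w (hWY (hRW hw))
    have hRW' : R = W := Submodule.eq_of_le_of_finrank_eq hRW (by
      rw [hWd, simple_dim hF hrF hf hR hR0 hRm hcR])
    subst hRW'
    obtain ⟨Q, hQ, hQd, hQ1, -, hQS⟩ := exists_block_annih hF hrF hf hR hR0 hRm hcR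
    rw [← hPprod] at hQd
    obtain ⟨o, -, ho⟩ := (Prime.dvd_finset_prod_iff hQ.prime _).1 hQd
    rcases o with _ | j
    · exfalso
      obtain ⟨c', hc'⟩ := (hQ.associated_of_dvd (hPirr none) ho).symm.dvd
      rw [hc', eval_mul, hP0, eval_sub, eval_X, eval_C, sub_self, zero_mul] at hQ1
      exact hQ1 rfl
    · refine ⟨R, hR, hWn, hWY, hWd, j, fun v hv => ?_⟩
      obtain ⟨c', hc'⟩ := ho
      rw [hc', mul_comm, map_mul, Module.End.mul_apply, hQS v hv, map_zero]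
  have hfam : ∀ (k : ℕ) (Y : Submodule F (Fin n → F)), Inv f Y → HNd q Y → (∀ w ∈ Y, f w = w → w = 0) →
      k * bOrd r q ≤ finrank F Y →
      ∃ (S : Fin k → Submodule F (Fin n → F)) (ty : Fin k → Fin s),
        (∀ a, Inv f (S a) ∧ HNd q (S a) ∧ S a ≤ Y ∧ finrank F (S a) = bOrd r q ∧
          ∀ x ∈ S a, aeval f (P (some (ty a))) x = 0) ∧ ∀ a a', a < a' → S a' ≤ horth q (S a) := by
    intro k
    induction k with
    | zero => intro Y _ _ _ _; exact ⟨Fin.elim0, Fin.elim0, fun a => a.elim0, fun a => a.elim0⟩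
    | succ k ih =>
      intro Y hY hYn hfix hk
      rw [add_one_mul] at hk
      obtain ⟨S₀, a, b, c, d, j, hj⟩ := htype Y hY hYn hfix fun h => by rw [h, finrank_bot] at hk; omega
      obtain ⟨-, -, h3, h4⟩ := compl_in hF b c
      obtain ⟨S, ty, hS, hSo⟩ := ih (Y ⊓ horth q S₀)
        (fun w hw => ⟨hY w hw.1, inv_orth hF hfB one_ne_zero (fun v => by rw [hf, one_smul]) a w hw.2⟩)
        (h3 hYn) (fun w hw => hfix w hw.1) (by omega)
      refine ⟨Fin.cons S₀ S, Fin.cons j ty, fun i => ?_, fun i i' hii => ?_⟩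
      · refine Fin.cases ?_ (fun i => ?_) i
        · simp only [Fin.cons_zero]; exact ⟨a, b, c, d, hj⟩
        · simp only [Fin.cons_succ]
          obtain ⟨a', b', c', d'⟩ := hS i
          exact ⟨a', b', c'.trans inf_le_left, d'⟩
      · revert hii
        refine Fin.cases ?_ (fun i' => ?_) i'
        · intro h; exact absurd h (Fin.not_lt_zero i)
        · refine Fin.cases ?_ (fun i => ?_) i <;> intro hii <;> simp only [Fin.cons_zero, Fin.cons_succ]
          · exact ((hS i').2.2.1).trans inf_le_right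
          · exact hSo i i' (Fin.succ_lt_succ_iff.1 hii)
  intro t
  induction t with
  | zero => intro Y _ _ _ _; exact ⟨⊥, inv_bot f, iso_bot hF, bot_le, by rw [finrank_bot, zero_mul]⟩
  | succ t ih =>
    intro Y hY hYn hfix ht
    have ht' : (2 * t + s + 1) * bOrd r q ≤ finrank F Y := by
      have h := ht.resolve_left (Nat.succ_ne_zero t)
      rw [show 2 * (t + 1) + s = (2 * t + s + 1) + 1 by omega, add_one_mul (2 * t + s + 1)] at h
      omega
    have ht2 : (2 * t + s + 1) * bOrd r q = 2 * (t * bOrd r q) + s * bOrd r q + bOrd r q := by ring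
    obtain ⟨S, ty, hS, hSo⟩ := hfam (s + 1) Y hY hYn hfix
      (le_trans (Nat.mul_le_mul_right _ (by omega)) ht')
    obtain ⟨a, a', hne, heq⟩ := Fintype.exists_ne_map_eq_of_card_lt ty (by simp)
    obtain ⟨a, a', hlt, heq⟩ : ∃ a a', a < a' ∧ ty a = ty a' := by
      rcases lt_or_gt_of_ne hne with h | h
      · exact ⟨a, a', h, heq⟩
      · exact ⟨a', a, h, heq.symm⟩
    obtain ⟨a1, b1, c1, d1, p1⟩ := hS a
    obtain ⟨a2, b2, c2, d2, p2⟩ := hS a'
    obtain ⟨U₁, hU₁, hUi₁, hUS, hUd₁⟩ := pair_iso hF hfB hrF hf (hPirr (some (ty a))) a1 a2 b1 b2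
      (d2.trans d1.symm) p1 (heq.symm ▸ p2) (hSo a a' hlt)
    have hWn : HNd q (S a ⊔ S a') := nd_sup hF b1 b2 (hSo a a' hlt)
    have hWY : S a ⊔ S a' ≤ Y := sup_le c1 c2
    have hWd := finrank_sup_orth hF b1 (hSo a a' hlt)
    rw [d1, d2] at hWd
    obtain ⟨-, -, h3, h4⟩ := compl_in hF hWn hWY
    obtain ⟨U, hU, hUi, hUY, hUd⟩ := ih (Y ⊓ horth q (S a ⊔ S a'))
      (fun w hw => ⟨hY w hw.1, inv_orth hF hfB one_ne_zero (fun v => by rw [hf, one_smul]) (inv_sup a1 a2) w hw.2⟩)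
      (h3 hYn) (fun w hw => hfix w hw.1) (by
        rcases Nat.eq_zero_or_pos t with h0 | h0
        · exact Or.inl h0
        · right
          rw [show (2 * t + s) * bOrd r q = 2 * (t * bOrd r q) + s * bOrd r q by ring]
          omega)
    refine ⟨U₁ ⊔ U, inv_sup hU₁ hU, iso_sup hF hUi₁ hUi fun u hu w hw => (hUY hu).2 w (hUS hw),
      sup_le (hUS.trans hWY) (hUY.trans inf_le_left), ?_⟩
    rw [finrank_sup_orth' hF hWn hUS (hUY.trans inf_le_right), hUd₁, d1, hUd, add_one_mul, add_comm]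

end

end CfsgLib.Classical.UnitElusive
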