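/-
Invariant subspaces of isometries of prime order: existence, and elements with few of them.
-/
import Cfsg.Agent.Lib.Classical.UnitElusive.Decomp

set_option autoImplicit false

namespace CfsgLib.Classical.UnitElusive

open Module Polynomial CfsgLib.Classical Cfsg CfsgLib.Classical22.PrimeMaps CfsgLib.Classical.InvIdx

universe u

variable {F : Type u} [Field F] {q n d m r : ℕ}

theorem le_fixed_inv {f : Module.End F (Fin n → F)} {W : Submodule F (Fin n → F)} (h : W ≤ fixed f) : Inv f W :=
  fun w hw => by rw [mem_fixed.1 (h hw)]; exact hw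

theorem mod_le_of_add_mul {n c k e : ℕ} (h : k + e * c = n) : n % c ≤ k := by
  rw [← h, Nat.add_mul_mod_self_right]; exact Nat.mod_le _ _

variable [Fintype F] (hF : Fintype.card F = q ^ 2)
include hF

section Power

variable [hr : Fact r.Prime] {f : Module.End F (Fin n → F)}
  (hfB : ∀ a b, hermForm n F q (f a) (f b) = hermForm n F q a b) (hrF : (r : F) ≠ 0) (hf : ∀ v, (f ^ r) v = v)
include hfB hrF hf

/-- An isometry of order `r` leaves a non-degenerate `m`-space invariant if the residues fit. -/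
theorem exists_nd_inv (hm : m ≤ n) (h : m % cOrd r q ≤ n % cOrd r q) :
    ∃ W : Submodule F (Fin n → F), finrank F W = m ∧ HNd q W ∧ Inv f W := by
  obtain ⟨Y, hY, hYn, hYfix, hYo, hfx, hd⟩ := fixed_split hF hfB hrF hf
  obtain ⟨e, he⟩ := c_dvd hF hfB hrF hf hY hYn hYfix
  have hc := cOrd_pos (q_ne_zero hF hrF)
  obtain ⟨t, ht⟩ : ∃ t, t = min (m / cOrd r q) e := ⟨_, rfl⟩
  have hd' : finrank F (fixed f) + e * cOrd r q = n := by rw [mul_comm, ← he]; exact hd
  have hk := mod_le_of_add_mul hd'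
  have hm0 := Nat.div_add_mod' m (cOrd r q)
  obtain ⟨W, hW, hWn, hWY, hWd⟩ := exists_nd_mult hF hfB hrF hf t Y hY hYn hYfix (by
    rw [he, mul_comm (cOrd r q) e]; exact Nat.mul_le_mul_right _ (by omega))
  have hle : t * cOrd r q ≤ m := le_trans (Nat.mul_le_mul_right _ (by omega : t ≤ m / cOrd r q))
    (Nat.div_mul_le_self m _)
  have hj : m - t * cOrd r q ≤ finrank F (fixed f) := by
    rcases (show t = m / cOrd r q ∨ t = e by omega) with h' | h'
    · subst h'; omega
    · subst h'; omega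
  obtain ⟨J, hJ, hJn, hJd⟩ := exists_nd_sub hF hfx hj
  refine ⟨J ⊔ W, ?_, nd_sup hF hJn hWn fun w hw u hu => hYo (hWY hw) u (hJ hu), inv_sup (le_fixed_inv hJ) hW⟩
  rw [finrank_sup_orth' hF hfx hJ (hWY.trans hYo), hJd, hWd]
  omega

/-- An isometry of order `r` leaves a totally isotropic `m`-space invariant if the residues and types fit. -/
theorem exists_iso_inv (hr2 : r ≠ 2) (hm : 2 * m ≤ n) (h : 2 * (m % bOrd r q) ≤ n % cOrd r q)
    (hs : cOrd r q = bOrd r q → (r - 1) / bOrd r q + 2 * (m / bOrd r q) ≤ n / bOrd r q) :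
    ∃ W : Submodule F (Fin n → F), finrank F W = m ∧ HIso q W ∧ Inv f W := by
  obtain ⟨Y, hY, hYn, hYfix, hYo, hfx, hd⟩ := fixed_split hF hfB hrF hf
  obtain ⟨e, he⟩ := c_dvd hF hfB hrF hf hY hYn hYfix
  have hb := bOrd_pos (q_ne_zero hF hrF)
  have hd' : finrank F (fixed f) + e * cOrd r q = n := by rw [mul_comm, ← he]; exact hd
  have hk := mod_le_of_add_mul hd'
  obtain ⟨b, hbdef⟩ : ∃ b, b = bOrd r q := ⟨_, rfl⟩
  obtain ⟨m', hm'⟩ : ∃ m', m' = m / b := ⟨_, rfl⟩
  obtain ⟨l, hl⟩ : ∃ l, l = m % b := ⟨_, rfl⟩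
  have hml : m' * b + l = m := by rw [hm', hl]; exact Nat.div_add_mod' m b
  rw [← hbdef, ← hl] at h
  obtain ⟨t, hj, U, hU, hUi, hUY, hUd⟩ : ∃ t, (t ≤ m' ∧ 2 * (m - t * b) ≤ finrank F (fixed f)) ∧
      ∃ U, Inv f U ∧ HIso q U ∧ U ≤ Y ∧ finrank F U = t * b := by
    by_cases hcb : cOrd r q = bOrd r q
    · obtain ⟨s, hsdef⟩ : ∃ s, s = (r - 1) / b := ⟨_, rfl⟩
      obtain ⟨n', hn'⟩ : ∃ n', n' = n / b := ⟨_, rfl⟩
      have hs' := hs hcb
      rw [← hbdef, ← hsdef, ← hn', ← hm'] at hs'
      rw [hcb, ← hbdef] at hk h hd' he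
      have hnl : n' * b + n % b = n := by rw [hn']; exact Nat.div_add_mod' n b
      obtain ⟨T, hT⟩ : ∃ T, T = (e + 1 - s) / 2 := ⟨_, rfl⟩
      refine ⟨min m' T, ⟨min_le_left _ _, ?_⟩, ?_⟩
      · rcases (show min m' T = m' ∨ (min m' T = T ∧ T ≤ m') by omega) with e' | ⟨e', hTm⟩ <;> rw [e']
        · omega
        · have k1 := Nat.mul_le_mul_right b hs'
          have k2 := Nat.mul_le_mul_right b (show e ≤ 2 * T + s by omega)
          have k3 := Nat.mul_le_mul_right b hTm
          rw [add_mul, mul_assoc] at k1 k2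
          omega
      · rw [hbdef]
        refine exists_iso_one hF hfB hrF hf hr2 hcb _ Y hY hYn hYfix ?_
        rw [← hbdef, ← hsdef, he, mul_comm b e]
        rcases Nat.eq_zero_or_pos (min m' T) with h0 | h0
        · exact Or.inl h0
        · right
          rw [show e * b + b = (e + 1) * b by ring]
          exact Nat.mul_le_mul_right b (by omega)
    · have hc2 := (cOrd_cases (q_ne_zero hF hrF)).resolve_left hcb
      rw [← hbdef] at hc2
      rw [hc2] at hk h hd' he
      refine ⟨min m' e, ⟨min_le_left _ _, ?_⟩, ?_⟩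
      · rw [show e * (2 * b) = 2 * (e * b) by ring] at hd'
        rcases (show min m' e = m' ∨ (min m' e = e ∧ e ≤ m') by omega) with e' | ⟨e', hem⟩ <;> rw [e']
        · omega
        · have k3 := Nat.mul_le_mul_right b hem
          omega
      · rw [hbdef]
        refine exists_iso_two hF hfB hrF hf hcb _ Y hY hYn hYfix ?_
        rw [← hbdef, he, mul_assoc 2 b e, mul_comm b e]
        exact Nat.mul_le_mul_left 2 (Nat.mul_le_mul_right b (min_le_right _ _))
  obtain ⟨J, hJ, hJi, hJd⟩ := exists_iso_sub hF hfx hj.2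
  refine ⟨J ⊔ U, ?_, iso_sup hF hJi hUi fun u hu w hw => hYo (hUY hu) w (hJ hw), inv_sup (le_fixed_inv hJ) hU⟩
  rw [finrank_sup_orth' hF hfx hJ (hUY.trans hYo), hJd, hUd]
  have k4 := Nat.mul_le_mul_right b hj.1
  omega

/-- The dimension of an invariant non-degenerate subspace. -/
theorem nd_inv_dim {U : Submodule F (Fin n → F)} (hU : Inv f U) (hUn : HNd q U) :
    ∃ j t, j ≤ finrank F (fixed f) ∧ finrank F U = j + t * cOrd r q := by
  have hXn := fixed_nd hF hfB hrF hf hU hUn
  obtain ⟨h1, -, h3, h4⟩ := compl_in hF hXn (inf_le_left : U ⊓ fixed f ≤ U)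
  obtain ⟨t, ht⟩ := c_dvd hF hfB hrF hf (Y := U ⊓ horth q (U ⊓ fixed f))
    (fun w hw => ⟨hU w hw.1, inv_orth hF hfB one_ne_zero (fun v => by rw [hf, one_smul])
      (le_fixed_inv inf_le_right) w hw.2⟩) (h3 hUn)
    (fun w hw hfw => (Submodule.mem_bot F).1 (h1 ▸ ⟨⟨hw.1, mem_fixed.2 hfw⟩, hw⟩))
  exact ⟨_, t, Submodule.finrank_mono inf_le_right, by rw [← h4, ht, mul_comm t]⟩

/-- The dimension of an invariant totally isotropic subspace. -/
theorem iso_inv_dim {U : Submodule F (Fin n → F)} (hU : Inv f U) (hUi : HIso q U) :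
    ∃ j t, 2 * j ≤ finrank F (fixed f) ∧ finrank F U = j + t * bOrd r q := by
  obtain ⟨Y, -, -, -, -, hfx, -⟩ := fixed_split hF hfB hrF hf
  obtain ⟨t, ht⟩ := (order_spec hrF hf hU).1
  rw [← bOrd_eq_card hF] at ht
  have h1 := iso_le_half hF hfx (inf_le_right : U ⊓ fixed f ≤ fixed f) fun a ha b hb => hUi a ha.1 b hb.1
  have h2 : finrank F (U ⊓ fixed f : Submodule F (Fin n → F)) ≤ finrank F U := Submodule.finrank_mono inf_le_left
  exact ⟨_, t, h1, by rw [mul_comm t, ← ht]; omega⟩

end Power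

section Witness

variable [hr : Fact r.Prime]

/-- A fixed-point-free isometry of order `r` on the `c`-space. -/
theorem exists_fpf_block (hrF : (r : F) ≠ 0) :
    ∃ A : Module.End F (Fin (cOrd r q) → F),
      (∀ a b, hermForm (cOrd r q) F q (A a) (A b) = hermForm (cOrd r q) F q a b) ∧ (∀ v, (A ^ r) v = v) ∧
        ∀ v, A v = v → v = 0 := by
  classical
  haveI : Fintype (GU (cOrd r q) F q) := Fintype.ofFinite _
  obtain ⟨g, hg⟩ := exists_prime_orderOf_dvd_card' (G := GU (cOrd r q) F q) r (by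
    rw [card_gu hF]
    exact dvd_unitaryOrder (by have := two_le_q hF; omega) (q_ne_zero hF hrF) le_rfl)
  obtain ⟨A, hA⟩ : ∃ A : Module.End F (Fin (cOrd r q) → F), ∀ x, A x = guApply g x :=
    ⟨(guLin g).toLinearMap, fun x => rfl⟩
  have hAB : ∀ a b, hermForm (cOrd r q) F q (A a) (A b) = hermForm (cOrd r q) F q a b := fun a b => by
    rw [hA, hA]; exact guApply_form g a b
  have hgp : ∀ (k : ℕ) a, (A ^ k) a = guApply (g ^ k) a := by
    intro k
    induction k with
    | zero => intro a; simp [guApply]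
    | succ k ih => intro a; rw [pow_succ', pow_succ', Module.End.mul_apply, guApply_mul, ih, hA]
  have hAr : ∀ v, (A ^ r) v = v := fun v => by
    rw [hgp, show g ^ r = 1 by have := pow_orderOf_eq_one g; rwa [hg] at this]; simp [guApply]
  refine ⟨A, hAB, hAr, ?_⟩
  obtain ⟨Y, hY, hYn, hYfix, -, -, hYd⟩ := fixed_split hF hAB hrF hAr
  have hY0 : Y ≠ ⊥ := fun h => by
    rw [h, finrank_bot, add_zero] at hYd
    have htop : fixed A = ⊤ := Submodule.eq_top_of_finrank_eq (by rw [hYd, Module.finrank_fin_fun])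
    have h1 : g = 1 := Subtype.ext (Units.ext (Matrix.ext_of_mulVec_single fun i => by
      have h := mem_fixed.1 (htop.ge (Submodule.mem_top (x := Pi.single i 1)))
      rw [hA] at h
      exact h.trans (Matrix.one_mulVec _).symm))
    rw [h1, orderOf_one] at hg
    exact hr.out.ne_one hg.symm
  have hle := c_le hF hAB hrF hAr hY hYn hYfix hY0
  have hfix : fixed A = ⊥ := Submodule.finrank_eq_zero.1 (by omega)
  exact fun w hw => (Submodule.mem_bot F).1 (hfix ▸ mem_fixed.2 hw)

/-- An isometry of order `r` with a given number of blocks and the least fixed space. -/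
theorem exists_blocks (hrF : (r : F) ≠ 0) {e : ℕ} (he : e * cOrd r q ≤ n) :
    ∃ f : Module.End F (Fin n → F), (∀ a b, hermForm n F q (f a) (f b) = hermForm n F q a b) ∧
      (∀ v, (f ^ r) v = v) ∧ finrank F (fixed f) = n - e * cOrd r q := by
  classical
  obtain ⟨A, hAB, hAr, hAf⟩ := exists_fpf_block (F := F) hF hrF
  obtain ⟨ms, hms, As, hAs⟩ : ∃ ms : Option (Fin e) → ℕ, ms = (fun o => Option.elim o (n - e * cOrd r q) fun _ => cOrd r q) ∧
      ∃ As : ∀ o, Module.End F (Fin (ms o) → F), ∀ o a b, hermForm (ms o) F q (As o a) (As o b) = hermForm (ms o) F q a b ∧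
        ((As o ^ r) a = a ∧ (o ≠ none → As o a = a → a = 0) ∧ (o = none → As o a = a)) :=
    ⟨_, rfl, (fun o => match o with | none => 1 | some _ => A), fun o a b => by
      cases o with
      | none => exact ⟨rfl, by rw [one_pow]; rfl, fun h => absurd rfl h, fun _ => rfl⟩
      | some j => exact ⟨hAB a b, hAr a, fun _ => hAf a, fun h => nomatch h⟩⟩
  obtain ⟨E, -⟩ : ∃ E : (Σ o, Fin (ms o)) ≃ Fin n, E = E := ⟨Fintype.equivFinOfCardEq (by
    simp [Fintype.card_sigma, hms, Fintype.sum_option]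
    omega), rfl⟩
  have hiso := blockMap_isometry E As (q := q) fun o a b => (hAs o a b).1
  refine ⟨blockMap E As, hiso, fun v => ?_, ?_⟩
  · rw [blockMap_pow_eq E As (z := 1) fun o a => by rw [one_smul]; exact (hAs o a a).2.1, one_smul]
  · have hfx : fixed (blockMap E As) = supp F (blockSet E fun o => o = none) := by
      ext x
      rw [mem_fixed, blockSet_mem]
      refine ⟨fun h o ho => (hAs o _ 0).2.2.1 ho (by rw [← blockMap_comp, h]), fun h => eq_of_comp E fun o => ?_⟩
      rw [blockMap_comp]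
      by_cases ho : o = none
      · exact (hAs o _ 0).2.2.2 ho
      · rw [h o ho, map_zero]
    rw [hfx, (exists_supp (q := q) hF _).2, card_blockSet,
      show (Finset.univ.filter fun o : Option (Fin e) => o = none) = {none} by ext o; simp,
      Finset.sum_singleton, hms]
    rfl

end Witness

section Primary

variable {J : Type*} [Fintype J] {P : J → F[X]}

theorem finrank_inf_sum {f : Module.End F (Fin n → F)} (hco : Pairwise (Function.onFun IsCoprime P))
    (hirr : ∀ j, Irreducible (P j))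
    (hann : aeval f (∏ j, P j) = 0) {U : Submodule F (Fin n → F)} (hU : Inv f U) :
    ∑ j, finrank F (U ⊓ LinearMap.ker (aeval f (P j)) : Submodule F (Fin n → F)) = finrank F U := by
  haveI : ∀ j, Fact (Irreducible (P j)) := fun j => ⟨hirr j⟩
  have hres : ∀ (Q : F[X]) (v : U), ((aeval (f.restrict hU : Module.End F U) Q v : U) : Fin n → F) =
      aeval f Q (v : Fin n → F) := by
    intro Q
    induction Q using Polynomial.induction_on with
    | C a => intro v; simp [Module.algebraMap_end_apply]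
    | add a b ha hb => intro v; simp [ha, hb]
    | monomial k a ih =>
      intro v
      rw [show C a * X ^ (k + 1) = C a * X ^ k * X by ring, map_mul (aeval f) _ X,
        map_mul (aeval (f.restrict hU : Module.End F U)) _ X, aeval_X, aeval_X, Module.End.mul_apply,
        Module.End.mul_apply, ih]
      rfl
  rw [← CfsgLib.Classical.Primary.finrank_sum P hco (f.restrict hU : Module.End F U)
    (restrict_annih hU fun s _ => by rw [hann]; rfl)]
  refine Finset.sum_congr rfl fun j _ => ?_
  have hmap : (LinearMap.ker (aeval (f.restrict hU : Module.End F U) (P j))).map U.subtype =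
      U ⊓ LinearMap.ker (aeval f (P j)) := by
    ext v
    constructor
    · rintro ⟨x, hx, rfl⟩
      refine ⟨x.2, LinearMap.mem_ker.2 ?_⟩
      rw [Submodule.subtype_apply, ← hres, LinearMap.mem_ker.1 hx]; rfl
    · rintro ⟨hv, hv'⟩
      exact ⟨⟨v, hv⟩, LinearMap.mem_ker.2 (Subtype.ext (by rw [hres]; exact LinearMap.mem_ker.1 hv')), rfl⟩
  rw [← hmap, ← (Submodule.equivMapOfInjective U.subtype U.injective_subtype _).finrank_eq]

/-- An invariant totally isotropic subspace meets every non-degenerate primary component in at most half. -/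
theorem iso_primary_bound {f : Module.End F (Fin n → F)} (hco : Pairwise (Function.onFun IsCoprime P))
    (hirr : ∀ j, Irreducible (P j)) (hann : aeval f (∏ j, P j) = 0) (W : J → Submodule F (Fin n → F))
    (hWn : ∀ j, HNd q (W j)) (hWP : ∀ j, ∀ x ∈ W j, aeval f (P j) x = 0) (hWd : n ≤ ∑ j, finrank F (W j))
    {U : Submodule F (Fin n → F)} (hU : Inv f U) (hUi : HIso q U) :
    ∃ u : J → ℕ, (∀ j, 2 * u j ≤ finrank F (W j) ∧ (P j).natDegree ∣ u j) ∧ finrank F U = ∑ j, u j := by
  have hle : ∀ j, W j ≤ LinearMap.ker (aeval f (P j)) := fun j x hx => LinearMap.mem_ker.2 (hWP j x hx)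
  haveI : ∀ j, Fact (Irreducible (P j)) := fun j => ⟨hirr j⟩
  have hker : ∀ j, W j = LinearMap.ker (aeval f (P j)) := fun j => by
    refine Submodule.eq_of_le_of_finrank_eq (hle j) ?_
    have h1 := CfsgLib.Classical.Primary.finrank_sum P hco f hann
    rw [Module.finrank_fin_fun] at h1
    exact (Finset.sum_eq_sum_iff_of_le fun i _ => Submodule.finrank_mono (hle i)).1
      (le_antisymm (Finset.sum_le_sum fun i _ => Submodule.finrank_mono (hle i)) (h1.le.trans hWd)) j
      (Finset.mem_univ j)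
  refine ⟨fun j => finrank F (U ⊓ LinearMap.ker (aeval f (P j)) : Submodule F (Fin n → F)), fun j => ⟨?_, ?_⟩,
    (finrank_inf_sum hF hco hirr hann hU).symm⟩
  · exact iso_le_half hF (hWn j) ((inf_le_right : U ⊓ LinearMap.ker (aeval f (P j)) ≤ _).trans (hker j).ge)
      fun a ha b hb => hUi a ha.1 b hb.1
  · haveI : Fact (Irreducible (P j)) := ⟨hirr j⟩
    exact CfsgLib.Classical.Primary.natDegree_dvd_finrank (P j) _
      (restrict_annih (inv_ker hU (P j)) fun s hs => LinearMap.mem_ker.1 hs.2)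

end Primary

end CfsgLib.Classical.UnitElusive
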