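/-
Model isometries: typed blocks, diagonal elements, elements with non-power scalar `r`-th power.
-/
import Cfsg.Agent.Lib.Classical.UnitElusive.Fix
import Cfsg.Agent.Lib.Classical22.PrimeOrderWitness

set_option autoImplicit false

namespace CfsgLib.Classical.UnitElusive

open Module Polynomial CfsgLib.Classical Cfsg CfsgLib.Classical22.PrimeMaps

universe u

variable {F : Type u} [Field F] {q n d m r : ℕ}

theorem aeval_fix {f : Module.End F (Fin n → F)} {v : Fin n → F} (hv : f v = v) (Q : F[X]) :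
    aeval f Q v = Q.eval 1 • v := by
  induction Q using Polynomial.induction_on with
  | C a => simp [Module.algebraMap_end_apply]
  | add a b ha hb => simp [ha, hb, add_smul]
  | monomial k a ih =>
    rw [show C a * X ^ (k + 1) = C a * X ^ k * X by ring, map_mul (aeval f) _ X, aeval_X, Module.End.mul_apply, hv, ih]
    simp

/-- A uniform block map has the product of the determinants. -/
theorem det_blockMap {J : Type*} [Fintype J] [DecidableEq J] (e : (Σ _ : J, Fin d) ≃ Fin n)
    (A : J → Module.End F (Fin d → F)) :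
    LinearMap.det (blockMap e A) = ∏ j, LinearMap.det (A j) := by
  classical
  obtain ⟨e', he'⟩ : ∃ e' : Fin d × J ≃ Fin n, ∀ p, e' p = e ⟨p.2, p.1⟩ :=
    ⟨((Equiv.prodComm _ _).trans (Equiv.sigmaEquivProd J (Fin d)).symm).trans e, fun p => rfl⟩
  have h : LinearMap.toMatrix' (blockMap e A) =
      Matrix.reindex e' e' (Matrix.blockDiagonal fun j => LinearMap.toMatrix' (A j)) := by
    refine Matrix.ext fun a b => ?_
    obtain ⟨⟨i, j⟩, rfl⟩ := e'.surjective a
    obtain ⟨⟨i', j'⟩, rfl⟩ := e'.surjective b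
    rw [Matrix.reindex_apply, Matrix.submatrix_apply, e'.symm_apply_apply, e'.symm_apply_apply,
      Matrix.blockDiagonal_apply, LinearMap.toMatrix'_apply, he', he', blockMap_apply]
    by_cases hj : j = j'
    · subst hj
      rw [if_pos rfl, LinearMap.toMatrix'_apply]
      refine congrFun (congrArg (A _) (funext fun l => ?_)) _
      by_cases hl : l = i'
      · subst hl; simp
      · simp [hl, e.injective.eq_iff]
    · rw [if_neg hj, show (fun l => (Pi.single (e ⟨j', i'⟩) (1 : F) : Fin n → F) (e ⟨j, l⟩)) = 0 from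
        funext fun l => by simp [hj, e.injective.eq_iff], map_zero]
      rfl
  rw [← LinearMap.det_toMatrix', h, Matrix.det_reindex_self, Matrix.det_blockDiagonal]
  exact Finset.prod_congr rfl fun j _ => LinearMap.det_toMatrix' _

variable [Fintype F] (hF : Fintype.card F = q ^ 2)
include hF

/-- Transport of an invariant subspace along an isometric embedding. -/
theorem map_inv_props {ι : (Fin d → F) →ₗ[F] (Fin n → F)} (hι : IsEmb q ι) {f : Module.End F (Fin n → F)}
    {B : Module.End F (Fin d → F)} (hc : ∀ x, f (ι x) = ι (B x)) {U : Submodule F (Fin d → F)} (hU : Inv B U) :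
    Inv f (U.map ι) ∧ finrank F (U.map ι) = finrank F U ∧ (HIso q U → HIso q (U.map ι)) ∧
      (HNd q U → HNd q (U.map ι)) := by
  refine ⟨?_, (Submodule.equivMapOfInjective _ (emb_injective hF hι) U).finrank_eq.symm, fun h => ?_, fun h => ?_⟩
  · rintro _ ⟨x, hx, rfl⟩
    exact ⟨B x, hU x hx, (hc x).symm⟩
  · rintro _ ⟨x, hx, rfl⟩ _ ⟨y, hy, rfl⟩
    exact (hι x y).trans (h x hx y hy)
  · rintro _ ⟨x, hx, rfl⟩ h'
    rw [h x hx fun y hy => (hι x y).symm.trans (h' _ ⟨y, hy, rfl⟩), map_zero]

section Order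

variable [hr : Fact r.Prime]

/-- An isometry of order `r` with a fixed point is not scalar if `r ∤ q + 1`. -/
theorem not_scalar {f : Module.End F (Fin n → F)} (hn : 0 < n) (hc : cOrd r q ≠ 1)
    (hfB : ∀ a b, hermForm n F q (f a) (f b) = hermForm n F q a b) (hf : ∀ v, (f ^ r) v = v)
    (hfix : finrank F (fixed f) ≠ n) (z : F) : f ≠ z • 1 := by
  rintro rfl
  have hq := two_le_q hF
  obtain ⟨v, hv⟩ : ∃ v : Fin n → F, v = Pi.single ⟨0, hn⟩ 1 := ⟨_, rfl⟩
  have hvv : hermForm n F q v v = 1 := by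
    simp [hermForm, hv, Pi.single_apply, zero_pow (show q ≠ 0 by omega)]
  have h1 : z ^ (q + 1) = 1 := by
    have h := hfB v v
    rw [LinearMap.smul_apply, Module.End.one_apply, hermForm_smul_left, h_smul_right hF, hvv, mul_one] at h
    rw [pow_succ']
    exact h
  have h2 : z ^ r = 1 := by
    have h := congrFun (hf v) ⟨0, hn⟩
    rw [_root_.smul_pow, one_pow, LinearMap.smul_apply, Module.End.one_apply] at h
    simpa [hv] using h
  have hcop : Nat.gcd (q + 1) r = 1 := Nat.coprime_comm.1 ((Nat.Prime.coprime_iff_not_dvd hr.out).2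
    fun h => hc (cOrd_eq_one_iff.2 h))
  have hz : z = 1 := by
    have h : z ^ Nat.gcd (q + 1) r = 1 := pow_gcd_eq_one.2 ⟨h1, h2⟩
    rwa [hcop, pow_one] at h
  apply hfix
  rw [hz, one_smul, show fixed (1 : Module.End F (Fin n → F)) = ⊤ from eq_top_iff.2 fun x _ => mem_fixed.2 rfl,
    finrank_top, Module.finrank_fin_fun]

/-- An element with prescribed types, for `c = b`. -/
theorem exists_typed (hrF : (r : F) ≠ 0) (hcb : cOrd r q = bOrd r q) {s : ℕ} (hs : s * bOrd r q = r - 1)
    (a : Fin s → ℕ) {k : ℕ} (hn : k + bOrd r q * ∑ j, a j = n) :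
    ∃ f : Module.End F (Fin n → F), (∀ x y, hermForm n F q (f x) (f y) = hermForm n F q x y) ∧
      (∀ v, (f ^ r) v = v) ∧ finrank F (fixed f) = k ∧
      ∀ U, Inv f U → HIso q U → ∃ u t, 2 * u ≤ k ∧ t ≤ ∑ j, a j / 2 ∧ finrank F U = u + t * bOrd r q := by
  classical
  have hb := bOrd_pos (q_ne_zero hF hrF)
  obtain ⟨p, hp⟩ := CharP.exists F
  haveI := Fact.mk (CharP.char_is_prime F p)
  obtain ⟨-, P, hP0, hPirr, hPdeg, hPco, hPprod⟩ := CfsgLib.Classical.GLPrimeData.exists_factors (F := F) (p := p)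
    rfl r (bOrd r q) s hr.out (fun h => hrF (h ▸ CharP.cast_eq_zero F p)) (bOrd_eq_card hF) hs
  have hP1 : ∀ j, (P (some j)).eval 1 ≠ 0 := fun j h => by
    obtain ⟨u, v, huv⟩ := hPco (show (none : Option (Fin s)) ≠ some j from nofun)
    have := congrArg (Polynomial.eval (1 : F)) huv
    simp [hP0, h] at this
  choose A hAB hAP using fun j => exists_power hF hrF hcb (hPirr (some j))
    (hPprod ▸ Finset.dvd_prod_of_mem P (Finset.mem_univ (some j))) (hP1 j) (hPdeg j)
  have hAr : ∀ j v, (A j ^ r) v = v := fun j v => by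
    obtain ⟨Q, hQ⟩ : P (some j) ∣ X ^ r - 1 := hPprod ▸ Finset.dvd_prod_of_mem P (Finset.mem_univ (some j))
    have h := LinearMap.congr_fun (congrArg (aeval (A j)) hQ) v
    rwa [map_mul, hAP j, zero_mul, map_sub, map_pow, aeval_X, map_one, LinearMap.sub_apply, Module.End.one_apply,
      LinearMap.zero_apply, sub_eq_zero] at h
  obtain ⟨ms, hms, As, hAs⟩ : ∃ ms : Option (Σ j, Fin (a j)) → ℕ,
      ms = (fun o => Option.elim o k fun _ => bOrd r q) ∧
      ∃ As : ∀ o, Module.End F (Fin (ms o) → F),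
        ∀ o x y, hermForm (ms o) F q (As o x) (As o y) = hermForm (ms o) F q x y ∧
        (As o ^ r) x = x ∧ aeval (As o) (P (o.map Sigma.fst)) = 0 :=
    ⟨_, rfl, (fun o => match o with | none => 1 | some i => A i.1), fun o x y => by
      cases o with
      | none => exact ⟨rfl, by rw [one_pow]; rfl, by
          rw [Option.map_none, hP0, map_sub, aeval_X, map_one, map_one, sub_self]⟩
      | some i => exact ⟨hAB i.1 x y, hAr i.1 x, hAP i.1⟩⟩
  obtain ⟨E, -⟩ : ∃ E : (Σ o, Fin (ms o)) ≃ Fin n, E = E := ⟨Fintype.equivFinOfCardEq (by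
    simp [Fintype.card_sigma, hms, Fintype.sum_option]
    rw [mul_comm]
    exact hn), rfl⟩
  have hiso := blockMap_isometry E As (q := q) fun o x y => (hAs o x y).1
  have hfr : ∀ v, (blockMap E As ^ r) v = v := fun v => by
    rw [blockMap_pow_eq E As (z := 1) fun o x => by rw [one_smul]; exact (hAs o x x).2.1, one_smul]
  have hcount : ∀ o, (Finset.univ.filter fun x : Option (Σ j, Fin (a j)) => x.map Sigma.fst = o).sum ms =
      Option.elim o k fun j => a j * bOrd r q := by
    intro o
    rw [Finset.sum_filter, Fintype.sum_option, hms, Fintype.sum_sigma]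
    rcases o with _ | j
    · simp
    · simp only [Option.map_none, reduceCtorEq, if_false, zero_add, Option.map_some, Option.some.injEq,
        Option.elim]
      rw [Finset.sum_eq_single j (fun l _ hl => Finset.sum_eq_zero fun _ _ => if_neg hl)
        (fun h => absurd (Finset.mem_univ j) h)]
      simp
  refine ⟨blockMap E As, hiso, hfr, ?_, fun U hU hUi => ?_⟩
  · have hfx : fixed (blockMap E As) = supp F (blockSet E fun o => o.map Sigma.fst = none) := by
      ext x
      rw [mem_fixed, blockSet_mem]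
      refine ⟨fun h o ho => ?_, fun h => eq_of_comp E fun o => ?_⟩
      · rcases o with _ | i
        · exact absurd rfl ho
        · have hy := blockMap_comp E As x (some i)
          rw [h] at hy
          have h0 := LinearMap.congr_fun (hAs (some i) 0 0).2.2 (fun l => x (E ⟨some i, l⟩))
          rw [aeval_fix hy.symm, LinearMap.zero_apply] at h0
          exact (smul_eq_zero.1 h0).resolve_left (hP1 i.1)
      · rw [blockMap_comp]
        rcases o with _ | i
        · have h0 := LinearMap.congr_fun (hAs none 0 0).2.2 (fun l => x (E ⟨none, l⟩))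
          rw [Option.map_none, hP0, map_sub, aeval_X, map_one, map_one, LinearMap.sub_apply, Module.End.one_apply,
            LinearMap.zero_apply, sub_eq_zero] at h0
          exact h0
        · rw [h (some i) (by simp), map_zero]
    rw [hfx, (exists_supp (q := q) hF _).2, card_blockSet, hcount]
    rfl
  · have hann : aeval (blockMap E As) (∏ o, P o) = 0 := by
      rw [hPprod, map_sub, map_pow, aeval_X, map_one, sub_eq_zero]
      exact LinearMap.ext hfr
    obtain ⟨u, hu, hd⟩ := iso_primary_bound hF hPco hPirr hann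
      (fun o => supp F (blockSet E fun i => i.map Sigma.fst = o)) (fun o => (exists_supp hF _).1)
      (fun o x hx => blockSet_annih E As (fun i hi => hi ▸ (hAs i 0 0).2.2) hx) (le_of_eq (by
        rw [Finset.sum_congr rfl fun o _ => ((exists_supp (q := q) hF _).2.trans (card_blockSet E _)).trans (hcount o),
          Fintype.sum_option, ← hn, Finset.mul_sum]
        exact congrArg (k + ·) (Finset.sum_congr rfl fun j _ => mul_comm _ _))) hU hUi
    have hu' : ∀ o, 2 * u o ≤ Option.elim o k fun j => a j * bOrd r q := fun o => by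
      have h := (hu o).1
      rwa [(exists_supp (q := q) hF _).2, card_blockSet, hcount] at h
    choose t ht using fun j => (hu (some j)).2
    refine ⟨u none, ∑ j, t j, hu' none, Finset.sum_le_sum fun j _ => ?_, ?_⟩
    · have h := hu' (some j)
      rw [Option.elim, ht j, hPdeg, mul_comm (a j)] at h
      rw [Nat.le_div_iff_mul_le two_pos, mul_comm]
      exact Nat.le_of_mul_le_mul_left (by rw [mul_left_comm]; exact h) hb
    · rw [hd, Fintype.sum_option, Finset.sum_mul]
      exact congrArg (u none + ·) (Finset.sum_congr rfl fun j _ => by rw [ht j, hPdeg, mul_comm])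

/-- A primitive root of unity. -/
theorem exists_root_unity (hrq : r ∣ q + 1) : ∃ ζ : F, IsPrimitiveRoot ζ r ∧ ζ ^ (q + 1) = 1 := by
  have hq := two_le_q hF
  obtain ⟨g, hg⟩ := IsCyclic.exists_generator (α := Fˣ)
  have ho : orderOf g = Fintype.card F - 1 := by
    classical
    rw [orderOf_eq_card_of_forall_mem_zpowers hg, Nat.card_eq_fintype_card, Fintype.card_units]
  obtain ⟨k, hk⟩ : r ∣ orderOf g := ho ▸ hF ▸ hrq.trans ⟨q - 1, by rw [← Nat.sq_sub_sq, one_pow]⟩
  have hkpos : 0 < k := by
    rcases Nat.eq_zero_or_pos k with h | h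
    · rw [h, mul_zero] at hk; exact absurd hk (orderOf_pos g).ne'
    · exact h
  have hζ : orderOf (g ^ k) = r := by
    rw [orderOf_pow' _ hkpos.ne', hk, Nat.gcd_eq_right (Dvd.intro_left r rfl), Nat.mul_div_cancel _ hkpos]
  have hprim : IsPrimitiveRoot ((g ^ k : Fˣ) : F) r := IsPrimitiveRoot.iff_orderOf.2 (by rw [orderOf_units, hζ])
  obtain ⟨l, hl⟩ := hrq
  exact ⟨_, hprim, by rw [hl, pow_mul, hprim.pow_eq_one, one_pow]⟩

end Order

omit hF [Fintype F] in
/-- Multiplicities with many odd entries and weighted sum zero. -/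
theorem exists_weights [hr : Fact r.Prime] (hr2 : r ≠ 2) {D : ℕ} (h2 : 2 ≤ D) (hD : D ≤ r) (hn : D ≤ n)
    (hpar : (n - D) % 2 = 0) :
    ∃ (J : Type) (_ : Fintype J) (a : J → ℕ) (v : J → ZMod r), Fintype.card J = D ∧ (∀ j, a j % 2 = 1) ∧
      ∑ j, a j = n ∧ Function.Injective v ∧ ∑ j, (a j : ZMod r) * v j = 0 := by
  have hro : r % 2 = 1 := Nat.odd_iff.1 (hr.out.odd_of_ne_two hr2)
  have hinj : ∀ {x y : ℕ}, x < r → y < r → (x : ZMod r) = (y : ZMod r) → x = y := fun hx hy h => by
    rw [ZMod.natCast_eq_natCast_iff', Nat.mod_eq_of_lt hx, Nat.mod_eq_of_lt hy] at h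
    exact h
  have hneg : ∀ {x y : ℕ}, x + y < r → 0 < x + y → (x : ZMod r) ≠ -(y : ZMod r) := fun hlt hpos h => by
    rw [eq_neg_iff_add_eq_zero, ← Nat.cast_add, ZMod.natCast_eq_zero_iff] at h
    exact absurd (Nat.le_of_dvd hpos h) (by omega)
  by_cases hrn : r ∣ n
  · rcases Nat.even_or_odd D with ⟨h, hh⟩ | ⟨h, hh⟩
    · obtain ⟨l, hl⟩ := hrn
      have hl2 : 2 ≤ l := by
        rcases l with _ | _ | l
        · omega
        · omega
        · omega
      have hn2 : 2 * r ≤ n := by rw [hl, mul_comm 2 r]; exact Nat.mul_le_mul_left r hl2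
      refine ⟨Bool ⊕ (Fin (h - 1) × Bool), inferInstance,
        Sum.elim (fun s => if s then r else n - r - 2 * (h - 1)) (fun _ => 1),
        Sum.elim (fun s => if s then 1 else 0) (fun p => if p.2 then ((p.1 + 2 : ℕ) : ZMod r)
          else -((p.1 + 2 : ℕ) : ZMod r)), by simp; omega, ?_, ?_, ?_, ?_⟩
      · rintro (s | p)
        · cases s <;> simp <;> omega
        · rfl
      · simp [Fintype.sum_sum_type]; omega
      · rintro (s | ⟨i, s⟩) (s' | ⟨i', s'⟩) hx
        · cases s <;> cases s' <;> simp at hx ⊢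
        · cases s <;> cases s' <;> simp only [Sum.elim_inl, Sum.elim_inr, if_true, Bool.false_eq_true, if_false] at hx
          · exact absurd (hneg (x := 0) (y := i' + 2) (by omega) (by omega) (by rw [Nat.cast_zero]; exact hx)) (by simp)
          · exact absurd (hinj (x := 0) (y := i' + 2) (by omega) (by omega) (by rw [Nat.cast_zero]; exact hx)) (by omega)
          · exact absurd (hneg (x := 1) (y := i' + 2) (by omega) (by omega) (by rw [Nat.cast_one]; exact hx)) (by simp)
          · exact absurd (hinj (x := 1) (y := i' + 2) (by omega) (by omega) (by rw [Nat.cast_one]; exact hx)) (by omega)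
        · cases s <;> cases s' <;> simp only [Sum.elim_inl, Sum.elim_inr, if_true, Bool.false_eq_true, if_false] at hx
          · exact absurd (hneg (x := 0) (y := i + 2) (by omega) (by omega) (by rw [Nat.cast_zero]; exact hx.symm)) (by simp)
          · exact absurd (hneg (x := 1) (y := i + 2) (by omega) (by omega) (by rw [Nat.cast_one]; exact hx.symm)) (by simp)
          · exact absurd (hinj (x := 0) (y := i + 2) (by omega) (by omega) (by rw [Nat.cast_zero]; exact hx.symm)) (by omega)
          · exact absurd (hinj (x := 1) (y := i + 2) (by omega) (by omega) (by rw [Nat.cast_one]; exact hx.symm)) (by omega)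
        · cases s <;> cases s' <;> simp only [Sum.elim_inr, if_true, Bool.false_eq_true, if_false] at hx
          · have := hinj (by omega) (by omega) (neg_injective hx)
            rw [show i = i' from Fin.ext (by omega)]
          · exact absurd hx.symm (hneg (by omega) (by omega))
          · exact absurd hx (hneg (by omega) (by omega))
          · have := hinj (by omega) (by omega) hx
            rw [show i = i' from Fin.ext (by omega)]
      · simp [Fintype.sum_sum_type, Fintype.sum_prod_type, ZMod.natCast_self]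
    · refine ⟨Unit ⊕ (Fin h × Bool), inferInstance, Sum.elim (fun _ => n - 2 * h) (fun _ => 1),
        Sum.elim (fun _ => 0) (fun p => if p.2 then ((p.1 + 1 : ℕ) : ZMod r) else -((p.1 + 1 : ℕ) : ZMod r)),
        by simp; omega, ?_, ?_, ?_, ?_⟩
      · rintro (_ | p)
        · simp; omega
        · rfl
      · simp [Fintype.sum_sum_type]; omega
      · rintro (⟨⟩ | ⟨i, s⟩) (⟨⟩ | ⟨i', s'⟩) hx
        · rfl
        · cases s' <;> simp only [Sum.elim_inl, Sum.elim_inr, if_true, Bool.false_eq_true, if_false] at hx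
          · exact absurd (hneg (x := 0) (y := i' + 1) (by omega) (by omega) (by rw [Nat.cast_zero]; exact hx)) (by simp)
          · exact absurd (hinj (x := 0) (y := i' + 1) (by omega) (by omega) (by rw [Nat.cast_zero]; exact hx)) (by omega)
        · cases s <;> simp only [Sum.elim_inl, Sum.elim_inr, if_true, Bool.false_eq_true, if_false] at hx
          · exact absurd (hneg (x := 0) (y := i + 1) (by omega) (by omega) (by rw [Nat.cast_zero]; exact hx.symm)) (by simp)
          · exact absurd (hinj (x := 0) (y := i + 1) (by omega) (by omega) (by rw [Nat.cast_zero]; exact hx.symm)) (by omega)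
        · cases s <;> cases s' <;> simp only [Sum.elim_inr, if_true, Bool.false_eq_true, if_false] at hx
          · have := hinj (by omega) (by omega) (neg_injective hx)
            rw [show i = i' from Fin.ext (by omega)]
          · exact absurd hx.symm (hneg (by omega) (by omega))
          · exact absurd hx (hneg (by omega) (by omega))
          · have := hinj (by omega) (by omega) hx
            rw [show i = i' from Fin.ext (by omega)]
      · simp [Fintype.sum_sum_type, Fintype.sum_prod_type]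
  · have hn0 : (n : ZMod r) ≠ 0 := fun h => hrn ((ZMod.natCast_eq_zero_iff n r).1 h)
    obtain ⟨D', rfl⟩ : ∃ D', D = D' + 1 := ⟨D - 1, by omega⟩
    obtain ⟨a, ha⟩ : ∃ a : Fin (D' + 1) → ℕ, a = Fin.cons (n - D') (fun _ => 1) := ⟨_, rfl⟩
    obtain ⟨S, hS⟩ : ∃ S : ZMod r, S = ∑ j, (a j : ZMod r) * ((j : ℕ) : ZMod r) := ⟨_, rfl⟩
    have hsum : ∑ j, a j = n := by
      rw [ha, Fin.sum_univ_succ]; simp; omega
    refine ⟨Fin (D' + 1), inferInstance, a, fun j => ((j : ℕ) : ZMod r) - S * (n : ZMod r)⁻¹, Fintype.card_fin _,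
      ?_, hsum, fun x y hxy => Fin.ext (hinj (by omega) (by omega) (sub_left_injective hxy)), ?_⟩
    · intro j
      rw [ha]
      refine Fin.cases ?_ (fun i => ?_) j
      · rw [Fin.cons_zero]; omega
      · rw [Fin.cons_succ]
    · simp only [mul_sub, Finset.sum_sub_distrib, ← hS, ← Finset.sum_mul, ← Nat.cast_sum, hsum]
      field_simp
      ring

/-- A diagonal witness for `b = 1`. -/
theorem exists_diag [hr : Fact r.Prime] (hr2 : r ≠ 2) (hrq : r ∣ q + 1) (hm : 1 ≤ m)
    (hmn : 2 * m ≤ n) (hbad : n + 1 < r + 2 * m) :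
    ∃ M : Matrix (Fin n) (Fin n) F, M.det = 1 ∧ M ^ r = 1 ∧ (∀ z : F, M ≠ z • 1) ∧
      (∀ x y, hermForm n F q (Matrix.toLin' M x) (Matrix.toLin' M y) = hermForm n F q x y) ∧
      ∀ U, Inv (Matrix.toLin' M) U → HIso q U → finrank F U < m := by
  classical
  obtain ⟨D, hD⟩ : ∃ D, D = n + 2 - 2 * m := ⟨_, rfl⟩
  obtain ⟨J, _, a, v, hJ, ha, hsum, hv, hwt⟩ := exists_weights (n := n) hr2 (D := D) (by omega) (by omega) (by omega)
    (by omega)
  obtain ⟨ζ, hζ, hζq⟩ := exists_root_unity (F := F) hF hrq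
  obtain ⟨e, -⟩ : ∃ e : (Σ j, Fin (a j)) ≃ Fin n, e = e := ⟨Fintype.equivFinOfCardEq (by simp [hsum]), rfl⟩
  obtain ⟨w, hw⟩ : ∃ w : Fin n → F, ∀ j i, w (e ⟨j, i⟩) = ζ ^ (v j).val :=
    ⟨fun k => ζ ^ (v (e.symm k).1).val, fun j i => by
      show ζ ^ (v (e.symm (e ⟨j, i⟩)).1).val = _
      rw [e.symm_apply_apply]⟩
  have hwr : ∀ k, w k ^ r = 1 ∧ w k ^ (q + 1) = 1 := fun k => by
    obtain ⟨⟨j, i⟩, rfl⟩ := e.surjective k
    rw [hw, ← pow_mul, ← pow_mul, mul_comm _ r, mul_comm _ (q + 1), pow_mul, pow_mul, hζ.pow_eq_one, hζq]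
    simp
  have hwinj : ∀ j j', ζ ^ (v j).val = ζ ^ (v j').val → j = j' := fun j j' h =>
    hv (ZMod.val_injective r (hζ.pow_inj (ZMod.val_lt _) (ZMod.val_lt _) h))
  have hlin : ∀ x k, Matrix.toLin' (Matrix.diagonal w) x k = w k * x k := fun x k => by
    rw [Matrix.toLin'_apply, Matrix.mulVec_diagonal]
  obtain ⟨P, hP⟩ : ∃ P : J → F[X], P = fun j => X - C (ζ ^ (v j).val) := ⟨_, rfl⟩
  refine ⟨Matrix.diagonal w, ?_, ?_, fun z hz => ?_, fun x y => ?_, fun U hU hUi => ?_⟩
  · rw [Matrix.det_diagonal, ← e.prod_comp, Fintype.prod_sigma]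
    simp only [hw, Finset.prod_const, Finset.card_univ, Fintype.card_fin, ← pow_mul, Finset.prod_pow_eq_pow_sum]
    rw [hζ.pow_eq_one_iff_dvd, ← ZMod.natCast_eq_zero_iff, Nat.cast_sum]
    rw [← hwt]
    refine Finset.sum_congr rfl fun j _ => ?_
    rw [Nat.cast_mul, ZMod.natCast_zmod_val, mul_comm]
  · rw [Matrix.diagonal_pow, ← Matrix.diagonal_one]
    exact congrArg Matrix.diagonal (funext fun k => (hwr k).1)
  · obtain ⟨j, j', hne⟩ := Fintype.exists_pair_of_one_lt_card (α := J) (by omega)
    refine hne (hwinj j j' ?_)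
    have h : ∀ k, w k = z := fun k => by simpa using congrFun (congrFun hz k) k
    rw [← hw j ⟨0, by have := ha j; omega⟩, ← hw j' ⟨0, by have := ha j'; omega⟩, h, h]
  · simp only [hermForm, hlin]
    refine Finset.sum_congr rfl fun k _ => ?_
    rw [mul_pow, show w k * x k * (w k ^ q * y k ^ q) = (w k ^ (q + 1)) * (x k * y k ^ q) by ring, (hwr k).2, one_mul]
  have hco : Pairwise (Function.onFun IsCoprime P) := fun j j' h => by
    rw [hP]
    exact isCoprime_X_sub_C_of_isUnit_sub (sub_ne_zero.2 fun e' => h (hwinj j j' e')).isUnit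
  have hk : ∀ j (x : Fin n → F), x ∈ supp F (blockSet e fun l => l = j) →
      aeval (Matrix.toLin' (Matrix.diagonal w)) (P j) x = 0 := fun j x hx => by
    rw [hP]
    refine eq_of_comp e fun l => funext fun i => ?_
    simp only [map_sub, aeval_X, aeval_C, LinearMap.sub_apply, Module.algebraMap_end_apply, Pi.sub_apply,
      Pi.smul_apply, smul_eq_mul, hlin, hw, Pi.zero_apply]
    by_cases hl : l = j
    · subst hl; ring
    · rw [congrFun ((blockSet_mem e).1 hx l hl) i]; simp
  have hann : aeval (Matrix.toLin' (Matrix.diagonal w)) (∏ j, P j) = 0 := by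
    refine LinearMap.ext fun x => ?_
    have hx : x = ∑ j, fun k => if (e.symm k).1 = j then x k else 0 := funext fun k => by
      rw [Finset.sum_apply, Finset.sum_ite_eq, if_pos (Finset.mem_univ _)]
    rw [LinearMap.zero_apply, hx, map_sum]
    refine Finset.sum_eq_zero fun j _ => ?_
    rw [← Finset.prod_erase_mul _ _ (Finset.mem_univ j), map_mul, Module.End.mul_apply, hk j, map_zero]
    intro k hk'
    simp only [blockSet, Finset.mem_filter, Finset.mem_univ, true_and] at hk'
    exact if_neg hk'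
  have hcard : ∀ j, finrank F (supp F (blockSet e fun l => l = j)) = a j := fun j => by
    rw [(exists_supp (q := q) hF _).2, card_blockSet,
      show (Finset.univ.filter fun l : J => l = j) = {j} by ext l; simp, Finset.sum_singleton]
  obtain ⟨u, hu, hd⟩ := iso_primary_bound hF hco (fun j => hP ▸ irreducible_X_sub_C _) hann
    (fun j => supp F (blockSet e fun l => l = j)) (fun j => (exists_supp hF _).1) hk
    (le_of_eq (hsum.symm.trans (Finset.sum_congr rfl fun j _ => (hcard j).symm))) hU hUi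
  have h1 : ∑ j, (2 * u j + 1) ≤ ∑ j, a j := Finset.sum_le_sum fun j _ => by
    have := (hu j).1
    rw [hcard] at this
    have := ha j
    omega
  rw [Finset.sum_add_distrib, ← Finset.mul_sum, ← hd, Finset.sum_const, Finset.card_univ, hJ, hsum, smul_eq_mul,
    mul_one] at h1
  omega

section Nonpower

open Fin.NatCast in
/-- Monomial isometries with scalar `r`-th power. -/
theorem exists_monomial (hr : 0 < r) {z : F} (hz : z ^ (q + 1) = 1) :
    ∃ A : Module.End F (Fin r → F), (∀ a b, hermForm r F q (A a) (A b) = hermForm r F q a b) ∧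
      (∀ v, (A ^ r) v = z • v) ∧ (r = 2 → LinearMap.det A = -z) := by
  classical
  haveI : NeZero r := ⟨hr.ne'⟩
  obtain ⟨c, hc⟩ : ∃ c : Fin r → F, ∀ i, c i = if i + 1 = 0 then z else 1 := ⟨_, fun i => rfl⟩
  obtain ⟨A, hA⟩ : ∃ A : Module.End F (Fin r → F), ∀ x i, A x i = c i * x (i + 1) :=
    ⟨LinearMap.pi fun i => c i • LinearMap.proj (i + 1), fun x i => rfl⟩
  have hcq : ∀ i, c i ^ (q + 1) = 1 := fun i => by rw [hc]; split_ifs <;> simp [hz]
  have hpow : ∀ (k : ℕ) x i, (A ^ k) x i = (∏ j ∈ Finset.range k, c (i + (j : Fin r))) * x (i + (k : Fin r)) := by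
    intro k
    induction k with
    | zero => intro x i; simp
    | succ k ih =>
      intro x i
      rw [pow_succ, Module.End.mul_apply, ih, hA, Finset.prod_range_succ, Nat.cast_succ, add_assoc, mul_assoc]
  refine ⟨A, fun a b => ?_, fun v => funext fun i => ?_, fun h2 => ?_⟩
  · simp only [hermForm, hA]
    refine Fintype.sum_equiv (Equiv.addRight (1 : Fin r)) _ _ fun i => ?_
    rw [mul_pow, show c i * a (i + 1) * (c i ^ q * b (i + 1) ^ q) = c i ^ (q + 1) * (a (i + 1) * b (i + 1) ^ q) by ring,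
      hcq, one_mul]
    rfl
  · rw [hpow, show ((r : ℕ) : Fin r) = 0 from Fin.natCast_self r, add_zero, Pi.smul_apply, smul_eq_mul]
    congr 1
    rw [← Fin.prod_univ_eq_prod_range (fun j => c (i + (j : Fin r))), Fintype.prod_eq_single (-1 - i)]
    · rw [Fin.cast_val_eq_self, hc, if_pos (by abel)]
    · intro j hj
      rw [Fin.cast_val_eq_self, hc, if_neg fun h => hj ?_]
      rw [show j = (i + j + 1) + (-1 - i) by abel, h, zero_add]
  · subst h2
    rw [← LinearMap.det_toMatrix', Matrix.det_fin_two]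
    simp [LinearMap.toMatrix'_apply, hA, hc, Pi.single_apply]

/-- Copies of a monomial isometry. -/
theorem exists_copies (hr : 0 < r) (hrn : r ∣ n) {z : F} (hz : z ^ (q + 1) = 1) :
    ∃ A : Module.End F (Fin n → F), (∀ a b, hermForm n F q (A a) (A b) = hermForm n F q a b) ∧
      (∀ v, (A ^ r) v = z • v) ∧ (r = 2 → LinearMap.det A = (-z) ^ (n / 2)) := by
  classical
  obtain ⟨l, rfl⟩ := hrn
  obtain ⟨A, hAB, hAr, hAd⟩ := exists_monomial (F := F) hF hr hz
  obtain ⟨e, -⟩ : ∃ e : (Σ _ : Fin l, Fin r) ≃ Fin (r * l), e = e :=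
    ⟨Fintype.equivFinOfCardEq (by simp [mul_comm]), rfl⟩
  refine ⟨blockMap e fun _ => A, blockMap_isometry e _ fun _ => hAB,
    blockMap_pow_eq e _ fun _ => hAr, fun h2 => ?_⟩
  rw [det_blockMap e fun _ => A, hAd h2, Finset.prod_const, Finset.card_univ, Fintype.card_fin, h2,
    Nat.mul_div_cancel_left _ two_pos]

variable [hr : Fact r.Prime] {z : F} (hz : ∀ b : F, b ^ r ≠ z) (hzq : z ^ (q + 1) = 1)
  {f : Module.End F (Fin n → F)}
  (hfB : ∀ a b, hermForm n F q (f a) (f b) = hermForm n F q a b) (hf : ∀ v, (f ^ r) v = z • v)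
include hz hzq hfB hf

omit hzq in
theorem transport_nonpower {B : Module.End F (Fin n → F)}
    (hB : ∀ a b, hermForm n F q (B a) (B b) = hermForm n F q a b) (hBr : ∀ v, (B ^ r) v = z • v) :
    ∃ ι : (Fin n → F) →ₗ[F] (Fin n → F), IsEmb q ι ∧ ∀ x, f (ι x) = ι (B x) := by
  obtain ⟨Ψ, hΨ, hΨr, hΨc⟩ := exists_intertwine_map (f := f) (S := ⊤) (fun _ _ => Submodule.mem_top)
    (X_pow_sub_C_irreducible_of_prime hr.out hz) (fun s _ => by simp [hf]) (B := B)
    (LinearMap.ext fun v => by simp [hBr]) (by rw [finrank_top, Module.finrank_fin_fun])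
  obtain ⟨ι, hι, -, hc⟩ := exists_emb_of_similar hF hfB (nd_univ hF) hB Ψ hΨ hΨr hΨc
  exact ⟨ι, hι, hc⟩

omit hfB hzq in
theorem nonpower_dvd_dim (hrF : (r : F) ≠ 0) {U : Submodule F (Fin n → F)} (hU : Inv f U) : r ∣ finrank F U :=
  (nonpower_spec hr.out hrF hz hf hU).1

theorem exists_nd_nonpower (hrF : (r : F) ≠ 0) (hrm : r ∣ m) (hm : m ≤ n) :
    ∃ W : Submodule F (Fin n → F), finrank F W = m ∧ HNd q W ∧ Inv f W := by
  classical
  have hrn : r ∣ n := by
    have h := nonpower_dvd_dim hF hz hf hrF (U := ⊤) fun _ _ => Submodule.mem_top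
    rwa [finrank_top, Module.finrank_fin_fun] at h
  obtain ⟨A₀, hA₀, hA₀r, -⟩ := exists_copies (F := F) hF hr.out.pos hrm hzq
  obtain ⟨A₁, hA₁, hA₁r, -⟩ := exists_copies (F := F) hF hr.out.pos (Nat.dvd_sub hrn hrm) hzq
  obtain ⟨ms, hms, As, hAs⟩ : ∃ ms : Option Unit → ℕ, ms = (fun o => Option.elim o m fun _ => n - m) ∧
      ∃ As : ∀ o, Module.End F (Fin (ms o) → F),
        ∀ o x y, hermForm (ms o) F q (As o x) (As o y) = hermForm (ms o) F q x y ∧ (As o ^ r) x = z • x :=
    ⟨_, rfl, (fun o => match o with | none => A₀ | some _ => A₁), fun o x y => by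
      cases o with
      | none => exact ⟨hA₀ x y, hA₀r x⟩
      | some i => exact ⟨hA₁ x y, hA₁r x⟩⟩
  obtain ⟨E, -⟩ : ∃ E : (Σ o, Fin (ms o)) ≃ Fin n, E = E := ⟨Fintype.equivFinOfCardEq (by
    simp [Fintype.card_sigma, hms, Fintype.sum_option]; omega), rfl⟩
  obtain ⟨ι, hι, hc⟩ := transport_nonpower hF hz hfB hf (blockMap_isometry E As fun o x y => (hAs o x y).1)
    (blockMap_pow_eq E As fun o x => (hAs o x x).2)
  obtain ⟨h1, h2, -, h4⟩ := map_inv_props hF hι hc (blockSet_inv E As fun o => o = none)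
  obtain ⟨h5, h6⟩ := exists_supp (q := q) hF (blockSet E fun o => o = none)
  refine ⟨_, ?_, h4 h5, h1⟩
  rw [h2, h6, card_blockSet, show (Finset.univ.filter fun o : Option Unit => o = none) = {none} by ext o; simp,
    Finset.sum_singleton, hms]
  rfl

theorem exists_iso_nonpower (hrF : (r : F) ≠ 0) (hrm : r ∣ m) (hm : 2 * m ≤ n) :
    ∃ W : Submodule F (Fin n → F), finrank F W = m ∧ HIso q W ∧ Inv f W := by
  classical
  have hrn : r ∣ n := by
    have h := nonpower_dvd_dim hF hz hf hrF (U := ⊤) fun _ _ => Submodule.mem_top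
    rwa [finrank_top, Module.finrank_fin_fun] at h
  obtain ⟨A₀, hA₀, hA₀r, -⟩ := exists_copies (F := F) hF hr.out.pos hrm hzq
  obtain ⟨A₁, hA₁, hA₁r, -⟩ := exists_copies (F := F) hF hr.out.pos (Nat.dvd_sub hrn (hrm.mul_left 2)) hzq
  obtain ⟨ms, hms, As, hAs, hA0⟩ : ∃ ms : Option Bool → ℕ, ms = (fun o => Option.elim o (n - 2 * m) fun _ => m) ∧
      ∃ As : ∀ o, Module.End F (Fin (ms o) → F),
        (∀ o x y, hermForm (ms o) F q (As o x) (As o y) = hermForm (ms o) F q x y ∧ (As o ^ r) x = z • x) ∧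
        ∀ (ι : (o : Option Bool) → (Fin (ms o) → F) →ₗ[F] (Fin n → F)) (g : Module.End F (Fin n → F)),
          (∀ o, IsEmb q (ι o)) → (∀ o x, g (ι o x) = ι o (As o x)) →
          (∀ x y, hermForm n F q (ι (some true) x) (ι (some false) y) = 0) →
          ∃ W : Submodule F (Fin n → F), finrank F W = m ∧ HIso q W ∧ Inv g W :=
    ⟨_, rfl, (fun o => match o with | none => A₁ | some _ => A₀), fun o x y => by
      cases o with
      | none => exact ⟨hA₁ x y, hA₁r x⟩
      | some i => exact ⟨hA₀ x y, hA₀r x⟩, fun ι g hι hg ho => by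
      obtain ⟨lam, hlam⟩ := exists_neg_one_norm (F := F) hF
      obtain ⟨hi, hd, -⟩ := twist hF (hι (some true)) (hι (some false)) ho hlam
      refine ⟨_, hd, hi, ?_⟩
      rintro _ ⟨a, rfl⟩
      refine ⟨A₀ a, ?_⟩
      have e1 := hg (some true) a
      have e2 := hg (some false) a
      show ι (some true) (A₀ a) + lam • ι (some false) (A₀ a) = g (ι (some true) a + lam • ι (some false) a)
      rw [map_add, map_smul, e1, e2]
      rfl⟩
  obtain ⟨E, -⟩ : ∃ E : (Σ o, Fin (ms o)) ≃ Fin n, E = E := ⟨Fintype.equivFinOfCardEq (by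
    simp [Fintype.card_sigma, hms, Fintype.sum_option]; omega), rfl⟩
  obtain ⟨ι, hι, hc⟩ := transport_nonpower hF hz hfB hf (blockMap_isometry E As fun o x y => (hAs o x y).1)
    (blockMap_pow_eq E As fun o x => (hAs o x x).2)
  choose π hπ hπc hπe hπz using exists_block_emb (q := q) hF E As
  obtain ⟨W, hW, hWi, hWinv⟩ := hA0 π (blockMap E As) hπ hπc fun x y => by
    rw [hermForm_blocks E]
    refine Finset.sum_eq_zero fun o _ => ?_
    by_cases ho : o = some true
    · subst ho
      rw [show (fun i => π (some false) y (E ⟨some true, i⟩)) = 0 from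
        funext fun i => hπz (some false) y _ (by simp) i, h_zero_right hF]
    · rw [show (fun i => π (some true) x (E ⟨o, i⟩)) = 0 from
        funext fun i => hπz (some true) x o ho i, h_zero_left]
  obtain ⟨h1, h2, h3, -⟩ := map_inv_props hF hι hc hWinv
  exact ⟨_, h2.trans hW, h3 hWi, h1⟩

end Nonpower

end CfsgLib.Classical.UnitElusive
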