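/-
Special unitary matrices as isometries, and the scalar of an element of prime order modulo scalars.
-/
import Cfsg.Agent.Lib.Classical.UnitElusive.Models
import Cfsg.Agent.Lib.Classical22.PrimeOrderSubspaces

set_option autoImplicit false

namespace CfsgLib.Classical.UnitElusive

open Module Polynomial Matrix CfsgLib.Classical Cfsg CfsgLib.Classical22.PrimeMaps

universe u

variable {F : Type u} [Field F] [Fintype F] {q n r : ℕ} (hF : Fintype.card F = q ^ 2)
include hF

theorem card_sub_one : Fintype.card F - 1 = (q + 1) * (q - 1) := by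
  rw [hF, ← Nat.sq_sub_sq, one_pow]

omit hF [Fintype F] in
theorem su_isometry {x : Matrix.SpecialLinearGroup (Fin n) F} (hx : x ∈ Cfsg.SU n F q) (u v : Fin n → F) :
    hermForm n F q (Matrix.toLin' (x : Matrix (Fin n) (Fin n) F) u) (Matrix.toLin' (x : Matrix (Fin n) (Fin n) F) v) =
      hermForm n F q u v := by
  rw [Matrix.toLin'_apply, Matrix.toLin'_apply]
  exact hx u v

omit hF [Fintype F] in
theorem toLin'_pow_scalar {M : Matrix (Fin n) (Fin n) F} {z : F} (h : M ^ r = z • 1) (v : Fin n → F) :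
    (Matrix.toLin' M ^ r) v = z • v := by
  rw [← Matrix.toLin'_pow, h, map_smul, Matrix.toLin'_one]
  rfl

theorem scalar_norm {f : Module.End F (Fin n → F)} (hn : 0 < n)
    (hfB : ∀ a b, hermForm n F q (f a) (f b) = hermForm n F q a b) {z : F} (hf : ∀ v, (f ^ r) v = z • v) :
    z ^ (q + 1) = 1 := by
  have hq := two_le_q hF
  obtain ⟨v, hv⟩ : ∃ v : Fin n → F, v = Pi.single ⟨0, hn⟩ 1 := ⟨_, rfl⟩
  have hvv : hermForm n F q v v = 1 := by
    simp [hermForm, hv, Pi.single_apply, zero_pow (show q ≠ 0 by omega)]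
  have h := form_pow hfB r v v
  rw [hf, hermForm_smul_left, h_smul_right hF, hvv, mul_one] at h
  rw [pow_succ']
  exact h

theorem det_norm {f : Module.End F (Fin n → F)} (hfB : ∀ a b, hermForm n F q (f a) (f b) = hermForm n F q a b) :
    LinearMap.det f ^ (q + 1) = 1 := by
  obtain ⟨g, hg⟩ := exists_gu hF hfB
  have h := det_gu_pow (fun M => det_map_pow hF M) (by have := two_le_q hF; omega) g
  rwa [show ((g : GL (Fin n) F) : Matrix (Fin n) (Fin n) F) = LinearMap.toMatrix' f from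
    Matrix.ext_of_mulVec_single fun i => (hg _).trans (LinearMap.toMatrix'_mulVec _ _).symm,
    LinearMap.det_toMatrix'] at h

theorem det_of_order [hr : Fact r.Prime] (hc : cOrd r q ≠ 1) {f : Module.End F (Fin n → F)}
    (hfB : ∀ a b, hermForm n F q (f a) (f b) = hermForm n F q a b) (hf : ∀ v, (f ^ r) v = v) :
    LinearMap.det f = 1 := by
  have h2 : LinearMap.det f ^ r = 1 := by
    rw [← map_pow, show f ^ r = 1 from LinearMap.ext hf, map_one]
  have h : LinearMap.det f ^ Nat.gcd (q + 1) r = 1 := pow_gcd_eq_one.2 ⟨det_norm hF hfB, h2⟩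
  rwa [Nat.coprime_comm.1 ((Nat.Prime.coprime_iff_not_dvd hr.out).2 fun h' => hc (cOrd_eq_one_iff.2 h')),
    pow_one] at h

omit [Fintype F] hF in
/-- A matrix in `SU` from an isometry of determinant one. -/
theorem exists_su {f : Module.End F (Fin n → F)} (hdet : LinearMap.det f = 1)
    (hfB : ∀ a b, hermForm n F q (f a) (f b) = hermForm n F q a b) :
    ∃ x : Matrix.SpecialLinearGroup (Fin n) F, x ∈ Cfsg.SU n F q ∧
      Matrix.toLin' (x : Matrix (Fin n) (Fin n) F) = f := by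
  refine ⟨⟨LinearMap.toMatrix' f, by rw [LinearMap.det_toMatrix', hdet]⟩, fun u v => ?_, Matrix.toLin'_toMatrix' f⟩
  show hermForm n F q (LinearMap.toMatrix' f *ᵥ u) (LinearMap.toMatrix' f *ᵥ v) = _
  rw [LinearMap.toMatrix'_mulVec, LinearMap.toMatrix'_mulVec, hfB]

/-- An isometric scalar `r`-th root, if `r ∤ q + 1` or if some `r`-th root exists. -/
theorem exists_scalar_root [hr : Fact r.Prime] (hr2 : r ≠ 2) {z : F} (hz : z ^ (q + 1) = 1)
    (h : ¬ r ∣ q + 1 ∨ ∃ b : F, b ^ r = z) : ∃ s : F, s ^ (q + 1) = 1 ∧ s ^ r = z := by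
  have hq := two_le_q hF
  by_cases hrq : r ∣ q + 1
  · obtain ⟨b, hb⟩ := h.resolve_left (not_not_intro hrq)
    refine ⟨b, ?_, hb⟩
    have hb0 : b ≠ 0 := fun h0 => by
      rw [h0, zero_pow hr.out.ne_zero] at hb
      rw [← hb, zero_pow (Nat.succ_ne_zero q)] at hz
      exact zero_ne_one hz
    have h1 : (b ^ (q + 1)) ^ r = 1 := by rw [← pow_mul, mul_comm, pow_mul, hb, hz]
    have h2 : (b ^ (q + 1)) ^ (q - 1) = 1 := by
      rw [← pow_mul, ← card_sub_one hF]; exact FiniteField.pow_card_sub_one_eq_one b hb0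
    have h3 : (b ^ (q + 1)) ^ Nat.gcd r (q - 1) = 1 := pow_gcd_eq_one.2 ⟨h1, h2⟩
    rwa [show Nat.gcd r (q - 1) = 1 from (Nat.Prime.coprime_iff_not_dvd hr.out).2 fun hd => hr2 <| by
      have h4 := Nat.dvd_sub hrq hd
      rw [show q + 1 - (q - 1) = 2 by omega] at h4
      exact (Nat.prime_dvd_prime_iff_eq hr.out Nat.prime_two).1 h4, pow_one] at h3
  · obtain ⟨t, -, ht⟩ := Nat.exists_mul_mod_eq_one_of_coprime ((Nat.Prime.coprime_iff_not_dvd hr.out).2 hrq)
      (by omega : 1 < q + 1)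
    refine ⟨z ^ t, by rw [← pow_mul, mul_comm, pow_mul, hz, one_pow], ?_⟩
    rw [← pow_mul, mul_comm t r, ← Nat.div_add_mod (r * t) (q + 1), ht, pow_add, pow_mul, hz, one_pow, one_mul,
      pow_one]

/-- Dividing an isometry by an isometric root. -/
theorem exists_unscaled {f : Module.End F (Fin n → F)} (hfB : ∀ a b, hermForm n F q (f a) (f b) = hermForm n F q a b)
    {z s : F} (hs : s ^ (q + 1) = 1) (hsr : s ^ r = z) (hf : ∀ v, (f ^ r) v = z • v) :
    ∃ g : Module.End F (Fin n → F), (∀ a b, hermForm n F q (g a) (g b) = hermForm n F q a b) ∧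
      (∀ v, (g ^ r) v = v) ∧ (∀ W, Inv g W → Inv f W) ∧ g = s⁻¹ • f := by
  have hs0 : s ≠ 0 := fun h => by rw [h, zero_pow (Nat.succ_ne_zero q)] at hs; exact zero_ne_one hs
  refine ⟨s⁻¹ • f, fun a b => ?_, fun v => ?_, fun W hW => (CfsgLib.Classical22.PrimeMaps.inv_smul (inv_ne_zero hs0)).1 hW, rfl⟩
  · simp only [LinearMap.smul_apply, hermForm, Pi.smul_apply, smul_eq_mul, mul_pow]
    have h := hfB a b
    simp only [hermForm] at h
    rw [← h]
    refine Finset.sum_congr rfl fun i _ => ?_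
    rw [show s⁻¹ * f a i * (s⁻¹ ^ q * f b i ^ q) = s⁻¹ ^ (q + 1) * (f a i * f b i ^ q) by ring, _root_.inv_pow, hs,
      inv_one, one_mul]
  · rw [_root_.smul_pow, LinearMap.smul_apply, hf, smul_smul, _root_.inv_pow, hsr, inv_mul_cancel₀ (fun h0 => hs0
      (eq_zero_of_pow_eq_zero (hsr.trans h0))), one_smul]

/-- An element with non-power scalar: the condition on the scalar and existence. -/
theorem nonpower_cond [hr : Fact r.Prime] (hr2 : r ≠ 2) (hrF : (r : F) ≠ 0) (hn : 0 < n) {M : Matrix (Fin n) (Fin n) F}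
    (hdet : M.det = 1) {z : F} (hM : M ^ r = z • 1) (hzq : z ^ (q + 1) = 1) (hz : ∀ b : F, b ^ r ≠ z) :
    r ∣ q + 1 ∧ padicValNat r (q + 1) < padicValNat r n := by
  have hrq : r ∣ q + 1 := by
    by_contra h
    obtain ⟨s, -, hs⟩ := exists_scalar_root hF hr2 hzq (Or.inl h)
    exact hz s hs
  refine ⟨hrq, ?_⟩
  obtain ⟨hrn, hd⟩ := det_nonpower hr.out hz M hM
  rw [hdet, (hr.out.odd_of_ne_two hr2).add_one.neg_one_pow, one_mul] at hd
  obtain ⟨l, hl⟩ := hrn
  rw [hl, Nat.mul_div_cancel_left _ hr.out.pos] at hd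
  have hq := two_le_q hF
  have hl0 : l ≠ 0 := by rintro rfl; omega
  by_contra hv
  rw [hl, padicValNat.mul hr.out.ne_zero hl0, padicValNat.self hr.out.one_lt] at hv
  have hval : padicValNat r (Fintype.card F - 1) = padicValNat r (q + 1) := by
    rw [card_sub_one hF, padicValNat.mul (by omega) (by omega), padicValNat.eq_zero_of_not_dvd (fun hd : r ∣ q - 1 => hr2 <| by
      have h4 := Nat.dvd_sub hrq hd
      rw [show q + 1 - (q - 1) = 2 by omega] at h4
      exact (Nat.prime_dvd_prime_iff_eq hr.out Nat.prime_two).1 h4), add_zero]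
  obtain ⟨b, hb⟩ := power_of_root (F := F) (r := r) hl0 (by omega) hd.symm
  exact hz b hb

/-- A non-scalar element of `SU` whose `r`-th power is a non-power scalar. -/
theorem exists_nonpower [hr : Fact r.Prime] (hr2 : r ≠ 2) (hrF : (r : F) ≠ 0) (hn : 0 < n) (hrq : r ∣ q + 1)
    (hv : padicValNat r (q + 1) < padicValNat r n) :
    ∃ (x : Matrix.SpecialLinearGroup (Fin n) F) (z : F), x ∈ Cfsg.SU n F q ∧
      ((x : Matrix (Fin n) (Fin n) F)) ^ r = z • 1 ∧ (∀ w : F, (x : Matrix (Fin n) (Fin n) F) ≠ w • 1) ∧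
      ∀ b : F, b ^ r ≠ z := by
  have hq := two_le_q hF
  obtain ⟨v, hvdef⟩ : ∃ v, v = padicValNat r (q + 1) := ⟨_, rfl⟩
  have hrn : r ∣ n := dvd_of_one_le_padicValNat (by omega)
  obtain ⟨l, hl⟩ := hrn
  have hl0 : l ≠ 0 := by rintro rfl; omega
  have hvl : r ^ v ∣ l := (padicValNat_dvd_iff_le hl0).2 (by
    rw [hl, padicValNat.mul hr.out.ne_zero hl0, padicValNat.self hr.out.one_lt] at hv; omega)
  have hvq : r ^ v ∣ q + 1 := hvdef ▸ pow_padicValNat_dvd
  obtain ⟨z, hz1, hz⟩ := exists_nonpower_root (F := F) (r := r) (pow_ne_zero v hr.out.ne_zero)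
    (card_sub_one hF ▸ hrq.mul_right _) (le_of_eq (by
      rw [padicValNat.prime_pow, hvdef, card_sub_one hF, padicValNat.mul (by omega) (by omega),
        padicValNat.eq_zero_of_not_dvd (fun hd : r ∣ q - 1 => hr2 <| by
          have h4 := Nat.dvd_sub hrq hd
          rw [show q + 1 - (q - 1) = 2 by omega] at h4
          exact (Nat.prime_dvd_prime_iff_eq hr.out Nat.prime_two).1 h4), add_zero]))
  have hzq : z ^ (q + 1) = 1 := by obtain ⟨c, hc⟩ := hvq; rw [hc, pow_mul, hz1, one_pow]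
  have hzl : z ^ l = 1 := by obtain ⟨c, hc⟩ := hvl; rw [hc, pow_mul, hz1, one_pow]
  obtain ⟨A, hA, hAr, -⟩ := exists_copies (F := F) (n := n) hF hr.out.pos ⟨l, hl⟩ hzq
  obtain ⟨M, hM⟩ : ∃ M, M = LinearMap.toMatrix' A := ⟨_, rfl⟩
  have hMr : M ^ r = z • 1 := Matrix.ext_of_mulVec_single fun i => by
    rw [← Matrix.toLin'_apply, Matrix.toLin'_pow, hM, Matrix.toLin'_toMatrix', hAr, Matrix.smul_mulVec,
      Matrix.one_mulVec]
  have hdet : LinearMap.det A = 1 := by
    rw [← LinearMap.det_toMatrix', ← hM, (det_nonpower hr.out hz M hMr).2,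
      (hr.out.odd_of_ne_two hr2).add_one.neg_one_pow, one_mul, hl, Nat.mul_div_cancel_left _ hr.out.pos, hzl]
  obtain ⟨x, hx, hxA⟩ := exists_su hdet hA
  have hxM : (x : Matrix (Fin n) (Fin n) F) = M := by rw [hM, ← hxA, LinearMap.toMatrix'_toLin']
  refine ⟨x, z, hx, by rw [hxM, hMr], fun w hw => hz w ?_, hz⟩
  rw [hxM] at hw
  rw [hw, _root_.smul_pow, one_pow] at hMr
  simpa using congrFun (congrFun hMr ⟨0, hn⟩) ⟨0, hn⟩

end CfsgLib.Classical.UnitElusive
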