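/-
Elements of order two modulo scalars in the unitary group.
-/
import Cfsg.Agent.Lib.Classical.UnitElusive.Bridge

set_option autoImplicit false

namespace CfsgLib.Classical.UnitElusive

open Module Polynomial Matrix CfsgLib.Classical Cfsg CfsgLib.Classical22.PrimeMaps

universe u

variable {F : Type u} [Field F] [Fintype F] {q n m : ℕ} (hF : Fintype.card F = q ^ 2)
include hF

omit hF [Fintype F] in
theorem inv_of_pm {g : Module.End F (Fin n → F)} {U : Submodule F (Fin n → F)} {c : F}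
    (h : ∀ u ∈ U, g u = c • u) : Inv g U := fun u hu => by rw [h u hu]; exact U.smul_mem c hu

theorem exists_order_elt {d : ℕ} (hd : d ∣ q + 1) : ∃ z : F, orderOf z = d := by
  have hq := two_le_q hF
  obtain ⟨g, hg⟩ := IsCyclic.exists_generator (α := Fˣ)
  have ho : orderOf g = Fintype.card F - 1 := by
    classical
    rw [orderOf_eq_card_of_forall_mem_zpowers hg, Nat.card_eq_fintype_card, Fintype.card_units]
  obtain ⟨k, hk⟩ : d ∣ orderOf g := ho ▸ card_sub_one hF ▸ hd.mul_right _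
  have hkpos : 0 < k := by
    rcases Nat.eq_zero_or_pos k with h | h
    · rw [h, mul_zero] at hk; exact absurd hk (orderOf_pos g).ne'
    · exact h
  exact ⟨((g ^ k : Fˣ) : F), by
    rw [orderOf_units, orderOf_pow' _ hkpos.ne', hk, Nat.gcd_eq_right (Dvd.intro_left d rfl),
      Nat.mul_div_cancel _ hkpos]⟩

variable (h2 : (2 : F) ≠ 0)
include h2

omit hF [Fintype F] in
theorem neg_one_ne_one' : (-1 : F) ≠ 1 := fun h => h2 (by linear_combination -h)

omit h2 in
theorem q_odd (h2 : (2 : F) ≠ 0) : Odd q := by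
  by_contra h
  obtain ⟨k, hk⟩ := Nat.not_odd_iff_even.1 h
  have h3 := Nat.cast_card_eq_zero F
  rw [hF, Nat.cast_pow, hk, ← two_mul, Nat.cast_mul, Nat.cast_two] at h3
  rcases mul_eq_zero.1 (eq_zero_of_pow_eq_zero h3) with h4 | h4
  · exact h2 h4
  · -- `k` vanishes in `F`, so the characteristic divides `k`
    obtain ⟨p, hp⟩ := CharP.exists F
    haveI := Fact.mk (CharP.char_is_prime F p)
    obtain ⟨e, hpp, he⟩ := FiniteField.card F p
    have h5 : 2 ∣ p ^ (e : ℕ) := he ▸ hF ▸ dvd_pow ⟨k, by omega⟩ two_ne_zero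
    have h6 := (Nat.prime_dvd_prime_iff_eq Nat.prime_two hpp).1 (Nat.prime_two.dvd_of_dvd_pow h5)
    exact h2 (by rw [← Nat.cast_two, h6]; exact CharP.cast_eq_zero F p)

theorem exists_sqrt {z : F} (hz : z ^ (q + 1) = 1) : ∃ s : F, s ^ 2 = z ∧ (s ^ (q + 1) = 1 ∨ s ^ (q + 1) = -1) := by
  have hz0 : z ≠ 0 := fun h => by rw [h, zero_pow (Nat.succ_ne_zero q)] at hz; exact zero_ne_one hz
  obtain ⟨k, hk⟩ := q_odd hF h2
  obtain ⟨s, hs⟩ : IsSquare z := by
    refine (FiniteField.isSquare_iff (fun h => h2 ?_) hz0).2 ?_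
    · have := ringChar.Nat.cast_ringChar (R := F); rw [h] at this; exact_mod_cast this
    · rw [show Fintype.card F / 2 = (q + 1) * k by
        rw [hF, hk, show (2 * k + 1) ^ 2 = 2 * ((2 * k + 1 + 1) * k) + 1 by ring]; omega,
        pow_mul, hz, one_pow]
  refine ⟨s, by rw [hs, sq], sq_eq_one_iff.1 ?_⟩
  rw [← pow_mul, mul_comm, pow_mul, sq, ← hs, hz]

/-- An isometric involution splits the space into two non-degenerate eigenspaces. -/
theorem involution_split {g : Module.End F (Fin n → F)} (hgB : ∀ a b, hermForm n F q (g a) (g b) = hermForm n F q a b)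
    (hg : ∀ v, (g ^ 2) v = v) :
    ∃ X Y : Submodule F (Fin n → F), HNd q X ∧ HNd q Y ∧ Y ≤ horth q X ∧ (∀ v ∈ X, g v = v) ∧
      (∀ v ∈ Y, g v = -v) ∧ finrank F X + finrank F Y = n ∧ LinearMap.det g = (-1) ^ finrank F Y := by
  haveI : Fact (Nat.Prime 2) := ⟨Nat.prime_two⟩
  obtain ⟨Y, hY, hYn, hYfix, hYo, hfx, hd⟩ := fixed_split hF hgB (by exact_mod_cast h2) hg
  have hgY : ∀ v ∈ Y, g v = -v := fun v hv => by
    have h : g v + v = 0 := hYfix _ (Y.add_mem (hY v hv) hv) (by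
      rw [map_add, ← Module.End.mul_apply, ← sq, hg, add_comm])
    exact eq_neg_of_add_eq_zero_left h
  have hc : IsCompl (fixed g) Y := by
    have hdis : fixed g ⊓ Y = ⊥ := eq_bot_iff.2 fun v hv =>
      (Submodule.mem_bot F).2 (hYfix v hv.2 (mem_fixed.1 hv.1))
    refine ⟨disjoint_iff.2 hdis, codisjoint_iff.2 (Submodule.eq_top_of_finrank_eq ?_)⟩
    rw [finrank_sup_orth hF hfx hYo, hd, Module.finrank_fin_fun]
  refine ⟨fixed g, Y, hfx, hYn, hYo, fun v hv => mem_fixed.1 hv, hgY, hd, ?_⟩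
  obtain ⟨e, he⟩ : ∃ e : (fixed g × Y) ≃ₗ[F] (Fin n → F), e = Submodule.prodEquivOfIsCompl (fixed g) Y hc := ⟨_, rfl⟩
  have hconj : g = e.toLinearMap ∘ₗ (LinearMap.id.prodMap ((-1 : F) • LinearMap.id)) ∘ₗ e.symm.toLinearMap := by
    refine LinearMap.ext fun v => ?_
    obtain ⟨⟨a, b⟩, rfl⟩ := e.surjective v
    simp only [LinearMap.comp_apply, LinearEquiv.coe_coe, LinearEquiv.symm_apply_apply]
    simp [he, mem_fixed.1 a.2, hgY b b.2]
  rw [hconj, LinearMap.det_conj, LinearMap.det_prodMap, LinearMap.det_id, LinearMap.det_smul, LinearMap.det_id]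
  simp

/-- A root of opposite norm gives two totally isotropic eigenspaces of half dimension. -/
theorem skew_split {f : Module.End F (Fin n → F)} (hfB : ∀ a b, hermForm n F q (f a) (f b) = hermForm n F q a b)
    {s : F} (hf : ∀ v, (f ^ 2) v = (s ^ 2) • v) (hs : s ^ (q + 1) = -1) :
    ∃ X Y : Submodule F (Fin n → F), HIso q X ∧ HIso q Y ∧ (∀ v ∈ X, f v = s • v) ∧ (∀ v ∈ Y, f v = (-s) • v) ∧
      X ⊔ Y = ⊤ ∧ 2 * finrank F X = n ∧ 2 * finrank F Y = n ∧
      ∀ U, Inv f U → HNd q U → Even (finrank F U) := by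
  have hq := two_le_q hF
  have hs0 : s ≠ 0 := fun h => by
    rw [h, zero_pow (Nat.succ_ne_zero q)] at hs; exact one_ne_zero (neg_eq_zero.1 hs.symm)
  have hiso : ∀ c : F, c ^ (q + 1) = -1 → ∀ a b : Fin n → F, f a = c • a → f b = c • b →
      hermForm n F q a b = 0 := fun c hc a b ha hb => by
    have h := hfB a b
    rw [ha, hb, hermForm_smul_left, h_smul_right hF, ← mul_assoc, ← pow_succ', hc] at h
    have h' : (2 : F) * hermForm n F q a b = 0 := by linear_combination -h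
    exact (mul_eq_zero.1 h').resolve_left h2
  have hns : (-s) ^ (q + 1) = -1 := by rw [neg_pow, (q_odd hF h2).add_one.neg_one_pow, one_mul, hs]
  obtain ⟨X, hX⟩ : ∃ X, X = LinearMap.ker (f - s • 1) := ⟨_, rfl⟩
  obtain ⟨Y, hY⟩ : ∃ Y, Y = LinearMap.ker (f - (-s) • 1) := ⟨_, rfl⟩
  have hXm : ∀ v, v ∈ X ↔ f v = s • v := fun v => by
    rw [hX, LinearMap.mem_ker, LinearMap.sub_apply, sub_eq_zero]; rfl
  have hYm : ∀ v, v ∈ Y ↔ f v = (-s) • v := fun v => by
    rw [hY, LinearMap.mem_ker, LinearMap.sub_apply, sub_eq_zero]; rfl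
  have hXi : HIso q X := fun a ha b hb => hiso s hs a b ((hXm a).1 ha) ((hXm b).1 hb)
  have hYi : HIso q Y := fun a ha b hb => hiso (-s) hns a b ((hYm a).1 ha) ((hYm b).1 hb)
  have hf2 : ∀ v, f (f v) = (s ^ 2) • v := fun v => by rw [← hf, sq, Module.End.mul_apply]
  have h2s : 2 * s ≠ 0 := mul_ne_zero h2 hs0
  have hdec : ∀ v, v = (2 * s)⁻¹ • (f v + s • v) - (2 * s)⁻¹ • (f v - s • v) := fun v => by
    rw [← smul_sub, add_sub_sub_cancel, ← add_smul, ← two_mul, inv_smul_smul₀ h2s]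
  have hmemX : ∀ v, (2 * s)⁻¹ • (f v + s • v) ∈ X := fun v => X.smul_mem _ ((hXm _).2 (by
    rw [map_add, map_smul, hf2, smul_add, smul_smul, ← sq, add_comm]))
  have hmemY : ∀ v, (2 * s)⁻¹ • (f v - s • v) ∈ Y := fun v => Y.smul_mem _ ((hYm _).2 (by
    rw [map_sub, map_smul, hf2, smul_sub, smul_smul, neg_mul, neg_smul, neg_smul, ← sq, sub_neg_eq_add, add_comm,
      ← sub_eq_add_neg]))
  have hsup : X ⊔ Y = ⊤ := eq_top_iff.2 fun v _ => by
    rw [hdec v]
    exact Submodule.sub_mem _ (Submodule.mem_sup_left (hmemX v)) (Submodule.mem_sup_right (hmemY v))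
  have hhalf : ∀ U, Inv f U → HNd q U → ∀ Z : Submodule F (Fin n → F), HIso q Z →
      2 * finrank F (U ⊓ Z : Submodule F (Fin n → F)) ≤ finrank F U := fun U _ hUn Z hZ =>
    iso_le_half hF hUn inf_le_left fun a ha b hb => hZ a ha.2 b hb.2
  have hpar : ∀ U, Inv f U → HNd q U → 2 * finrank F (U ⊓ X : Submodule F (Fin n → F)) = finrank F U ∧
      2 * finrank F (U ⊓ Y : Submodule F (Fin n → F)) = finrank F U := fun U hU hUn => by
    have h1 := hhalf U hU hUn X hXi
    have h3 := hhalf U hU hUn Y hYi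
    have hle : U ≤ (U ⊓ X) ⊔ (U ⊓ Y) := fun u hu => by
      rw [hdec u]
      exact Submodule.sub_mem _
        (Submodule.mem_sup_left ⟨U.smul_mem _ (U.add_mem (hU u hu) (U.smul_mem _ hu)), hmemX u⟩)
        (Submodule.mem_sup_right ⟨U.smul_mem _ (U.sub_mem (hU u hu) (U.smul_mem _ hu)), hmemY u⟩)
    have h4 := (Submodule.finrank_mono hle).trans (Submodule.finrank_add_le_finrank_add_finrank _ _)
    omega
  obtain ⟨h5, h6⟩ := hpar ⊤ (fun _ _ => Submodule.mem_top) (nd_univ hF)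
  rw [top_inf_eq, finrank_top, Module.finrank_fin_fun] at h5 h6
  exact ⟨X, Y, hXi, hYi, fun v hv => (hXm v).1 hv, fun v hv => (hYm v).1 hv, hsup, h5, h6,
    fun U hU hUn => ⟨finrank F (U ⊓ X : Submodule F (Fin n → F)), by rw [← (hpar U hU hUn).1, two_mul]⟩⟩

/-- Elements of order two fix a totally isotropic `m`-space unless `2m = n` and a parity fails. -/
theorem two_iso {f : Module.End F (Fin n → F)} (hn : 1 ≤ n) (hfB : ∀ a b, hermForm n F q (f a) (f b) = hermForm n F q a b)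
    (hdet : LinearMap.det f = 1) {z : F} (hf : ∀ v, (f ^ 2) v = z • v) (hm : 2 * m ≤ n)
    (hcond : 2 * m < n ∨ padicValNat 2 (q + 1) ≤ padicValNat 2 n) :
    ∃ W : Submodule F (Fin n → F), finrank F W = m ∧ HIso q W ∧ Inv f W := by
  obtain ⟨s, hs, hs1 | hs1⟩ := exists_sqrt hF h2 (scalar_norm hF hn hfB hf)
  · obtain ⟨g, hgB, hg, hinv, hgf⟩ := exists_unscaled hF hfB hs1 hs hf
    obtain ⟨X, Y, hX, hY, hYo, hgX, hgY, hd, hdetg⟩ := involution_split hF h2 hgB hg
    obtain ⟨j, hj1, hj2⟩ : ∃ j, 2 * j ≤ finrank F X ∧ j ≤ m ∧ 2 * (m - j) ≤ finrank F Y := by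
      refine ⟨min m (finrank F X / 2), by omega, by omega, ?_⟩
      rcases hcond with h | h
      · omega
      · rcases lt_or_eq_of_le hm with h' | h'
        · omega
        suffices heven : finrank F Y % 2 = 0 by omega
        -- the determinant forces an even eigenspace
        rw [hgf, LinearMap.det_smul, hdet, mul_one, Module.finrank_fin_fun, _root_.inv_pow] at hdetg
        have hsn : s ^ n = (-1) ^ finrank F Y := by
          rw [← inv_inv (s ^ n), hdetg]
          rcases Nat.even_or_odd (finrank F Y) with h'' | h'' <;> simp [h''.neg_one_pow]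
        have hdvd : orderOf s ∣ n := by
          haveI : Fact (Nat.Prime 2) := ⟨Nat.prime_two⟩
          have hA : orderOf s ∣ 2 * n := orderOf_dvd_of_pow_eq_one (by rw [mul_comm, pow_mul, hsn, ← pow_mul,
            mul_comm, pow_mul, neg_one_sq, one_pow])
          have hB : orderOf s ∣ q + 1 := orderOf_dvd_of_pow_eq_one hs1
          obtain ⟨v, o, ho, hvo⟩ : ∃ v o, ¬ 2 ∣ o ∧ q + 1 = 2 ^ v * o :=
            Nat.exists_eq_pow_mul_and_not_dvd (Nat.succ_ne_zero q) 2 (by norm_num)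
          have hv : padicValNat 2 (q + 1) = v := by
            rw [hvo, padicValNat.mul (by positivity) (by omega), padicValNat.prime_pow,
              padicValNat.eq_zero_of_not_dvd ho, add_zero]
          obtain ⟨n₁, hn₁⟩ : 2 ^ v ∣ n := (padicValNat_dvd_iff_le (by omega)).2 (by omega)
          have hC := Nat.dvd_gcd hA hB
          rw [hvo, hn₁, show 2 * (2 ^ v * n₁) = 2 ^ v * (2 * n₁) by ring, Nat.gcd_mul_left,
            Nat.Coprime.gcd_mul_left_cancel n₁ ((Nat.Prime.coprime_iff_not_dvd Nat.prime_two).2 ho)] at hC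
          exact hn₁.symm ▸ hC.trans (Nat.mul_dvd_mul_left _ (Nat.gcd_dvd_left _ _))
        rw [orderOf_dvd_iff_pow_eq_one.1 hdvd] at hsn
        rcases Nat.even_or_odd (finrank F Y) with h'' | h''
        · exact Nat.even_iff.1 h''
        · rw [h''.neg_one_pow] at hsn; exact absurd hsn.symm (neg_one_ne_one' h2)
    obtain ⟨J₁, hJ₁, hJ₁i, hJ₁d⟩ := exists_iso_sub hF hX hj1
    obtain ⟨J₂, hJ₂, hJ₂i, hJ₂d⟩ := exists_iso_sub hF hY hj2.2
    refine ⟨J₁ ⊔ J₂, ?_, iso_sup hF hJ₁i hJ₂i fun u hu w hw => hYo (hJ₂ hu) w (hJ₁ hw),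
      hinv _ (inv_sup (inv_of_pm (c := 1) fun u hu => by rw [one_smul]; exact hgX u (hJ₁ hu))
        (inv_of_pm (c := -1) fun u hu => by rw [neg_smul, one_smul]; exact hgY u (hJ₂ hu)))⟩
    rw [finrank_sup_orth' hF hX hJ₁ (hJ₂.trans hYo), hJ₁d, hJ₂d]
    omega
  · obtain ⟨X, Y, hXi, -, hfX, -, -, hXd, -, -⟩ := skew_split hF h2 hfB (hs ▸ hf) hs1
    obtain ⟨U, hUX, hUd⟩ : ∃ U : Submodule F (Fin n → F), U ≤ X ∧ finrank F U = m := by
      let b := Module.finBasis F X
      refine ⟨Submodule.span F (Set.range fun i : Fin m => ((b (Fin.castLE (by omega) i) : X) : Fin n → F)), ?_, ?_⟩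
      · rw [Submodule.span_le]
        rintro _ ⟨i, rfl⟩
        exact (b _).2
      · exact (finrank_span_eq_card ((b.linearIndependent.comp _ (Fin.castLE_injective _)).map' X.subtype
          (Submodule.ker_subtype _))).trans (Fintype.card_fin m)
    exact ⟨U, hUd, fun a ha b hb => hXi a (hUX ha) b (hUX hb), inv_of_pm fun u hu => hfX u (hUX hu)⟩

end CfsgLib.Classical.UnitElusive

namespace CfsgLib.Classical.UnitElusive

open Module Polynomial Matrix CfsgLib.Classical Cfsg CfsgLib.Classical22.PrimeMaps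

universe u

variable {F : Type u} [Field F] [Fintype F] {q n m : ℕ} (hF : Fintype.card F = q ^ 2) (h2 : (2 : F) ≠ 0)
include hF h2

/-- An element of order two fixes a non-degenerate `m`-space if `m` is even or its scalar has an isometric root. -/
theorem two_nd {f : Module.End F (Fin n → F)} (hn : 1 ≤ n) (hfB : ∀ a b, hermForm n F q (f a) (f b) = hermForm n F q a b)
    {z : F} (hf : ∀ v, (f ^ 2) v = z • v) (hm : m ≤ n)
    (hcond : Even m ∨ ∃ s : F, s ^ (q + 1) = 1 ∧ s ^ 2 = z) :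
    ∃ W : Submodule F (Fin n → F), finrank F W = m ∧ HNd q W ∧ Inv f W := by
  have key : (∃ s : F, s ^ (q + 1) = 1 ∧ s ^ 2 = z) →
      ∃ W : Submodule F (Fin n → F), finrank F W = m ∧ HNd q W ∧ Inv f W := by
    rintro ⟨s, hs1, hs⟩
    obtain ⟨g, hgB, hg, hinv, -⟩ := exists_unscaled hF hfB hs1 hs hf
    obtain ⟨X, Y, hX, hY, hYo, hgX, hgY, hd, -⟩ := involution_split hF h2 hgB hg
    obtain ⟨J₁, hJ₁, hJ₁n, hJ₁d⟩ := exists_nd_sub hF hX (j := min m (finrank F X)) (min_le_right _ _)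
    obtain ⟨J₂, hJ₂, hJ₂n, hJ₂d⟩ := exists_nd_sub hF hY (j := m - min m (finrank F X)) (by omega)
    refine ⟨J₁ ⊔ J₂, ?_, nd_sup hF hJ₁n hJ₂n fun u hu w hw => hYo (hJ₂ hu) w (hJ₁ hw),
      hinv _ (inv_sup (inv_of_pm (c := 1) fun u hu => by rw [one_smul]; exact hgX u (hJ₁ hu))
        (inv_of_pm (c := -1) fun u hu => by rw [neg_smul, one_smul]; exact hgY u (hJ₂ hu)))⟩
    rw [finrank_sup_orth' hF hX hJ₁ (hJ₂.trans hYo), hJ₁d, hJ₂d]
    omega
  obtain ⟨s, hs, hs1 | hs1⟩ := exists_sqrt hF h2 (scalar_norm hF hn hfB hf)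
  · exact key ⟨s, hs1, hs⟩
  rcases hcond with ⟨l, hl⟩ | h
  swap
  · exact key h
  obtain ⟨X, Y, hXi, hYi, hfX, hfY, hsup, hXd, hYd, -⟩ := skew_split hF h2 hfB (hs ▸ hf) hs1
  haveI : Fact (Nat.Prime 2) := ⟨Nat.prime_two⟩
  obtain ⟨U, hUX, hUd⟩ : ∃ U : Submodule F (Fin n → F), U ≤ X ∧ finrank F U = l := by
    let b := Module.finBasis F X
    refine ⟨Submodule.span F (Set.range fun i : Fin l => ((b (Fin.castLE (by omega) i) : X) : Fin n → F)), ?_, ?_⟩
    · rw [Submodule.span_le]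
      rintro _ ⟨i, rfl⟩
      exact (b _).2
    · exact (finrank_span_eq_card ((b.linearIndependent.comp _ (Fin.castLE_injective _)).map' X.subtype
        (Submodule.ker_subtype _))).trans (Fintype.card_fin l)
  have hzne : z ≠ 0 := fun h0 => by
    have h := scalar_norm hF hn hfB hf
    rw [h0, zero_pow (Nat.succ_ne_zero q)] at h
    exact zero_ne_one h
  obtain ⟨K, hK, hKY, hKd, h1, h3⟩ := exists_partner hF (r := 2) hfB (by exact_mod_cast h2) hzne hf
    (inv_of_pm fun u hu => hfX u (hUX hu)) (inv_of_pm hfY) fun u hu h => by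
      refine nd_univ hF u Submodule.mem_top fun v _ => ?_
      obtain ⟨a, ha, b, hb, rfl⟩ := Submodule.mem_sup.1 (hsup.ge (Submodule.mem_top (x := v)))
      rw [h_add_right hF, hXi u (hUX hu) a ha, h b hb, add_zero]
  obtain ⟨hn', hd'⟩ := nd_of_pair hF (fun a ha b hb => hXi a (hUX ha) b (hUX hb))
    (fun a ha b hb => hYi a (hKY ha) b (hKY hb)) h1 h3
  exact ⟨U ⊔ K, by rw [hd', hKd, hUd, ← hl], hn', inv_sup (inv_of_pm fun u hu => hfX u (hUX hu)) hK⟩

/-- A witness without invariant totally isotropic half space. -/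
theorem exists_two_iso_witness (hm : 2 * m = n) (hm1 : 1 ≤ m)
    (hv : padicValNat 2 n < padicValNat 2 (q + 1)) :
    ∃ x : Matrix.SpecialLinearGroup (Fin n) F, x ∈ Cfsg.SU n F q ∧
      (∃ z : F, (x : Matrix (Fin n) (Fin n) F) ^ 2 = z • 1) ∧ (∀ w : F, (x : Matrix (Fin n) (Fin n) F) ≠ w • 1) ∧
      ∀ U, Inv (Matrix.toLin' (x : Matrix (Fin n) (Fin n) F)) U → HIso q U → finrank F U < m := by
  classical
  haveI : Fact (Nat.Prime 2) := ⟨Nat.prime_two⟩
  obtain ⟨v, hv'⟩ : ∃ v, v = padicValNat 2 n := ⟨_, rfl⟩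
  have hn0 : n ≠ 0 := by omega
  obtain ⟨n₁, hn₁⟩ : 2 ^ v ∣ n := hv' ▸ pow_padicValNat_dvd
  have hn₁o : Odd n₁ := by
    refine Nat.not_even_iff_odd.1 fun he => ?_
    have h : 2 ^ (v + 1) ∣ n := by rw [hn₁, pow_succ]; exact Nat.mul_dvd_mul_left _ he.two_dvd
    have := (padicValNat_dvd_iff_le hn0).1 h
    omega
  obtain ⟨s, hs⟩ := exists_order_elt hF ((padicValNat_dvd_iff_le (Nat.succ_ne_zero q)).2
    (show v + 1 ≤ padicValNat 2 (q + 1) by omega))
  have hsq : s ^ (q + 1) = 1 := orderOf_dvd_iff_pow_eq_one.1 (hs ▸ (padicValNat_dvd_iff_le (Nat.succ_ne_zero q)).2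
    (show v + 1 ≤ padicValNat 2 (q + 1) by omega))
  have hs0 : s ≠ 0 := fun h => by rw [h, zero_pow (Nat.succ_ne_zero q)] at hsq; exact zero_ne_one hsq
  have hsn : s ^ n = -1 := by
    have h1 : (s ^ 2 ^ v) ^ 2 = 1 := by rw [← pow_mul, ← pow_succ, ← hs, pow_orderOf_eq_one]
    have h2' : s ^ 2 ^ v = -1 := (sq_eq_one_iff.1 h1).resolve_left fun h => by
      have := Nat.le_of_dvd (by positivity) (orderOf_dvd_of_pow_eq_one h)
      rw [hs, pow_succ] at this
      have := Nat.one_le_two_pow (n := v)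
      omega
    rw [hn₁, pow_mul, h2', hn₁o.neg_one_pow]
  obtain ⟨i₀, hi₀⟩ : ∃ i₀ : Fin n, i₀ = ⟨0, by omega⟩ := ⟨_, rfl⟩
  obtain ⟨w, hw⟩ : ∃ w : Fin n → F, ∀ k, w k = if k = i₀ then -s else s := ⟨_, fun k => rfl⟩
  have hdet : (Matrix.diagonal w).det = 1 := by
    rw [Matrix.det_diagonal, ← Finset.mul_prod_erase _ _ (Finset.mem_univ i₀),
      Finset.prod_congr rfl (fun k hk => show w k = s by rw [hw, if_neg (Finset.ne_of_mem_erase hk)]),
      Finset.prod_const, Finset.card_erase_of_mem (Finset.mem_univ _), Finset.card_univ, Fintype.card_fin, hw,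
      if_pos rfl, neg_mul, ← pow_succ', Nat.sub_add_cancel (by omega), hsn, neg_neg]
  have hns : -s ≠ s := fun h => hs0 ((mul_eq_zero.1 (show (2 : F) * s = 0 by linear_combination -h)).resolve_left h2)
  have hlin : ∀ x k, Matrix.toLin' (Matrix.diagonal w) x k = w k * x k := fun x k => by
    rw [Matrix.toLin'_apply, Matrix.mulVec_diagonal]
  refine ⟨⟨Matrix.diagonal w, hdet⟩, fun a b => ?_, ⟨s ^ 2, ?_⟩, fun c hc => ?_, fun U hU hUi => ?_⟩
  · show hermForm n F q (Matrix.diagonal w *ᵥ a) (Matrix.diagonal w *ᵥ b) = _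
    simp only [hermForm, Matrix.mulVec_diagonal]
    refine Finset.sum_congr rfl fun k _ => ?_
    have hwk : w k ^ (q + 1) = 1 := by
      rw [hw]; split_ifs
      · rw [neg_pow, (q_odd hF h2).add_one.neg_one_pow, one_mul, hsq]
      · exact hsq
    rw [mul_pow, show w k * a k * (w k ^ q * b k ^ q) = (w k ^ (q + 1)) * (a k * b k ^ q) by ring, hwk, one_mul]
  · show Matrix.diagonal w ^ 2 = _
    rw [Matrix.diagonal_pow, Matrix.smul_one_eq_diagonal]
    exact congrArg Matrix.diagonal (funext fun k => by rw [Pi.pow_apply, hw]; split_ifs <;> ring)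
  · have h : ∀ k, w k = c := fun k => by simpa using congrFun (congrFun hc k) k
    have e0 := h i₀
    have e1 := h ⟨1, by omega⟩
    rw [hw, if_pos rfl] at e0
    rw [hw, if_neg (by rw [hi₀]; simp [Fin.ext_iff])] at e1
    exact hns (e0.trans e1.symm)
  obtain ⟨P, hP⟩ : ∃ P : Bool → F[X], P = fun t => X - C (if t then -s else s) := ⟨_, rfl⟩
  have hco : Pairwise (Function.onFun IsCoprime P) := fun t t' h => by
    rw [hP]
    refine isCoprime_X_sub_C_of_isUnit_sub (sub_ne_zero.2 ?_).isUnit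
    cases t <;> cases t' <;> simp at h ⊢
    · exact hns.symm
    · exact hns
  obtain ⟨S, hS⟩ : ∃ S : Bool → Finset (Fin n), ∀ t, S t = if t then {i₀} else Finset.univ.erase i₀ :=
    ⟨_, fun t => rfl⟩
  have hk : ∀ t, ∀ x ∈ supp F (S t), aeval (Matrix.toLin' (Matrix.diagonal w)) (P t) x = 0 := fun t x hx => by
    rw [hP]
    refine funext fun k => ?_
    simp only [map_sub, aeval_X, aeval_C, LinearMap.sub_apply, Module.algebraMap_end_apply, Pi.sub_apply,
      Pi.smul_apply, smul_eq_mul, hlin, hw, Pi.zero_apply]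
    by_cases hkS : k ∈ S t
    · cases t
      · rw [hS, if_neg Bool.false_ne_true, Finset.mem_erase] at hkS
        simp [hkS.1]
      · rw [hS, if_pos rfl, Finset.mem_singleton] at hkS
        simp [hkS]
    · rw [hx k hkS]; simp
  have hann : aeval (Matrix.toLin' (Matrix.diagonal w)) (∏ t, P t) = 0 := by
    refine LinearMap.ext fun x => funext fun k => ?_
    rw [Fintype.prod_bool, hP]
    simp only [map_mul, Module.End.mul_apply, map_sub, aeval_X, aeval_C, LinearMap.sub_apply,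
      Module.algebraMap_end_apply, Pi.sub_apply, Pi.smul_apply, smul_eq_mul, hlin, hw, Pi.zero_apply,
      LinearMap.zero_apply, if_true, Bool.false_eq_true, if_false, map_sub, map_smul]
    split_ifs <;> ring
  obtain ⟨u, hu, hd⟩ := iso_primary_bound hF hco (fun t => hP ▸ irreducible_X_sub_C _) hann
    (fun t => supp F (S t)) (fun t => (exists_supp hF _).1) hk (by
      rw [Fintype.sum_bool, (exists_supp (q := q) hF _).2, (exists_supp (q := q) hF _).2, hS, hS, if_pos rfl,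
        if_neg Bool.false_ne_true, Finset.card_singleton, Finset.card_erase_of_mem (Finset.mem_univ _),
        Finset.card_univ, Fintype.card_fin]
      omega) hU hUi
  have h1 := (hu true).1
  have h3 := (hu false).1
  rw [(exists_supp (q := q) hF _).2, hS, if_pos rfl, Finset.card_singleton] at h1
  rw [(exists_supp (q := q) hF _).2, hS, if_neg Bool.false_ne_true, Finset.card_erase_of_mem (Finset.mem_univ _),
    Finset.card_univ, Fintype.card_fin] at h3
  rw [hd, Fintype.sum_bool]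
  omega

/-- A witness without invariant non-degenerate subspace of odd dimension. -/
theorem exists_two_nd_witness (hn : Even n) (hn1 : 1 ≤ n)
    (hv : q % 4 = 1 ∨ padicValNat 2 (q + 1) < padicValNat 2 n) :
    ∃ x : Matrix.SpecialLinearGroup (Fin n) F, x ∈ Cfsg.SU n F q ∧
      (∃ z : F, (x : Matrix (Fin n) (Fin n) F) ^ 2 = z • 1) ∧ (∀ w : F, (x : Matrix (Fin n) (Fin n) F) ≠ w • 1) ∧
      ∀ U, Inv (Matrix.toLin' (x : Matrix (Fin n) (Fin n) F)) U → HNd q U → Even (finrank F U) := by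
  haveI : Fact (Nat.Prime 2) := ⟨Nat.prime_two⟩
  have hqo := q_odd hF h2
  obtain ⟨z, hzq, hzn, hz⟩ : ∃ z : F, z ^ (q + 1) = 1 ∧ (-z) ^ (n / 2) = 1 ∧ z ^ ((q + 1) / 2) ≠ 1 := by
    by_cases h4 : q % 4 = 1
    · refine ⟨-1, by rw [hqo.add_one.neg_one_pow], by simp, ?_⟩
      rw [(Nat.odd_iff.2 (show (q + 1) / 2 % 2 = 1 by omega)).neg_one_pow]
      exact neg_one_ne_one' h2
    have hv' := hv.resolve_left h4
    obtain ⟨v, hvdef⟩ : ∃ v, v = padicValNat 2 (q + 1) := ⟨_, rfl⟩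
    have hq1 : 2 ^ 2 ∣ q + 1 := by
      have := Nat.odd_iff.1 hqo
      omega
    have hv2 : 2 ≤ v := hvdef ▸ (padicValNat_dvd_iff_le (Nat.succ_ne_zero q)).1 hq1
    obtain ⟨n₁, hn₁⟩ : 2 ^ (v + 1) ∣ n := (padicValNat_dvd_iff_le (by omega)).2 (by omega)
    have hdiv : 2 ^ v ∣ q + 1 := hvdef ▸ pow_padicValNat_dvd
    obtain ⟨z, hz⟩ := exists_order_elt hF hdiv
    have hn2 : n / 2 = 2 ^ v * n₁ := by rw [hn₁, pow_succ, mul_comm (2 ^ v) 2, mul_assoc, Nat.mul_div_cancel_left _ two_pos]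
    refine ⟨z, orderOf_dvd_iff_pow_eq_one.1 (hz ▸ hdiv), ?_, fun h => ?_⟩
    · rw [neg_pow, hn2, pow_mul z, ← hz, pow_orderOf_eq_one, one_pow, mul_one]
      refine Even.neg_one_pow (Even.mul_right ?_ _)
      rw [hz, Nat.even_pow]
      exact ⟨even_two, by omega⟩
    · have h1 := orderOf_dvd_of_pow_eq_one h
      rw [hz] at h1
      obtain ⟨c, hc⟩ := h1
      have h3 : 2 ^ (v + 1) ∣ q + 1 := ⟨c, by rw [pow_succ, mul_comm (2 ^ v) 2, mul_assoc, ← hc]; omega⟩
      have h5 : v + 1 ≤ padicValNat 2 (q + 1) := (padicValNat_dvd_iff_le (Nat.succ_ne_zero q)).1 h3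
      omega
  obtain ⟨A, hA, hAr, hAd⟩ := exists_copies (F := F) (n := n) (r := 2) hF two_pos hn.two_dvd hzq
  obtain ⟨x, hx, hxA⟩ := exists_su ((hAd rfl).trans hzn) hA
  have hxM : (x : Matrix (Fin n) (Fin n) F) ^ 2 = z • 1 := Matrix.ext_of_mulVec_single fun i => by
    rw [← Matrix.toLin'_apply, Matrix.toLin'_pow, hxA, hAr, Matrix.smul_mulVec, Matrix.one_mulVec]
  have hroot : ∀ s : F, s ^ 2 = z → s ^ (q + 1) = -1 := fun s hs => by
    have h1 : (s ^ (q + 1)) ^ 2 = 1 := by rw [← pow_mul, mul_comm, pow_mul, hs, hzq]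
    refine (sq_eq_one_iff.1 h1).resolve_left fun h => hz ?_
    rw [← hs, ← pow_mul, show 2 * ((q + 1) / 2) = q + 1 by obtain ⟨k, hk⟩ := hqo; omega, h]
  refine ⟨x, hx, ⟨z, hxM⟩, fun w hw => ?_, fun U hU hUn => ?_⟩
  · rw [hw, _root_.smul_pow, one_pow] at hxM
    have h := hroot w (by simpa using congrFun (congrFun hxM ⟨0, hn1⟩) ⟨0, hn1⟩)
    have h' := scalar_norm hF (r := 1) (f := A) hn1 hA (z := w) fun v => by
      rw [pow_one, ← hxA, hw, map_smul, Matrix.toLin'_one]; rfl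
    exact neg_one_ne_one' h2 (h.symm.trans h')
  · obtain ⟨s, hs, -⟩ := exists_sqrt hF h2 hzq
    rw [hxA] at hU
    obtain ⟨-, -, -, -, -, -, -, -, -, hev⟩ := skew_split hF h2 hA (hs ▸ hAr) (hroot s hs)
    exact hev U hU hUn

end CfsgLib.Classical.UnitElusive

namespace CfsgLib.Classical.UnitElusive

open Module Polynomial Matrix CfsgLib.Classical Cfsg CfsgLib.Classical22.PrimeMaps

universe u

variable {F : Type u} [Field F] [Fintype F] {q n m : ℕ} (hF : Fintype.card F = q ^ 2) (h2 : (2 : F) ≠ 0)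
include hF h2

/-- The scalar square of an element has an isometric root, if `n` is odd or the `2`-parts fit. -/
theorem two_root {f : Module.End F (Fin n → F)} (hn : 1 ≤ n) (hfB : ∀ a b, hermForm n F q (f a) (f b) = hermForm n F q a b)
    (hdet : LinearMap.det f = 1) {z : F} (hf : ∀ v, (f ^ 2) v = z • v)
    (hcond : Odd n ∨ (padicValNat 2 n ≤ padicValNat 2 (q + 1) ∧ q % 4 = 3)) :
    ∃ s : F, s ^ (q + 1) = 1 ∧ s ^ 2 = z := by
  obtain ⟨s, hs, hs1 | hs1⟩ := exists_sqrt hF h2 (scalar_norm hF hn hfB hf)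
  · exact ⟨s, hs1, hs⟩
  exfalso
  obtain ⟨X, Y, -, -, hfX, hfY, hsup, hXd, hYd, -⟩ := skew_split hF h2 hfB (hs ▸ hf) hs1
  rcases hcond with ho | ⟨hv, h4⟩
  · exact Nat.not_even_iff_odd.2 ho ⟨finrank F X, by omega⟩
  obtain ⟨l, hl⟩ : ∃ l, finrank F X = l := ⟨_, rfl⟩
  have hYl : finrank F Y = l := by omega
  have hc : IsCompl X Y := by
    have h := Submodule.finrank_sup_add_finrank_inf_eq X Y
    rw [hsup, finrank_top, Module.finrank_fin_fun] at h
    exact ⟨disjoint_iff.2 (Submodule.finrank_eq_zero.1 (by omega)), codisjoint_iff.2 hsup⟩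
  obtain ⟨e, he⟩ : ∃ e : (X × Y) ≃ₗ[F] (Fin n → F), e = Submodule.prodEquivOfIsCompl X Y hc := ⟨_, rfl⟩
  have hconj : f = e.toLinearMap ∘ₗ ((s • LinearMap.id).prodMap ((-s) • LinearMap.id)) ∘ₗ e.symm.toLinearMap := by
    refine LinearMap.ext fun v => ?_
    obtain ⟨⟨a, b⟩, rfl⟩ := e.surjective v
    simp only [LinearMap.comp_apply, LinearEquiv.coe_coe, LinearEquiv.symm_apply_apply]
    simp [he, hfX a a.2, hfY b b.2]
  rw [hconj, LinearMap.det_conj, LinearMap.det_prodMap, LinearMap.det_smul, LinearMap.det_smul, LinearMap.det_id,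
    LinearMap.det_id, mul_one, mul_one, hl, hYl, ← mul_pow, mul_neg, ← sq, hs] at hdet
  haveI : Fact (Nat.Prime 2) := ⟨Nat.prime_two⟩
  have hhalf : z ^ ((q + 1) / 2) = -1 := by
    rw [← hs, ← pow_mul, show 2 * ((q + 1) / 2) = q + 1 by omega, hs1]
  have hw : (-z) ^ ((q + 1) / 2) = -1 := by
    rw [neg_pow, (Nat.even_iff.2 (show (q + 1) / 2 % 2 = 0 by omega)).neg_one_pow, one_mul, hhalf]
  have hw1 : (-z) ^ (q + 1) = 1 := by
    rw [← show (q + 1) / 2 * 2 = q + 1 by omega, pow_mul, hw, neg_one_sq]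
  have hg : (-z) ^ Nat.gcd l (q + 1) = 1 := pow_gcd_eq_one.2 ⟨hdet, hw1⟩
  obtain ⟨k, hk⟩ := Nat.gcd_dvd_right l (q + 1)
  rcases Nat.even_or_odd k with ⟨k', rfl⟩ | hko
  · rw [show (q + 1) / 2 = Nat.gcd l (q + 1) * k' by
      generalize Nat.gcd l (q + 1) = g at hk ⊢
      rw [mul_add] at hk; omega, pow_mul, hg, one_pow] at hw
    exact neg_one_ne_one' h2 hw.symm
  · obtain ⟨v, hvdef⟩ : ∃ v, v = padicValNat 2 (q + 1) := ⟨_, rfl⟩
    have h1 : 2 ^ v ∣ Nat.gcd l (q + 1) := by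
      refine (Nat.Coprime.pow_left v (Nat.coprime_two_left.2 hko)).dvd_of_dvd_mul_right ?_
      rw [← hk, hvdef]
      exact pow_padicValNat_dvd
    have h3 : v ≤ padicValNat 2 l := (padicValNat_dvd_iff_le (show l ≠ 0 by omega)).1 (h1.trans (Nat.gcd_dvd_left _ _))
    have h5 : padicValNat 2 n = 1 + padicValNat 2 l := by
      rw [show n = 2 * l by omega, padicValNat.mul two_ne_zero (by omega), padicValNat.self one_lt_two]
    omega

end CfsgLib.Classical.UnitElusive
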