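/-
Unipotent isometries: one for every partition, and their invariant non-degenerate subspaces.
-/
import Cfsg.Agent.Lib.Classical.UnitElusive.Bridge
import Cfsg.Agent.Lib.Classical.GUCentralizer.Main
import Cfsg.Agent.Lib.Classical.JordanType
import Cfsg.Agent.Lib.Classical22.NilpotentPartition

set_option autoImplicit false

namespace CfsgLib.Classical.UnitElusive

open Module Polynomial Matrix CfsgLib.Classical Cfsg CfsgLib.Classical22.PrimeMaps
  CfsgLib.Classical22.NilPart

universe u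

variable {F : Type u} [Field F] [Fintype F] {q n m : ℕ} (hF : Fintype.card F = q ^ 2)
include hF

omit hF [Fintype F] in
theorem exists_le_of_le_map {α β : Type*} [DecidableEq β] (g : α → β) :
    ∀ (s : Multiset α) (ν : Multiset β), ν ≤ s.map g → ∃ t : Multiset α, t ≤ s ∧ t.map g = ν := by
  intro s
  induction s using Multiset.induction with
  | empty => exact fun ν hν => ⟨0, le_rfl, by simpa using (Multiset.le_zero.1 hν).symm⟩
  | cons a s ih =>
    intro ν hν
    rw [Multiset.map_cons] at hν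
    by_cases h : g a ∈ ν
    · obtain ⟨t, ht, htν⟩ := ih (ν.erase (g a)) (Multiset.erase_le_iff_le_cons.2 hν)
      exact ⟨a ::ₘ t, Multiset.cons_le_cons a ht, by rw [Multiset.map_cons, htν, Multiset.cons_erase h]⟩
    · obtain ⟨t, ht, htν⟩ := ih ν ((Multiset.le_cons_of_notMem h).1 hν)
      exact ⟨t, ht.trans (Multiset.le_cons_self s a), htν⟩

/-- A regular unipotent isometry. -/
theorem exists_regular (a : ℕ) : ∃ A : Module.End F (Fin a → F),
    (∀ x y, hermForm a F q (A x) (A y) = hermForm a F q x y) ∧ ((A - 1) ^ a = 0) ∧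
      ∀ k, finrank F (LinearMap.range ((A - 1) ^ k)) = a - k := by
  classical
  obtain ⟨σ, hσ, hσσ, -⟩ := exists_qPow hF
  letI : StarRing F :=
    { star := σ
      star_involutive := hσσ
      star_mul := fun x y => by show σ (x * y) = σ y * σ x; rw [map_mul, mul_comm]
      star_add := fun x y => map_add σ x y }
  obtain ⟨c, ci, hc, hu⟩ := GUCentralizer.exists_unitary_jordan (K := F) hF hσ a
  have hci := mul_eq_one_comm.1 hc
  obtain ⟨U, hU⟩ : ∃ U, U = c * Cfsg.jordanBlock a F * ci := ⟨_, rfl⟩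
  rw [← hU] at hu
  obtain ⟨A, hA⟩ : ∃ A, A = Matrix.toLin' U := ⟨_, rfl⟩
  have hq : GUConj.starQ q U = Uᴴ := by
    ext i j
    simp only [GUConj.starQ, Matrix.transpose_apply, Matrix.map_apply, Matrix.conjTranspose_apply]
    exact (hσ _).symm
  have hg : ∃ g : GL (Fin a) F, (g : Matrix (Fin a) (Fin a) F) = U :=
    ⟨⟨U, Uᴴ, mul_eq_one_comm.1 hu, hu⟩, rfl⟩
  obtain ⟨g, hg⟩ := hg
  have hmem : g ∈ Cfsg.GU a F q := (GUConj.mem_gu_iff_starQ hF g).2 (by rw [hg, hq, hu])
  have hN : A - 1 = Matrix.toLin' (c * GUCentralizer.shift a F * ci) := by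
    rw [hA, hU, GUCentralizer.jordanBlock_eq, Matrix.mul_add, Matrix.add_mul, Matrix.mul_one, hc, map_add,
      Matrix.toLin'_one]
    exact add_sub_cancel_left _ _
  have hpow : ∀ k, (A - 1) ^ k = Matrix.toLin' (c * GUCentralizer.shift a F ^ k * ci) := fun k => by
    rw [hN, ← Matrix.toLin'_pow]
    congr 1
    induction k with
    | zero => rw [pow_zero, pow_zero, Matrix.mul_one, hc]
    | succ k ih =>
      rw [pow_succ, ih, pow_succ]
      simp only [Matrix.mul_assoc]
      rw [← Matrix.mul_assoc ci c, hci, Matrix.one_mul]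
  have hN0 : (A - 1) ^ a = 0 := by
    rw [hpow, GUCentralizer.shift_pow_eq_zero, Matrix.mul_zero, Matrix.zero_mul, map_zero]
  refine ⟨A, fun x y => ?_, hN0, fun k => ?_⟩
  · rw [hA, Matrix.toLin'_apply, Matrix.toLin'_apply, ← hg]
    exact hmem x y
  obtain ⟨μ, hμ, hsum, hrank, -⟩ := exists_partition (N := A - 1) (X := (⊤ : Submodule F (Fin a → F)))
    (fun _ _ => Submodule.mem_top) (p := a) fun v _ => by rw [hN0]; rfl
  rw [finrank_top, Module.finrank_fin_fun] at hsum
  have hμa : μ = if a = 0 then 0 else {a} := by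
    rcases a with _ | b
    · rw [if_pos rfl]
      refine Multiset.eq_zero_of_forall_notMem fun x hx => ?_
      have := hμ x hx
      omega
    · rw [if_neg (Nat.succ_ne_zero b)]
      have hne : LinearMap.range ((A - 1) ^ b) ≠ ⊥ := fun h => by
        rw [LinearMap.range_eq_bot, hpow, LinearEquiv.map_eq_zero_iff] at h
        have h' : ci * (c * GUCentralizer.shift (b + 1) F ^ b * ci) * c = 0 := by rw [h]; simp
        rw [← Matrix.mul_assoc, ← Matrix.mul_assoc, hci, Matrix.one_mul, Matrix.mul_assoc, hci, Matrix.mul_one] at h'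
        exact GUCentralizer.shift_pow_ne b (by rw [h', Matrix.zero_mulVec])
      have hpos : prank μ b ≠ 0 := by
        rw [← hrank b, Submodule.map_top]
        exact fun h => hne (Submodule.finrank_eq_zero.1 h)
      obtain ⟨x, hx, hxb⟩ : ∃ x ∈ μ, b + 1 ≤ x := by
        by_contra hcon
        push Not at hcon
        exact hpos (Multiset.sum_eq_zero fun y hy => by
          obtain ⟨z, hz, rfl⟩ := Multiset.mem_map.1 hy
          have := hcon z hz
          omega)
      obtain ⟨t, rfl⟩ := Multiset.exists_cons_of_mem hx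
      rw [Multiset.sum_cons] at hsum
      have hx' := hμ x hx
      have ht : t = 0 := Multiset.eq_zero_of_forall_notMem fun y hy => by
        have h1 := (hμ y (Multiset.mem_cons_of_mem hy)).1
        have h2 := Multiset.single_le_sum (fun z _ => Nat.zero_le z) y hy
        omega
      rw [ht, show x = b + 1 by omega]
      rfl
  rw [← Submodule.map_top, hrank k, hμa]
  split_ifs with h
  · simp [prank, h]
  · simp [prank]

/-- A unipotent isometry with given partition, and invariant non-degenerate pieces. -/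
theorem exists_unipotent_model {p : ℕ} (μ : Multiset ℕ) (hμ : ∀ a ∈ μ, 0 < a ∧ a ≤ p) (hsum : μ.sum = n) :
    ∃ f : Module.End F (Fin n → F), (∀ x y, hermForm n F q (f x) (f y) = hermForm n F q x y) ∧ (f - 1) ^ p = 0 ∧
      (∀ k, finrank F (LinearMap.range ((f - 1) ^ k)) = prank μ k) ∧
      ∀ ν ≤ μ, ∃ W : Submodule F (Fin n → F), finrank F W = ν.sum ∧ HNd q W ∧ Inv f W := by
  classical
  choose A hAB hA0 hArank using exists_regular (F := F) hF
  obtain ⟨l, rfl⟩ : ∃ l : List ℕ, (l : Multiset ℕ) = μ := ⟨μ.toList, Multiset.coe_toList μ⟩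
  obtain ⟨ms, hms⟩ : ∃ ms : Fin l.length → ℕ, ∀ j, ms j = l.get j := ⟨_, fun j => rfl⟩
  have hmap : (Finset.univ.val.map ms : Multiset ℕ) = (l : Multiset ℕ) := by
    rw [funext hms]
    simp [Fin.univ_val_map]
  have hsum' : ∑ j, ms j = n := by
    rw [Finset.sum_eq_multiset_sum, hmap]; exact hsum
  obtain ⟨E, -⟩ : ∃ E : (Σ j, Fin (ms j)) ≃ Fin n, E = E :=
    ⟨Fintype.equivFinOfCardEq (by simp [hsum']), rfl⟩
  obtain ⟨f, hf⟩ : ∃ f, f = blockMap E fun j => A (ms j) := ⟨_, rfl⟩
  have hQ : ∀ (k : ℕ) (x : Fin n → F) (j : Fin l.length), (fun i => ((f - 1) ^ k) x (E ⟨j, i⟩)) = ((A (ms j) - 1) ^ k) (fun i => x (E ⟨j, i⟩)) := by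
    intro k x j
    have h := aeval_blockMap E (fun j => A (ms j)) ((X - C (1 : F)) ^ k) x j
    simp only [map_pow, map_sub, aeval_X, map_one] at h
    rw [hf]
    exact h
  refine ⟨f, hf ▸ blockMap_isometry E _ fun j => hAB (ms j), ?_, fun k => ?_, fun ν hν => ?_⟩
  · refine LinearMap.ext fun x => eq_of_comp E fun j => ?_
    rw [hQ]
    have hle : ms j ≤ p := (hμ _ (by rw [hms]; exact List.get_mem l j)).2
    rw [← Nat.add_sub_cancel' hle, pow_add, hA0, zero_mul]
    rfl
  · obtain ⟨Φ, hΦ⟩ : ∃ Φ : ((j : Fin l.length) → LinearMap.range ((A (ms j) - 1) ^ k)) →ₗ[F] (Fin n → F),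
        ∀ y j i, Φ y (E ⟨j, i⟩) = (y j : Fin (ms j) → F) i :=
      ⟨{ toFun := fun y k => (y (E.symm k).1 : Fin (ms (E.symm k).1) → F) (E.symm k).2
         map_add' := fun y z => funext fun k => rfl
         map_smul' := fun a y => funext fun k => rfl }, fun y j i => by
        obtain ⟨g, hg⟩ : ∃ g : (Σ j, Fin (ms j)) → F, ∀ s, g s = (y s.1 : Fin (ms s.1) → F) s.2 := ⟨_, fun s => rfl⟩
        show (y (E.symm (E ⟨j, i⟩)).1 : Fin (ms (E.symm (E ⟨j, i⟩)).1) → F) (E.symm (E ⟨j, i⟩)).2 = _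
        rw [← hg, E.symm_apply_apply, hg]⟩
    have hΦi : Function.Injective Φ := fun y z h => funext fun j => Subtype.ext (funext fun i => by
      rw [← hΦ, ← hΦ, h])
    have hr : LinearMap.range Φ = LinearMap.range ((f - 1) ^ k) := by
      refine le_antisymm ?_ ?_
      · rintro _ ⟨y, rfl⟩
        choose x hx using fun j => (y j).2
        refine ⟨fun s => x (E.symm s).1 (E.symm s).2, eq_of_comp E fun j => ?_⟩
        rw [hQ, show (fun i => Φ y (E ⟨j, i⟩)) = (y j : Fin (ms j) → F) from funext fun i => hΦ y j i, ← hx j]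
        refine congrArg _ (funext fun i => ?_)
        obtain ⟨g, hg⟩ : ∃ g : (Σ j, Fin (ms j)) → F, ∀ s, g s = x s.1 s.2 := ⟨_, fun s => rfl⟩
        show x (E.symm (E ⟨j, i⟩)).1 (E.symm (E ⟨j, i⟩)).2 = _
        rw [← hg, E.symm_apply_apply, hg]
      · rintro _ ⟨x, rfl⟩
        refine ⟨fun j => ⟨_, ⟨fun i => x (E ⟨j, i⟩), rfl⟩⟩, eq_of_comp E fun j => ?_⟩
        rw [hQ]
        exact funext fun i => hΦ _ j i
    rw [← hr, LinearMap.finrank_range_of_inj hΦi, Module.finrank_pi_fintype, Finset.sum_congr rfl fun j _ => hArank _ k,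
      prank, ← hmap, Multiset.map_map]
    rfl
  · rw [← hmap] at hν
    obtain ⟨s, hs, hsν⟩ : ∃ s : Multiset (Fin l.length), s ≤ Finset.univ.val ∧ s.map ms = ν := by
      exact exists_le_of_le_map ms _ ν hν
    obtain ⟨S, hS⟩ : ∃ S : Finset (Fin l.length), S.val = s :=
      ⟨⟨s, Multiset.nodup_of_le hs Finset.univ.nodup⟩, rfl⟩
    refine ⟨supp F (blockSet E fun j => j ∈ S), ?_, (exists_supp hF _).1, hf ▸ blockSet_inv E _ _⟩
    rw [(exists_supp (q := q) hF _).2, card_blockSet, Finset.filter_mem_eq_inter, Finset.univ_inter,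
      Finset.sum_eq_multiset_sum, hS, hsν]

/-- A unipotent isometry leaves a non-degenerate `m`-space invariant if every partition contains one of `m`. -/
theorem exists_nd_unipotent {p : ℕ} {f : Module.End F (Fin n → F)}
    (hfB : ∀ a b, hermForm n F q (f a) (f b) = hermForm n F q a b) (hf : (f - 1) ^ p = 0)
    (h : ∀ μ : Multiset ℕ, (∀ a ∈ μ, 0 < a ∧ a ≤ p) → μ.sum = n → ∃ ν : Multiset ℕ, ν ≤ μ ∧ ν.sum = m) :
    ∃ W : Submodule F (Fin n → F), finrank F W = m ∧ HNd q W ∧ Inv f W := by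
  obtain ⟨μ, hμ, hsum, hrank, -⟩ := exists_partition (N := f - 1) (X := (⊤ : Submodule F (Fin n → F)))
    (fun _ _ => Submodule.mem_top) (p := p) fun v _ => by rw [hf]; rfl
  rw [finrank_top, Module.finrank_fin_fun] at hsum
  obtain ⟨g, hgB, hg, hgrank, hgsub⟩ := exists_unipotent_model hF μ hμ hsum
  obtain ⟨e, he⟩ := JordanType.similar_of_rank hg hf fun k => by
    rw [hgrank k, ← hrank k, Submodule.map_top]
  obtain ⟨φ, hφ, hφc⟩ := exists_iso_conj hF hgB hfB e fun x => by
    have h := he x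
    rw [LinearMap.sub_apply, LinearMap.sub_apply, Module.End.one_apply, Module.End.one_apply, map_sub] at h
    exact sub_left_injective h
  obtain ⟨ν, hν, hνm⟩ := h μ hμ hsum
  obtain ⟨W, hWd, hWn, hW⟩ := hgsub ν hν
  obtain ⟨h1, h2, -, h4⟩ := map_inv_props hF (ι := φ.toLinearMap) hφ (f := f) (B := g) (fun x => (hφc x).symm) hW
  exact ⟨_, h2.trans (hWd.trans hνm), h4 hWn, h1⟩

/-- A unipotent element of `SU` with a given partition. -/
theorem exists_unipotent_witness {p : ℕ} [hp : Fact p.Prime] [CharP F p] (hn : 1 ≤ n) {μ : Multiset ℕ}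
    (hμ : ∀ a ∈ μ, 0 < a ∧ a ≤ p) (hsum : μ.sum = n) (hμ1 : ¬ ∀ a ∈ μ, a = 1) :
    ∃ x : Matrix.SpecialLinearGroup (Fin n) F, x ∈ Cfsg.SU n F q ∧ (x : Matrix (Fin n) (Fin n) F) ^ p = 1 ∧
      (∀ w : F, (x : Matrix (Fin n) (Fin n) F) ≠ w • 1) ∧
      ∀ U, Inv (Matrix.toLin' (x : Matrix (Fin n) (Fin n) F)) U → HNd q U →
        ∃ ν, ν ≤ μ ∧ ν.sum = finrank F U := by
  obtain ⟨f, hfB, hf, hrank, -⟩ := exists_unipotent_model hF μ hμ hsum
  haveI : CharP (Module.End F (Fin n → F)) p :=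
    haveI : Nonempty (Fin n) := ⟨⟨0, hn⟩⟩
    charP_of_injective_algebraMap (algebraMap F (Module.End F (Fin n → F))).injective p
  have hfp : f ^ p = 1 := by
    rw [← sub_eq_zero, ← hf, sub_pow_char_of_commute p (Commute.one_right f), one_pow]
  have hdet : LinearMap.det f = 1 := by
    have h : (LinearMap.det f - 1) ^ p = 0 := by
      rw [sub_pow_char, ← map_pow, hfp, map_one, one_pow, sub_self]
    exact sub_eq_zero.1 (eq_zero_of_pow_eq_zero h)
  obtain ⟨x, hx, hxf⟩ := exists_su hdet hfB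
  have hfp' : ∀ v, (f ^ p) v = (1 : F) • v := fun v => by rw [hfp, one_smul]; rfl
  refine ⟨x, hx, Matrix.ext_of_mulVec_single fun i => by
    rw [← Matrix.toLin'_apply, Matrix.toLin'_pow, hxf, hfp, Matrix.one_mulVec]; rfl, fun w hw => hμ1 fun a ha => ?_,
    fun U hU hUn => ?_⟩
  · have hw' : f = w • 1 := by rw [← hxf, hw, map_smul, Matrix.toLin'_one]; rfl
    have hw1 : w = 1 := by
      have h : (w - 1) ^ p = 0 := by
        have h1 := congrFun (hfp' (Pi.single ⟨0, hn⟩ 1)) ⟨0, hn⟩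
        rw [hw', _root_.smul_pow, one_pow, LinearMap.smul_apply, Module.End.one_apply, one_smul] at h1
        rw [sub_pow_char, one_pow, sub_eq_zero]
        simpa using h1
      exact sub_eq_zero.1 (eq_zero_of_pow_eq_zero h)
    have h1 := hrank 1
    rw [hw', hw1, one_smul, sub_self, pow_one, LinearMap.range_zero, finrank_bot] at h1
    have h2 := Multiset.single_le_sum (fun x _ => Nat.zero_le x) _ (Multiset.mem_map_of_mem (fun a => a - 1) ha)
    rw [← show prank μ 1 = (μ.map fun a => a - 1).sum from rfl, ← h1] at h2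
    have := (hμ a ha).1
    omega
  · rw [hxf] at hU
    obtain ⟨h1, h2, -, -⟩ := compl_in hF hUn (le_top : U ≤ ⊤)
    have hperp : Inv f (⊤ ⊓ horth q U) := fun w hw => ⟨Submodule.mem_top,
      inv_orth hF (r := p) hfB one_ne_zero hfp' hU w hw.2⟩
    have hN : ∀ Z : Submodule F (Fin n → F), Inv f Z → Inv (f - 1) Z := fun Z hZ w hw => by
      rw [LinearMap.sub_apply, Module.End.one_apply]; exact Z.sub_mem (hZ w hw) hw
    exact split_partition (fun v => by rw [hf]; rfl) (fun a ha => (hμ a ha).1) hrank (hN U hU) (hN _ hperp)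
      ⟨disjoint_iff.2 h1, codisjoint_iff.2 h2⟩

end CfsgLib.Classical.UnitElusive
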