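/-
The numbers of totally isotropic and non-degenerate subspaces, and the primes dividing them.
-/
import Cfsg.Agent.Lib.Classical.UnitElusive.Space
import Cfsg.Agent.Lib.Classical.UnitElusive.Ord
import Cfsg.Agent.Lib.Classical.HermSplit

set_option autoImplicit false

namespace CfsgLib.Classical.UnitElusive

open Module CfsgLib.Classical Cfsg

universe u

variable {F : Type u} [Field F] [Fintype F] {q n m r : ℕ}

/-- The factors of the unitary group order. -/
def guFactor (q i : ℕ) : ℕ := if Even i then q ^ (i + 1) + 1 else q ^ (i + 1) - 1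

theorem guFactor_pos (hq : 2 ≤ q) (i : ℕ) : 0 < guFactor q i := by
  unfold guFactor
  split_ifs
  · exact Nat.succ_pos _
  · exact Nat.sub_pos_of_lt (Nat.one_lt_pow (Nat.succ_ne_zero i) hq)

theorem unitaryOrder_split (q a b : ℕ) :
    unitaryOrder q (a + b) = q ^ ((a + b) * (a + b - 1) / 2) *
      ((∏ i ∈ Finset.range a, guFactor q i) * ∏ i ∈ Finset.Ico a (a + b), guFactor q i) := by
  rw [unitaryOrder, Finset.prod_range_mul_prod_Ico _ (Nat.le_add_right a b)]
  rfl

theorem tri_add (a b : ℕ) : (a + b) * (a + b - 1) / 2 = a * (a - 1) / 2 + b * (b - 1) / 2 + a * b := by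
  have h : ∀ k : ℕ, 2 * (k * (k - 1) / 2) + k = k * k := fun k => by
    rw [Nat.mul_div_cancel' (Nat.even_mul_pred_self k).two_dvd]
    rcases k with _ | k
    · rfl
    · simp only [Nat.add_sub_cancel]; ring
  have h1 := h (a + b)
  have h2 := h a
  have h3 := h b
  have h4 : (a + b) * (a + b) = a * a + b * b + 2 * (a * b) := by ring
  omega

variable (hF : Fintype.card F = q ^ 2)
include hF

theorem prod_gl (m : ℕ) :
    ∏ i : Fin m, ((q ^ 2) ^ m - (q ^ 2) ^ (i : ℕ)) =
      (q ^ 2) ^ (m * (m - 1) / 2) * ∏ j ∈ Finset.range m, ((q ^ 2) ^ (j + 1) - 1) := by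
  rw [Fin.prod_univ_eq_prod_range (fun j => (q ^ 2) ^ m - (q ^ 2) ^ j), ← Finset.sum_range_id,
    ← Finset.prod_pow_eq_pow_sum, ← Finset.prod_range_reflect (fun j => (q ^ 2) ^ (j + 1) - 1),
    ← Finset.prod_mul_distrib]
  refine Finset.prod_congr rfl fun j hj => ?_
  rw [Finset.mem_range] at hj
  rw [Nat.mul_sub, mul_one, ← pow_add, show j + (m - 1 - j + 1) = m by omega]

theorem card_iso_identity (n₀ m : ℕ) :
    Nat.card {W : Submodule F (Fin (n₀ + 2 * m) → F) //
        finrank F W = m ∧ ∀ u ∈ W, ∀ v ∈ W, hermForm (n₀ + 2 * m) F q u v = 0} *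
      (∏ j ∈ Finset.range m, ((q ^ 2) ^ (j + 1) - 1)) = ∏ i ∈ Finset.Ico n₀ (n₀ + 2 * m), guFactor q i := by
  classical
  obtain ⟨N, hN⟩ : ∃ N, N = n₀ + 2 * m := ⟨_, rfl⟩
  have hfr := unitaryOrder_frame hF m n₀
  rw [← hN] at hfr ⊢
  obtain ⟨π, hπ⟩ : ∃ π : IsoFrame F (hermForm N F q) m →
      {W : Submodule F (Fin N → F) // finrank F W = m ∧ ∀ u ∈ W, ∀ v ∈ W, hermForm N F q u v = 0},
      ∀ f, (π f).1 = Submodule.span F (Set.range f.1) := by
    refine ⟨fun f => ⟨Submodule.span F (Set.range f.1), (finrank_span_eq_card f.2.1).trans (Fintype.card_fin m),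
      fun u hu v hv => ?_⟩, fun f => rfl⟩
    induction hu using Submodule.span_induction with
    | zero => exact h_zero_left v
    | add y y' _ _ h h' => rw [hermForm_add_left, h, h', add_zero]
    | smul c y _ h => rw [hermForm_smul_left, h, mul_zero]
    | mem y hy =>
      induction hv using Submodule.span_induction with
      | zero => exact h_zero_right hF y
      | add b b' _ _ h h' => rw [h_add_right hF, h, h', add_zero]
      | smul c b _ h => rw [h_smul_right hF, h, mul_zero]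
      | mem b hb =>
        obtain ⟨k, rfl⟩ := hy
        obtain ⟨l, rfl⟩ := hb
        exact f.2.2 k l
  have hcard : Nat.card (IsoFrame F (hermForm N F q) m) =
      Nat.card {W : Submodule F (Fin N → F) // finrank F W = m ∧ ∀ u ∈ W, ∀ v ∈ W, hermForm N F q u v = 0} *
        ∏ i : Fin m, ((q ^ 2) ^ m - (q ^ 2) ^ (i : ℕ)) := by
    haveI := Fintype.ofFinite {W : Submodule F (Fin N → F) //
      finrank F W = m ∧ ∀ u ∈ W, ∀ v ∈ W, hermForm N F q u v = 0}
    rw [← Nat.card_congr (Equiv.sigmaFiberEquiv π), Nat.card_sigma, Finset.sum_congr rfl fun W _ => ?_,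
      Finset.sum_const, Finset.card_univ, smul_eq_mul, Nat.card_eq_fintype_card]
    rw [← hF, ← card_frames_in (hermForm N F q) W.2.2 W.2.1]
    refine Nat.card_congr (Equiv.subtypeEquivRight fun f => ⟨fun h i => ?_, fun h => Subtype.ext ?_⟩)
    · rw [← h, hπ]; exact Submodule.subset_span ⟨i, rfl⟩
    · rw [hπ]
      refine Submodule.eq_of_le_of_finrank_eq (Submodule.span_le.2 ?_) ?_
      · rintro _ ⟨i, rfl⟩; exact h i
      · rw [finrank_span_eq_card f.2.1, Fintype.card_fin, W.2.1]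
  rw [hcard, prod_gl hF, hN, unitaryOrder_split q n₀ (2 * m), unitaryOrder, ← hN] at hfr
  have hexp : N * (N - 1) / 2 = m * (2 * n₀ + m) + n₀ * (n₀ - 1) / 2 + 2 * (m * (m - 1) / 2) := by
    rw [hN, tri_add, two_mul m, tri_add]
    have h2 : m * (2 * n₀ + m) = n₀ * (m + m) + m * m := by ring
    omega
  rw [hexp, pow_add, pow_add, pow_mul q 2 (m * (m - 1) / 2)] at hfr
  have hq := two_le_q hF
  have hpos : 0 < q ^ (m * (2 * n₀ + m)) * q ^ (n₀ * (n₀ - 1) / 2) * (q ^ 2) ^ (m * (m - 1) / 2) *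
      ∏ i ∈ Finset.range n₀, guFactor q i :=
    Nat.mul_pos (by positivity) (Finset.prod_pos fun i _ => guFactor_pos hq i)
  refine Nat.eq_of_mul_eq_mul_left hpos ?_
  have e : (∏ i ∈ Finset.range n₀, (if Even i then q ^ (i + 1) + 1 else q ^ (i + 1) - 1)) =
      ∏ i ∈ Finset.range n₀, guFactor q i := rfl
  rw [e] at hfr
  linear_combination -hfr

theorem iso_window [hr : Fact r.Prime] (hrF : (r : F) ≠ 0) (hm : 2 * m ≤ n)
    (h : r ∣ Nat.card {W : Submodule F (Fin n → F) // finrank F W = m ∧ ∀ u ∈ W, ∀ v ∈ W, hermForm n F q u v = 0}) :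
    ∃ j, n - 2 * m < j ∧ j ≤ n ∧ cOrd r q ∣ j := by
  obtain ⟨n₀, rfl⟩ : ∃ n₀, n = n₀ + 2 * m := ⟨n - 2 * m, by omega⟩
  rw [Nat.add_sub_cancel]
  exact exists_mul_of_dvd_range (q_ne_zero hF hrF) (by have := two_le_q hF; omega)
    (card_iso_identity hF n₀ m ▸ h.mul_right _)

theorem not_dvd_iso {p : ℕ} [hp : Fact p.Prime] [CharP F p] (hm : 2 * m ≤ n) :
    ¬ p ∣ Nat.card {W : Submodule F (Fin n → F) // finrank F W = m ∧ ∀ u ∈ W, ∀ v ∈ W, hermForm n F q u v = 0} := by
  intro h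
  obtain ⟨n₀, rfl⟩ : ∃ n₀, n = n₀ + 2 * m := ⟨n - 2 * m, by omega⟩
  obtain ⟨i, -, hd⟩ := (Prime.dvd_finset_prod_iff hp.out.prime _).1 (card_iso_identity hF n₀ m ▸ h.mul_right _)
  obtain ⟨e, -, he⟩ := FiniteField.card F p
  have hpq : p ∣ q := hp.out.dvd_of_dvd_pow (he.symm.trans hF ▸ dvd_pow_self p e.pos.ne')
  have hpi : p ∣ q ^ (i + 1) := dvd_pow hpq (Nat.succ_ne_zero i)
  unfold guFactor at hd
  split_ifs at hd
  · exact hp.out.not_dvd_one ((Nat.dvd_add_right hpi).1 hd)
  · have h1 : 1 ≤ q ^ (i + 1) := Nat.one_le_pow _ _ (by have := two_le_q hF; omega)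
    have := Nat.dvd_sub hpi hd
    rw [Nat.sub_sub_self h1] at this
    exact hp.out.not_dvd_one this

theorem card_nd_identity (m n₁ : ℕ) :
    Nat.card {W : Submodule F (Fin (m + n₁) → F) //
        finrank F W = m ∧ ∀ u ∈ W, u ≠ 0 → ∃ v ∈ W, hermForm (m + n₁) F q u v ≠ 0} *
      (∏ i ∈ Finset.range m, guFactor q i) = q ^ (m * n₁) * ∏ i ∈ Finset.Ico n₁ (n₁ + m), guFactor q i := by
  classical
  obtain ⟨W₀, hW₀d, hW₀⟩ : ∃ W₀ : Submodule F (Fin (m + n₁) → F), finrank F W₀ = m ∧ HNd q W₀ := by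
    obtain ⟨U, -, hU, hd⟩ := exists_nd_sub hF (X := (⊤ : Submodule F (Fin (m + n₁) → F))) (nd_univ hF) (j := m)
      (by rw [finrank_top, Module.finrank_fin_fun]; omega)
    exact ⟨U, hd, hU⟩
  letI : MulAction (GU (m + n₁) F q) (Submodule F (Fin (m + n₁) → F)) :=
    { smul := fun g W => W.map (guLin g).toLinearMap
      one_smul := fun W => by
        show W.map (guLin (1 : GU (m + n₁) F q)).toLinearMap = W
        rw [show (guLin (1 : GU (m + n₁) F q)).toLinearMap = LinearMap.id from LinearMap.ext guApply_one]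
        exact Submodule.map_id W
      mul_smul := fun g k W => by
        show W.map (guLin (g * k)).toLinearMap = (W.map (guLin k).toLinearMap).map (guLin g).toLinearMap
        rw [← Submodule.map_comp]
        exact congrArg (fun T => W.map T) (LinearMap.ext (guApply_mul g k)) }
  have horb : MulAction.orbit (GU (m + n₁) F q) W₀ =
      {W : Submodule F (Fin (m + n₁) → F) | finrank F W = m ∧ ∀ u ∈ W, u ≠ 0 → ∃ v ∈ W, hermForm (m + n₁) F q u v ≠ 0} := by
    ext W
    constructor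
    · rintro ⟨g, rfl⟩
      refine ⟨((Submodule.equivMapOfInjective _ (guLin g).injective W₀).finrank_eq).symm.trans hW₀d, hnd_iff.1 ?_⟩
      rintro _ ⟨u, hu, rfl⟩ h'
      rw [hW₀ u hu fun v hv => (guApply_form g u v).symm.trans (h' _ ⟨v, hv, rfl⟩), map_zero]
    · rintro ⟨hWd, hW⟩
      obtain ⟨b, hb, hbs⟩ := exists_orthonormal_span hF W₀ hW₀
      obtain ⟨c, hc, hcs⟩ := exists_orthonormal_span hF W (hnd_iff.2 hW)
      revert b c
      rw [hW₀d, hWd]
      intro b hb hbs c hc hcs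
      obtain ⟨g, hg⟩ := exists_gu_map hF hb hc
      refine ⟨g, ?_⟩
      show W₀.map (guLin g).toLinearMap = W
      rw [← hbs, ← hcs, Submodule.map_span, ← Set.range_comp]
      exact congrArg (fun s => Submodule.span F (Set.range s)) (funext hg)
  have hstab : MulAction.stabilizer (GU (m + n₁) F q) W₀ =
      (stabilizing (glToMat (Fin (m + n₁)) F) (W₀ : Set (Fin (m + n₁) → F))).subgroupOf (GU (m + n₁) F q) := by
    ext g
    rw [MulAction.mem_stabilizer_iff]
    constructor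
    · intro hg v
      constructor
      · intro hv
        exact hg.le ⟨v, hv, rfl⟩
      · intro hv
        obtain ⟨x, hx, hxv⟩ := hg.ge hv
        exact (guLin g).injective (hxv.trans rfl) ▸ hx
    · intro hg
      refine Submodule.eq_of_le_of_finrank_eq ?_ ?_
      · rintro _ ⟨x, hx, rfl⟩
        exact (hg x).1 hx
      · exact ((Submodule.equivMapOfInjective _ (guLin g).injective W₀).finrank_eq).symm
  obtain ⟨e⟩ := stab_nondeg_equiv hF W₀ hW₀d hW₀
  have h := Nat.card_congr (MulAction.orbitProdStabilizerEquivGroup (GU (m + n₁) F q) W₀)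
  rw [Nat.card_prod, horb, hstab, Nat.card_congr e.toEquiv, Nat.card_prod, card_gu hF, card_gu hF, card_gu hF,
    add_comm m n₁, unitaryOrder_split q n₁ m, tri_add, pow_add, pow_add, unitaryOrder, unitaryOrder] at h
  have hq := two_le_q hF
  have hpos : 0 < q ^ (n₁ * (n₁ - 1) / 2) * q ^ (m * (m - 1) / 2) * ∏ i ∈ Finset.range n₁, guFactor q i :=
    Nat.mul_pos (by positivity) (Finset.prod_pos fun i _ => guFactor_pos hq i)
  refine Nat.eq_of_mul_eq_mul_left hpos ?_
  rw [add_comm m n₁]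
  have e1 : ∀ k, (∏ i ∈ Finset.range k, (if Even i then q ^ (i + 1) + 1 else q ^ (i + 1) - 1)) =
      ∏ i ∈ Finset.range k, guFactor q i := fun k => rfl
  rw [e1, e1] at h
  rw [mul_comm m n₁]
  simp only [Set.coe_setOf] at h
  linear_combination h

theorem nd_window [hr : Fact r.Prime] (hrF : (r : F) ≠ 0) (hm : m ≤ n)
    (h : r ∣ Nat.card {W : Submodule F (Fin n → F) //
      finrank F W = m ∧ ∀ u ∈ W, u ≠ 0 → ∃ v ∈ W, hermForm n F q u v ≠ 0}) :
    ∃ j, n - m < j ∧ j ≤ n ∧ cOrd r q ∣ j := by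
  obtain ⟨n₁, rfl⟩ : ∃ n₁, n = m + n₁ := ⟨n - m, by omega⟩
  rw [Nat.add_sub_cancel_left]
  have h1 := card_nd_identity hF m n₁ ▸ h.mul_right (∏ i ∈ Finset.range m, guFactor q i)
  rcases hr.out.dvd_mul.1 h1 with h2 | h2
  · exact absurd ((ZMod.natCast_eq_zero_iff q r).2 (hr.out.dvd_of_dvd_pow h2)) (q_ne_zero hF hrF)
  · rw [add_comm m n₁]
    exact exists_mul_of_dvd_range (q_ne_zero hF hrF) (by have := two_le_q hF; omega) h2

end CfsgLib.Classical.UnitElusive
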