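/-
Elements of prime order of the unitary group without invariant totally isotropic or non-degenerate subspaces.
-/
import Cfsg.Agent.Lib.Classical.UnitElusive.Two
import Cfsg.Agent.Lib.Classical.UnitElusive.Unipotent
import Cfsg.Agent.Lib.Classical.UnitElusive.Window

set_option autoImplicit false

namespace CfsgLib.Classical.UnitElusive

open Module Polynomial Matrix CfsgLib.Classical Cfsg CfsgLib.Classical22.PrimeMaps

universe u

variable {F : Type u} [Field F] [Fintype F] {q n m r p : ℕ}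

theorem mod_le_of_window {n c j : ℕ} (hj : j ≤ n) (hc : c ∣ j) : n % c ≤ n - j := by
  obtain ⟨k, rfl⟩ := hc
  conv_lhs => rw [← Nat.add_sub_cancel' hj, Nat.mul_add_mod]
  exact Nat.mod_le _ _

theorem two_partition {n m : ℕ} (hmn : m ≤ n) : (Odd n ∨ Even m) ↔
    ∀ μ : Multiset ℕ, (∀ a ∈ μ, 0 < a ∧ a ≤ 2) → μ.sum = n → ∃ ν : Multiset ℕ, ν ≤ μ ∧ ν.sum = m := by
  constructor
  · intro h μ hμ hsum
    have hsplit : μ = Multiset.replicate (μ.count 2) 2 + Multiset.replicate (μ.count 1) 1 := by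
      refine Multiset.ext.2 fun a => ?_
      rw [Multiset.count_add, Multiset.count_replicate, Multiset.count_replicate]
      by_cases h2 : 2 = a
      · subst h2; simp
      by_cases h1 : 1 = a
      · subst h1; simp
      rw [if_neg h2, if_neg h1, Multiset.count_eq_zero]
      intro ha
      have := hμ a ha
      omega
    obtain ⟨a, ha⟩ : ∃ a, a = μ.count 2 := ⟨_, rfl⟩
    obtain ⟨b, hb⟩ : ∃ b, b = μ.count 1 := ⟨_, rfl⟩
    rw [← ha, ← hb] at hsplit
    have hn : 2 * a + b = n := by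
      rw [← hsum, hsplit, Multiset.sum_add, Multiset.sum_replicate, Multiset.sum_replicate]
      simp [mul_comm]
    obtain ⟨s, hs⟩ : ∃ s, s = min a (m / 2) := ⟨_, rfl⟩
    refine ⟨Multiset.replicate s 2 + Multiset.replicate (m - 2 * s) 1, ?_, ?_⟩
    · rw [hsplit]
      refine add_le_add ((Multiset.replicate_le_replicate 2).2 (by omega))
        ((Multiset.replicate_le_replicate 1).2 ?_)
      rcases h with h | h
      · have := Nat.odd_iff.1 h; omega
      · have := Nat.even_iff.1 h; omega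
    · rw [Multiset.sum_add, Multiset.sum_replicate, Multiset.sum_replicate]
      simp
      omega
  · intro h
    by_contra hc
    push Not at hc
    obtain ⟨k, hk⟩ : Even n := Nat.not_odd_iff_even.1 hc.1
    obtain ⟨ν, hν, hνm⟩ := h (Multiset.replicate k 2)
      (fun a ha => by rw [Multiset.eq_of_mem_replicate ha]; omega)
      (by rw [Multiset.sum_replicate, smul_eq_mul]; omega)
    rw [Multiset.eq_replicate_card.2 (fun b hb => Multiset.eq_of_mem_replicate (Multiset.mem_of_le hν hb)),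
      Multiset.sum_replicate, smul_eq_mul] at hνm
    exact hc.2 ⟨ν.card, by omega⟩

variable (hF : Fintype.card F = q ^ 2)
include hF

theorem element_props (hn : 0 < n) {x : Matrix.SpecialLinearGroup (Fin n) F} (hx : x ∈ Cfsg.SU n F q) {z : F}
    (hz : ((x ^ r : Matrix.SpecialLinearGroup (Fin n) F) : Matrix (Fin n) (Fin n) F) = z • 1) :
    (∀ a b, hermForm n F q (Matrix.toLin' (x : Matrix (Fin n) (Fin n) F) a)
        (Matrix.toLin' (x : Matrix (Fin n) (Fin n) F) b) = hermForm n F q a b) ∧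
      (∀ v, (Matrix.toLin' (x : Matrix (Fin n) (Fin n) F) ^ r) v = z • v) ∧
      LinearMap.det (Matrix.toLin' (x : Matrix (Fin n) (Fin n) F)) = 1 ∧ z ^ (q + 1) = 1 ∧
      (x : Matrix (Fin n) (Fin n) F) ^ r = z • 1 := by
  rw [Matrix.SpecialLinearGroup.coe_pow] at hz
  have hB := su_isometry (q := q) hx
  exact ⟨hB, toLin'_pow_scalar hz, by rw [LinearMap.det_toLin', x.det_coe],
    scalar_norm hF hn hB (toLin'_pow_scalar hz), hz⟩

theorem blocks_witness [hr : Fact r.Prime] (hrF : (r : F) ≠ 0) (hn : 0 < n) (hc : cOrd r q ≠ 1) (hcn : cOrd r q ≤ n) :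
    ∃ x : Matrix.SpecialLinearGroup (Fin n) F, x ∈ Cfsg.SU n F q ∧
      ((x ^ r : Matrix.SpecialLinearGroup (Fin n) F) : Matrix (Fin n) (Fin n) F) = (1 : F) • 1 ∧
      (∀ z : F, (x : Matrix (Fin n) (Fin n) F) ≠ z • 1) ∧
      (∀ a b, hermForm n F q (Matrix.toLin' (x : Matrix (Fin n) (Fin n) F) a)
          (Matrix.toLin' (x : Matrix (Fin n) (Fin n) F) b) = hermForm n F q a b) ∧
      (∀ v, (Matrix.toLin' (x : Matrix (Fin n) (Fin n) F) ^ r) v = v) ∧
      finrank F (fixed (Matrix.toLin' (x : Matrix (Fin n) (Fin n) F))) = n % cOrd r q := by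
  have hc0 := cOrd_pos (q_ne_zero hF hrF)
  obtain ⟨f, hfB, hf, hfix⟩ := exists_blocks (n := n) (e := n / cOrd r q) hF hrF (Nat.div_mul_le_self _ _)
  have hk : finrank F (fixed f) = n % cOrd r q := by
    rw [hfix]; have := Nat.div_add_mod' n (cOrd r q); omega
  obtain ⟨x, hx, hxf⟩ := exists_su (det_of_order hF hc hfB hf) hfB
  refine ⟨x, hx, ?_, fun z hz => ?_, hxf ▸ hfB, hxf ▸ hf, hxf ▸ hk⟩
  · rw [Matrix.SpecialLinearGroup.coe_pow, one_smul]
    exact Matrix.ext_of_mulVec_single fun i => by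
      rw [← Matrix.toLin'_apply, Matrix.toLin'_pow, hxf, hf, Matrix.one_mulVec]
  · refine not_scalar hF hn hc hfB hf ?_ z (by rw [← hxf, hz, map_smul, Matrix.toLin'_one]; rfl)
    have := Nat.mod_lt n hc0
    omega

theorem iso_main [hp : Fact p.Prime] [CharP F p] [hr : Fact r.Prime] (hn : 3 ≤ n) (hm : 1 ≤ m) (hmn : 2 * m ≤ n)
    (hrΩ : r ∣ Nat.card {W : Submodule F (Fin n → F) //
      finrank F W = m ∧ (∀ u ∈ W, ∀ v ∈ W, hermForm n F q u v = 0)})
    (i b c : ℕ) (hi : i = orderOf (q : ZMod r)) (hb : b = if Even i then i / 2 else i)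
    (hc : c = if i % 4 = 0 then i else if i % 4 = 2 then i / 2 else 2 * i) :
    (∀ x : Matrix.SpecialLinearGroup (Fin n) F, x ∈ Cfsg.SU n F q →
      (∃ z : F, ((x ^ r : Matrix.SpecialLinearGroup (Fin n) F) : Matrix (Fin n) (Fin n) F) =
        z • (1 : Matrix (Fin n) (Fin n) F)) →
      (∀ z : F, (x : Matrix (Fin n) (Fin n) F) ≠ z • (1 : Matrix (Fin n) (Fin n) F)) →
      ∃ W : Submodule F (Fin n → F), finrank F W = m ∧ (∀ u ∈ W, ∀ v ∈ W, hermForm n F q u v = 0) ∧
        W.map (Matrix.toLin' (x : Matrix (Fin n) (Fin n) F)) ≤ W) ↔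
    ((r = 2 ∧ p ≠ 2 ∧ (2 * m < n ∨ padicValNat 2 (q + 1) ≤ padicValNat 2 n)) ∨
     (r ≠ p ∧ 2 < r ∧ b ≤ m ∧ 2 * (m % b) ≤ n % c ∧
       (i % 4 ≠ 2 ∨ (i % 4 = 2 ∧ (r - 1) / b + 2 * (m / b) ≤ n / b ∧
         (2 < i ∨ (i = 2 ∧ (r ∣ m ∨ padicValNat r n ≤ padicValNat r (q + 1)))))))) := by
  classical
  by_cases hrp : r = p
  · subst hrp
    exact absurd hrΩ (not_dvd_iso hF hmn)
  have hrF : (r : F) ≠ 0 := natCast_ne_zero_of_ne (p := p) hrp
  have hq := q_ne_zero hF hrF
  by_cases hr2 : r = 2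
  · subst hr2
    have h2 : (2 : F) ≠ 0 := by exact_mod_cast hrF
    constructor
    · intro h
      refine Or.inl ⟨rfl, fun hp2 => hrp hp2.symm, ?_⟩
      by_contra hcon
      push Not at hcon
      obtain ⟨x, hx, ⟨z, hz⟩, hns, hno⟩ := exists_two_iso_witness hF h2 (show 2 * m = n by omega) hm hcon.2
      obtain ⟨W, hWd, hWi, hWx⟩ := h x hx ⟨z, by rw [Matrix.SpecialLinearGroup.coe_pow]; exact hz⟩ hns
      exact absurd hWd (hno W ((inv_iff_map _ W).1 hWx) hWi).ne
    · rintro (⟨-, -, hcond⟩ | ⟨-, h, -⟩) x hx ⟨z, hz⟩ hns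
      swap
      · omega
      obtain ⟨hB, hf, hdet, -, -⟩ := element_props hF (by omega) hx hz
      obtain ⟨W, hWd, hWi, hW⟩ := two_iso hF h2 (by omega) hB hdet hf hmn hcond
      exact ⟨W, hWd, hWi, (inv_iff_map _ W).2 hW⟩
  have hr3 : 2 < r := by have := hr.out.two_le; omega
  have hb' : b = bOrd r q := by rw [bOrd_formula hq, ← hi, hb]
  have hc' : c = cOrd r q := by rw [cOrd_formula hq hr2, ← hi, hc]
  have hb0 := bOrd_pos hq
  have hc0 := cOrd_pos hq
  have hcc := cOrd_cases hq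
  have hev := Nat.even_iff (n := i)
  have hi4 : i % 4 = 2 ↔ c = b := by
    rw [hb, hc]
    rw [← hb', hb] at hb0
    rcases Nat.even_or_odd i with he | he
    · rw [if_pos he] at hb0 ⊢
      have := Nat.even_iff.1 he
      split_ifs <;> omega
    · rw [if_neg (Nat.not_even_iff_odd.2 he)] at hb0 ⊢
      have := Nat.odd_iff.1 he
      split_ifs <;> omega
  have hi2 : i = 2 ↔ c = 1 := by
    rw [hc]; rw [← hb', hb] at hb0
    rcases Nat.even_or_odd i with he | he
    · rw [if_pos he] at hb0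
      have := Nat.even_iff.1 he
      split_ifs <;> omega
    · have := Nat.odd_iff.1 he
      split_ifs <;> omega
  obtain ⟨j, hj1, hjn, hjc⟩ := iso_window hF hrF hmn hrΩ
  have hwin : n % cOrd r q < 2 * m := lt_of_le_of_lt (mod_le_of_window hjn hjc) (by omega)
  have hcn : cOrd r q ≤ n := (Nat.le_of_dvd (by omega) hjc).trans hjn
  rw [hb', hc'] at *
  constructor
  · intro h
    refine Or.inr ⟨hrp, hr3, ?_⟩
    have hA : 2 * (m % bOrd r q) ≤ n % cOrd r q := by
      by_contra hcon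
      push Not at hcon
      have hb1 : bOrd r q ≠ 1 := fun h1 => by rw [h1, Nat.mod_one] at hcon; omega
      obtain ⟨x, hx, hxr, hns, hB, hf, hfix⟩ := blocks_witness (n := n) hF hrF (by omega)
        (fun h1 => hb1 (Nat.dvd_one.1 (h1 ▸ bOrd_dvd_cOrd))) hcn
      obtain ⟨W, hWd, hWi, hWx⟩ := h x hx ⟨1, hxr⟩ hns
      obtain ⟨u, t, hu, hd⟩ := iso_inv_dim hF hB hrF hf ((inv_iff_map _ W).1 hWx) hWi
      rw [hWd] at hd
      rw [hfix] at hu
      have := mod_le_of_add_mul hd.symm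
      omega
    have hbm : bOrd r q ≤ m := by
      by_contra hcon
      rw [Nat.mod_eq_of_lt (by omega)] at hA
      omega
    refine ⟨hbm, hA, ?_⟩
    by_cases h4 : i % 4 = 2
    swap
    · exact Or.inl h4
    have hcb := hi4.1 h4
    refine Or.inr ⟨h4, ?_, ?_⟩
    · by_contra hcon
      push Not at hcon
      obtain ⟨b', hbdef⟩ : ∃ b', b' = bOrd r q := ⟨_, rfl⟩
      rw [← hbdef] at hb0 hbm hA hcon
      obtain ⟨s, hs⟩ : ∃ s, s = (r - 1) / b' := ⟨_, rfl⟩
      obtain ⟨n', hn'⟩ : ∃ n', n' = n / b' := ⟨_, rfl⟩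
      obtain ⟨m', hm'⟩ : ∃ m', m' = m / b' := ⟨_, rfl⟩
      rw [← hs, ← hn', ← hm'] at hcon
      by_cases hb1 : b' = 1
      · subst hb1
        rw [Nat.div_one] at hs hn' hm'
        obtain ⟨M, hdet, hMr, hns, hB, hno⟩ := exists_diag (F := F) hF hr2
          (cOrd_eq_one_iff.1 (hcb.trans hbdef.symm)) hm hmn (by omega)
        obtain ⟨x, hxM⟩ : ∃ x : Matrix.SpecialLinearGroup (Fin n) F, (x : Matrix (Fin n) (Fin n) F) = M :=
          ⟨⟨M, hdet⟩, rfl⟩
        subst hxM
        obtain ⟨W, hWd, hWi, hWx⟩ := h x (fun u v => by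
            have := hB u v; rwa [Matrix.toLin'_apply, Matrix.toLin'_apply] at this)
          ⟨1, by rw [Matrix.SpecialLinearGroup.coe_pow, one_smul]; exact hMr⟩ hns
        exact absurd hWd (hno W ((inv_iff_map _ W).1 hWx) hWi).ne
      have hm'1 : 1 ≤ m' := hm' ▸ (Nat.one_le_div_iff hb0).2 hbm
      have hnk := Nat.div_add_mod' n b'
      rw [← hn'] at hnk
      have hml := Nat.div_add_mod' m b'
      rw [← hm'] at hml
      have hkb := Nat.mod_lt n hb0
      have hle : 2 * m' ≤ n' := by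
        by_contra hh
        have := Nat.mul_le_mul_right b' (show n' + 1 ≤ 2 * m' by omega)
        rw [add_one_mul, mul_assoc] at this
        omega
      obtain ⟨D, hD⟩ : ∃ D, D = n' - 2 * m' + 1 := ⟨_, rfl⟩
      have hDs : D ≤ s := by omega
      obtain ⟨a, ha⟩ : ∃ a : Fin s → ℕ, ∀ j, a j = (if (j : ℕ) < D then 1 else 0) +
          (if (j : ℕ) = 0 then 2 * (m' - 1) else 0) := ⟨_, fun j => rfl⟩
      have hsum : ∑ j, a j = n' - 1 ∧ ∑ j, a j / 2 = m' - 1 := by
        obtain ⟨s', rfl⟩ : ∃ s', s = s' + 1 := ⟨s - 1, by omega⟩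
        have h1 : ∀ j : Fin s', a j.succ = if (j : ℕ) < D - 1 then 1 else 0 := fun j => by
          rw [ha, Fin.val_succ, if_neg (Nat.succ_ne_zero _)]
          split_ifs <;> omega
        have h0 : a 0 = 1 + 2 * (m' - 1) := by rw [ha, Fin.val_zero, if_pos (by omega), if_pos rfl]
        rw [Fin.sum_univ_succ, Fin.sum_univ_succ, h0]
        simp only [h1]
        constructor
        · rw [Fin.sum_univ_eq_sum_range (fun j => if j < D - 1 then 1 else 0), Finset.sum_ite, Finset.sum_const_zero,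
            add_zero, Finset.sum_const, smul_eq_mul, mul_one,
            show (Finset.range s').filter (fun j => j < D - 1) = Finset.range (D - 1) by ext j; simp; omega,
            Finset.card_range]
          omega
        · rw [Finset.sum_eq_zero fun j _ => by split_ifs <;> rfl, add_zero]
          omega
      have hsb : s * bOrd r q = r - 1 := by rw [hs, hbdef]; exact Nat.div_mul_cancel (bOrd_dvd_sub hq)
      have hne1 : n' - 1 + 1 = n' := by omega
      obtain ⟨f, hfB, hf, hfix, hno⟩ := exists_typed (n := n) hF hrF hcb hsb a (k := n % b' + b') (by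
        rw [hsum.1, ← hbdef, mul_comm b']
        have e := congrArg (· * b') hne1
        simp only [add_one_mul] at e
        omega)
      have hc1 : cOrd r q ≠ 1 := by rw [hcb, ← hbdef]; exact hb1
      obtain ⟨x, hx, hxf⟩ := exists_su (det_of_order hF hc1 hfB hf) hfB
      obtain ⟨W, hWd, hWi, hWx⟩ := h x hx ⟨1, by
          rw [Matrix.SpecialLinearGroup.coe_pow, one_smul]
          exact Matrix.ext_of_mulVec_single fun i => by
            rw [← Matrix.toLin'_apply, Matrix.toLin'_pow, hxf, hf, Matrix.one_mulVec]⟩ fun z hz => by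
          refine not_scalar hF (by omega) hc1 hfB hf ?_ z (by rw [← hxf, hz, map_smul, Matrix.toLin'_one]; rfl)
          have h1 := Nat.mul_le_mul_right b' (show 2 ≤ n' by omega)
          omega
      obtain ⟨u, t, hu, ht, hd⟩ := hno W (hxf ▸ (inv_iff_map _ W).1 hWx) hWi
      rw [hWd, ← hbdef] at hd
      rw [hsum.2] at ht
      have h2 := Nat.mul_le_mul_right b' (show t + 1 ≤ m' by omega)
      rw [add_one_mul] at h2
      omega
    · by_cases hi' : i = 2
      swap
      · left; omega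
      refine Or.inr ⟨hi', ?_⟩
      by_contra hcon
      push Not at hcon
      obtain ⟨x, z, hx, hz, hns, hnp⟩ := exists_nonpower (n := n) hF hr2 hrF (by omega)
        (cOrd_eq_one_iff.1 (hi2.1 hi')) hcon.2
      obtain ⟨W, hWd, -, hWx⟩ := h x hx ⟨z, by rw [Matrix.SpecialLinearGroup.coe_pow]; exact hz⟩ hns
      exact hcon.1 (hWd ▸ nonpower_dvd_dim hF hnp (toLin'_pow_scalar hz) hrF ((inv_iff_map _ W).1 hWx))
  · rintro (⟨h, -⟩ | ⟨-, -, hbm, hmod, hrest⟩) x hx ⟨z, hz⟩ hns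
    · omega
    obtain ⟨hB, hf, -, hzq, hM⟩ := element_props hF (by omega) hx hz
    by_cases hroot : ∃ b : F, b ^ r = z
    · obtain ⟨s, hs1, hs⟩ := exists_scalar_root hF hr2 hzq (Or.inr hroot)
      obtain ⟨g, hgB, hg, hinv, -⟩ := exists_unscaled hF hB hs1 hs hf
      obtain ⟨W, hWd, hWi, hW⟩ := exists_iso_inv hF hgB hrF hg hr2 hmn hmod (fun hcb => by
        rcases hrest with h' | ⟨-, h', -⟩
        · exact absurd (hi4.2 hcb) h'
        · exact h')
      exact ⟨W, hWd, hWi, (inv_iff_map _ W).2 (hinv W hW)⟩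
    · push Not at hroot
      obtain ⟨hrq, hv⟩ := nonpower_cond hF hr2 hrF (by omega) x.det_coe hM hzq hroot
      have hi2' := hi2.2 (cOrd_eq_one_iff.2 hrq)
      have hrm : r ∣ m := by
        rcases hrest with h' | ⟨-, -, h' | ⟨-, h' | h'⟩⟩
        · omega
        · omega
        · exact h'
        · omega
      obtain ⟨W, hWd, hWi, hW⟩ := exists_iso_nonpower hF hroot hzq hB hf hrF hrm hmn
      exact ⟨W, hWd, hWi, (inv_iff_map _ W).2 hW⟩

theorem nd_main [hp : Fact p.Prime] [CharP F p] [hr : Fact r.Prime] (hn : 3 ≤ n) (hm : 1 ≤ m) (hmn : 2 * m < n)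
    (hrΩ : r ∣ Nat.card {W : Submodule F (Fin n → F) //
      finrank F W = m ∧ (∀ u ∈ W, u ≠ 0 → ∃ v ∈ W, hermForm n F q u v ≠ 0)})
    (i b c : ℕ) (hi : i = orderOf (q : ZMod r)) (hb : b = if Even i then i / 2 else i)
    (hc : c = if i % 4 = 0 then i else if i % 4 = 2 then i / 2 else 2 * i) :
    (∀ x : Matrix.SpecialLinearGroup (Fin n) F, x ∈ Cfsg.SU n F q →
      (∃ z : F, ((x ^ r : Matrix.SpecialLinearGroup (Fin n) F) : Matrix (Fin n) (Fin n) F) =
        z • (1 : Matrix (Fin n) (Fin n) F)) →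
      (∀ z : F, (x : Matrix (Fin n) (Fin n) F) ≠ z • (1 : Matrix (Fin n) (Fin n) F)) →
      ∃ W : Submodule F (Fin n → F), finrank F W = m ∧ (∀ u ∈ W, u ≠ 0 → ∃ v ∈ W, hermForm n F q u v ≠ 0) ∧
        W.map (Matrix.toLin' (x : Matrix (Fin n) (Fin n) F)) ≤ W) ↔
    ((r = p ∧ 2 < p ∧ (∀ μ : Multiset ℕ, (∀ a ∈ μ, 0 < a ∧ a ≤ p) → μ.sum = n → ∃ ν : Multiset ℕ, ν ≤ μ ∧ ν.sum = m)) ∨
     (r = p ∧ p = 2 ∧ (Odd n ∨ Even m)) ∨
     (r = 2 ∧ p ≠ 2 ∧ (Odd n ∨ Even m ∨ (padicValNat 2 n ≤ padicValNat 2 (q + 1) ∧ q % 4 = 3))) ∨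
     (r ≠ p ∧ 2 < r ∧ ((i ≠ 2 ∧ c ≤ m ∧ m % c ≤ n % c) ∨
       (i = 2 ∧ (r ∣ m ∨ padicValNat r n ≤ padicValNat r (q + 1)))))) := by
  classical
  have hq2 := two_le_q hF
  by_cases hrp : r = p
  · subst hrp
    refine Iff.trans (b := ∀ μ : Multiset ℕ, (∀ a ∈ μ, 0 < a ∧ a ≤ r) → μ.sum = n →
      ∃ ν : Multiset ℕ, ν ≤ μ ∧ ν.sum = m) ⟨fun h μ hμ hsum => ?_, fun h x hx hz hns => ?_⟩ ?_
    · by_cases h1 : ∀ a ∈ μ, a = 1
      · refine ⟨Multiset.replicate m 1, ?_, by simp⟩
        rw [Multiset.eq_replicate_card.2 h1]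
        refine (Multiset.replicate_le_replicate 1).2 ?_
        rw [Multiset.eq_replicate_card.2 h1, Multiset.sum_replicate, smul_eq_mul, mul_one] at hsum
        omega
      · obtain ⟨x, hx, hxp, hns, hno⟩ := exists_unipotent_witness (F := F) hF (show 1 ≤ n by omega) hμ hsum h1
        obtain ⟨W, hWd, hWn, hWx⟩ := h x hx ⟨1, by rw [Matrix.SpecialLinearGroup.coe_pow, one_smul]; exact hxp⟩ hns
        obtain ⟨ν, hν, hνd⟩ := hno W ((inv_iff_map _ W).1 hWx) (hnd_iff.2 hWn)
        exact ⟨ν, hν, hνd.trans hWd⟩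
    · obtain ⟨z, hz⟩ := hz
      obtain ⟨hB, hf, -, hzq, -⟩ := element_props hF (by omega) hx hz
      obtain ⟨s, hs1, hs⟩ : ∃ s : F, s ^ (q + 1) = 1 ∧ s ^ r = z := by
        have hrq : ¬ r ∣ q + 1 := fun hd => by
          obtain ⟨e, -, he⟩ := FiniteField.card F r
          have h1 : r ∣ q := hp.out.dvd_of_dvd_pow (he.symm.trans hF ▸ dvd_pow_self r e.pos.ne')
          exact hp.out.not_dvd_one ((Nat.dvd_add_right h1).1 hd)
        by_cases hr2 : r = 2
        · subst hr2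
          refine ⟨z ^ ((q + 2) / 2), by rw [← pow_mul, mul_comm, pow_mul, hzq, one_pow], ?_⟩
          rw [← pow_mul, show (q + 2) / 2 * 2 = q + 1 + 1 by omega, pow_succ, hzq, one_mul]
        · exact exists_scalar_root hF hr2 hzq (Or.inl hrq)
      obtain ⟨g, hgB, hg, hinv, -⟩ := exists_unscaled hF hB hs1 hs hf
      haveI : CharP (Module.End F (Fin n → F)) r :=
        haveI : Nonempty (Fin n) := ⟨⟨0, by omega⟩⟩
        charP_of_injective_algebraMap (algebraMap F (Module.End F (Fin n → F))).injective r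
      obtain ⟨W, hWd, hWn, hW⟩ := exists_nd_unipotent hF hgB (p := r) (by
        rw [sub_pow_char_of_commute r (Commute.one_right g), one_pow, sub_eq_zero]; exact LinearMap.ext hg) h
      exact ⟨W, hWd, hnd_iff.1 hWn, (inv_iff_map _ W).2 (hinv W hW)⟩
    · constructor
      · intro h
        rcases (show r = 2 ∨ 2 < r by have := hp.out.two_le; omega) with rfl | h2
        · exact Or.inr (Or.inl ⟨rfl, rfl, (two_partition (by omega)).2 h⟩)
        · exact Or.inl ⟨rfl, h2, h⟩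
      · rintro (⟨-, -, h⟩ | ⟨-, rfl, h⟩ | ⟨h1, h2, -⟩ | ⟨h1, -⟩)
        · exact h
        · exact (two_partition (by omega)).1 h
        · exact absurd h1 h2
        · exact absurd rfl h1
  have hrF : (r : F) ≠ 0 := natCast_ne_zero_of_ne (p := p) hrp
  have hq := q_ne_zero hF hrF
  by_cases hr2 : r = 2
  · subst hr2
    have h2 : (2 : F) ≠ 0 := by exact_mod_cast hrF
    constructor
    · intro h
      refine Or.inr (Or.inr (Or.inl ⟨rfl, fun hp2 => hrp hp2.symm, ?_⟩))
      by_contra hcon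
      push Not at hcon
      have hqo := Nat.odd_iff.1 (q_odd hF h2)
      obtain ⟨x, hx, ⟨z, hz⟩, hns, hev⟩ := exists_two_nd_witness hF h2 (Nat.not_odd_iff_even.1 hcon.1) (by omega)
        (by
          rcases (show q % 4 = 1 ∨ q % 4 = 3 by omega) with h4 | h4
          · exact Or.inl h4
          · right
            by_contra hv
            exact hcon.2.2 (by omega) h4)
      obtain ⟨W, hWd, hWn, hWx⟩ := h x hx ⟨z, by rw [Matrix.SpecialLinearGroup.coe_pow]; exact hz⟩ hns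
      exact hcon.2.1 (hWd ▸ hev W ((inv_iff_map _ W).1 hWx) (hnd_iff.2 hWn))
    · rintro (⟨h, -⟩ | ⟨h, -⟩ | ⟨-, -, hcond⟩ | ⟨-, h, -⟩) x hx ⟨z, hz⟩ hns
      · exact absurd h hrp
      · exact absurd h hrp
      swap
      · omega
      obtain ⟨hB, hf, hdet, -, -⟩ := element_props hF (by omega) hx hz
      obtain ⟨W, hWd, hWn, hW⟩ := two_nd hF h2 (by omega) hB hf (show m ≤ n by omega) (by
        rcases hcond with h | h | h
        · exact Or.inr (two_root hF h2 (by omega) hB hdet hf (Or.inl h))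
        · exact Or.inl h
        · exact Or.inr (two_root hF h2 (by omega) hB hdet hf (Or.inr h)))
      exact ⟨W, hWd, hnd_iff.1 hWn, (inv_iff_map _ W).2 hW⟩
  have hr3 : 2 < r := by have := hr.out.two_le; omega
  have hb' : b = bOrd r q := by rw [bOrd_formula hq, ← hi, hb]
  have hc' : c = cOrd r q := by rw [cOrd_formula hq hr2, ← hi, hc]
  have hb0 := bOrd_pos hq
  have hc0 := cOrd_pos hq
  have hi2 : i = 2 ↔ c = 1 := by
    rw [hc]; rw [← hb', hb] at hb0
    rcases Nat.even_or_odd i with he | he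
    · rw [if_pos he] at hb0
      have := Nat.even_iff.1 he
      split_ifs <;> omega
    · have := Nat.odd_iff.1 he
      split_ifs <;> omega
  obtain ⟨j, hj1, hjn, hjc⟩ := nd_window hF hrF (show m ≤ n by omega) hrΩ
  have hwin : n % cOrd r q < m := lt_of_le_of_lt (mod_le_of_window hjn hjc) (by omega)
  have hcn : cOrd r q ≤ n := (Nat.le_of_dvd (by omega) hjc).trans hjn
  rw [hc'] at *
  constructor
  · intro h
    refine Or.inr (Or.inr (Or.inr ⟨hrp, hr3, ?_⟩))
    by_cases hi' : i = 2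
    · refine Or.inr ⟨hi', ?_⟩
      by_contra hcon
      push Not at hcon
      obtain ⟨x, z, hx, hz, hns, hnp⟩ := exists_nonpower (n := n) hF hr2 hrF (by omega)
        (cOrd_eq_one_iff.1 (hi2.1 hi')) hcon.2
      obtain ⟨W, hWd, -, hWx⟩ := h x hx ⟨z, by rw [Matrix.SpecialLinearGroup.coe_pow]; exact hz⟩ hns
      exact hcon.1 (hWd ▸ nonpower_dvd_dim hF hnp (toLin'_pow_scalar hz) hrF ((inv_iff_map _ W).1 hWx))
    have hA : m % cOrd r q ≤ n % cOrd r q := by
      by_contra hcon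
      push Not at hcon
      obtain ⟨x, hx, hxr, hns, hB, hf, hfix⟩ := blocks_witness (n := n) hF hrF (by omega)
        (fun h1 => hi' (hi2.2 h1)) hcn
      obtain ⟨W, hWd, hWn, hWx⟩ := h x hx ⟨1, hxr⟩ hns
      obtain ⟨u, t, hu, hd⟩ := nd_inv_dim hF hB hrF hf ((inv_iff_map _ W).1 hWx) (hnd_iff.2 hWn)
      rw [hWd] at hd
      rw [hfix] at hu
      have := mod_le_of_add_mul hd.symm
      omega
    refine Or.inl ⟨hi', ?_, hA⟩
    by_contra hcon
    rw [Nat.mod_eq_of_lt (show m < cOrd r q by omega)] at hA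
    omega
  · rintro (⟨h, -⟩ | ⟨h, -⟩ | ⟨h, -⟩ | ⟨-, -, hcond⟩) x hx ⟨z, hz⟩ hns
    · exact absurd h hrp
    · exact absurd h hrp
    · exact absurd h hr2
    obtain ⟨hB, hf, -, hzq, hM⟩ := element_props hF (by omega) hx hz
    by_cases hroot : ∃ b : F, b ^ r = z
    · obtain ⟨s, hs1, hs⟩ := exists_scalar_root hF hr2 hzq (Or.inr hroot)
      obtain ⟨g, hgB, hg, hinv, -⟩ := exists_unscaled hF hB hs1 hs hf
      obtain ⟨W, hWd, hWn, hW⟩ := exists_nd_inv hF hgB hrF hg (show m ≤ n by omega) (by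
        rcases hcond with ⟨-, -, h'⟩ | ⟨h', -⟩
        · exact h'
        · rw [hi2.1 h', Nat.mod_one, Nat.mod_one])
      exact ⟨W, hWd, hnd_iff.1 hWn, (inv_iff_map _ W).2 (hinv W hW)⟩
    · push Not at hroot
      obtain ⟨hrq, hv⟩ := nonpower_cond hF hr2 hrF (by omega) x.det_coe hM hzq hroot
      have hi2' := hi2.2 (cOrd_eq_one_iff.2 hrq)
      have hrm : r ∣ m := by
        rcases hcond with ⟨h', -⟩ | ⟨-, h' | h'⟩
        · exact absurd hi2' h'
        · exact h'
        · omega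
      obtain ⟨W, hWd, hWn, hW⟩ := exists_nd_nonpower hF hroot hzq hB hf hrF hrm (show m ≤ n by omega)
      exact ⟨W, hWd, hnd_iff.1 hWn, (inv_iff_map _ W).2 hW⟩

end CfsgLib.Classical.UnitElusive
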